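import Cfsg.Agent.GH.L2One.AutData
import Cfsg.Agent.StandardComponent.AltAut

/-!
# GH-L2: the facts of the frame for `A₇`

`A7.exists_autData`: `AutData` for a Sylow 2-subgroup of `A₇`.
-/

set_option autoImplicit false

open Subgroup

namespace Cfsg.Agent.GH.L2One.A7

abbrev S7 := Equiv.Perm (Fin 7)
abbrev Alt := alternatingGroup (Fin 7)

/-- `(0 1 2 3)(4 5)` -/
def ρ : S7 := Equiv.swap 0 1 * Equiv.swap 1 2 * Equiv.swap 2 3 * Equiv.swap 4 5
/-- `(0 2)(4 5)` -/
def γ : S7 := Equiv.swap 0 2 * Equiv.swap 4 5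
/-- `(0 2)(1 3)` -/
def ζ : S7 := Equiv.swap 0 2 * Equiv.swap 1 3
/-- `(4 5)` -/
def τ : S7 := Equiv.swap 4 5

theorem ρρ : ρ * ρ = ζ := by decide +kernel

theorem ζ_ne : ζ ≠ 1 := by decide +kernel

theorem ρ4 : ρ ^ 4 = 1 := by decide +kernel

theorem ext_of {a b : S7} (h0 : a 0 = b 0) (h1 : a 1 = b 1) (h2 : a 2 = b 2) (h3 : a 3 = b 3)
    (h4 : a 4 = b 4) (h5 : a 5 = b 5) (h6 : a 6 = b 6) : a = b := by
  ext i
  fin_cases i <;> simp_all

theorem values : ∀ u v w w' : Fin 7, ζ u ≠ u → ζ v ≠ v → ζ w = w → ζ w' = w' → w ≠ 6 → w' ≠ 6 →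
    w ≠ w' → u ≠ v → ζ u ≠ v → ∃ i : Fin 4, ∃ j k : Fin 2,
      (ρ ^ i.val * γ ^ j.val * τ ^ k.val) 0 = u ∧ (ρ ^ i.val * γ ^ j.val * τ ^ k.val) 1 = v ∧
      (ρ ^ i.val * γ ^ j.val * τ ^ k.val) 4 = w ∧ (ρ ^ i.val * γ ^ j.val * τ ^ k.val) 5 = w' := by
  decide +kernel

theorem comp_eq : ∀ i : Fin 4, ∀ j k : Fin 2,
    (ρ ^ i.val * γ ^ j.val * τ ^ k.val) 6 = 6 ∧
    (ρ ^ i.val * γ ^ j.val * τ ^ k.val) 2 = ζ ((ρ ^ i.val * γ ^ j.val * τ ^ k.val) 0) ∧
    (ρ ^ i.val * γ ^ j.val * τ ^ k.val) 3 = ζ ((ρ ^ i.val * γ ^ j.val * τ ^ k.val) 1) := by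
  decide +kernel

/-- The centraliser of `ζ` in the stabiliser of `6`. -/
theorem form {a : S7} (h6 : a 6 = 6) (hz : a * ζ = ζ * a) : ∃ i : Fin 4, ∃ j k : Fin 2,
    a = ρ ^ i.val * γ ^ j.val * τ ^ k.val := by
  have hc : ∀ i, a (ζ i) = ζ (a i) := fun i => DFunLike.congr_fun hz i
  have hinj : ∀ i j, i ≠ j → a i ≠ a j := fun i j h h1 => h (a.injective h1)
  have z0 : ζ 0 = 2 := by decide +kernel
  have z1 : ζ 1 = 3 := by decide +kernel
  have z4 : ζ 4 = 4 := by decide +kernel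
  have z5 : ζ 5 = 5 := by decide +kernel
  have a2 : a 2 = ζ (a 0) := by rw [← hc, z0]
  have a3 : a 3 = ζ (a 1) := by rw [← hc, z1]
  obtain ⟨i, j, k, h1, h2, h3, h4⟩ := values (a 0) (a 1) (a 4) (a 5)
    (by rw [← a2]; exact hinj _ _ (by decide)) (by rw [← a3]; exact hinj _ _ (by decide))
    (by rw [← hc, z4]) (by rw [← hc, z5]) (by rw [← h6]; exact hinj _ _ (by decide))
    (by rw [← h6]; exact hinj _ _ (by decide)) (hinj _ _ (by decide)) (hinj _ _ (by decide))
    (by rw [← a2]; exact hinj _ _ (by decide))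
  obtain ⟨e6, e2, e3⟩ := comp_eq i j k
  refine ⟨i, j, k, ext_of h1.symm h2.symm ?_ ?_ h3.symm h4.symm ?_⟩
  · rw [a2, e2, h1]
  · rw [a3, e3, h2]
  · rw [h6, e6]

/-! ### the Sylow 2-subgroup -/

theorem ρ_mem : ρ ∈ Alt := by
  rw [Equiv.Perm.mem_alternatingGroup]; decide +kernel

theorem γ_mem : γ ∈ Alt := by
  rw [Equiv.Perm.mem_alternatingGroup]; decide +kernel

def r : Alt := ⟨ρ, ρ_mem⟩
def c : Alt := ⟨γ, γ_mem⟩

theorem cc : c * c = 1 := Subtype.ext (by change γ * γ = 1; decide +kernel)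

theorem crc : c * r * c⁻¹ = r⁻¹ := Subtype.ext (by change γ * ρ * γ⁻¹ = ρ⁻¹; decide +kernel)

theorem rr : r ^ 4 = 1 := Subtype.ext (by change ρ ^ 4 = 1; decide +kernel)

theorem orderOf_r : orderOf r = 4 := by
  have h : orderOf r = 2 ^ 2 := by
    apply orderOf_eq_prime_pow
    · intro h
      have h1 : ρ ^ 2 = 1 := congrArg Subtype.val h
      revert h1
      decide +kernel
    · exact rr
  exact h

theorem c_not (k : ℤ) : c ≠ r ^ k := by
  intro h
  have h1 : c * r * c⁻¹ = r := by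
    rw [h, mul_inv_eq_iff_eq_mul, ← zpow_one_add, ← zpow_add_one, add_comm]
  rw [crc] at h1
  have h2 : ρ⁻¹ = ρ := congrArg Subtype.val h1
  revert h2
  decide +kernel

def g : DihedralGroup 4 → Alt
  | .r i => r ^ i.val
  | .sr i => c * r ^ i.val

theorem g_mul : ∀ a b, g (a * b) = g a * g b := by
  decide +kernel

theorem g_inj : ∀ a, g a = 1 → a = 1 := by
  decide +kernel

def gHom : DihedralGroup 4 →* Alt := MonoidHom.mk' g g_mul

theorem gHom_injective : Function.Injective gHom := (injective_iff_map_eq_one _).2 g_inj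

def S0 : Subgroup Alt := gHom.range

theorem card_S0 : Nat.card S0 = 8 := by
  unfold S0
  rw [← Nat.card_congr (MonoidHom.ofInjective gHom_injective).toEquiv, DihedralGroup.nat_card]

theorem card_Alt : Nat.card Alt = 2520 := by
  have h1 := two_mul_nat_card_alternatingGroup (α := Fin 7)
  have h3 : Nat.card (Equiv.Perm (Fin 7)) = 5040 := by
    rw [Nat.card_eq_fintype_card, Fintype.card_perm, Fintype.card_fin]
    rfl
  have h4 : 2 * Nat.card Alt = 5040 := h1.trans h3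
  omega

/-- `S0` as a Sylow 2-subgroup. -/
theorem exists_sylow : ∃ P : Sylow 2 Alt, (P : Subgroup Alt) = S0 := by
  have : Fact (Nat.Prime 2) := ⟨Nat.prime_two⟩
  have h0 : IsPGroup 2 S0 := by
    rw [IsPGroup.iff_card]
    exact ⟨3, card_S0⟩
  have h1 : ¬ 2 ∣ S0.index := by
    have h2 := S0.card_mul_index
    rw [card_S0, card_Alt] at h2
    have h3 : S0.index = 315 := by omega
    rw [h3]
    norm_num
  exact ⟨h0.toSylow h1, rfl⟩

theorem r_mem : r ∈ S0 := ⟨.r 1, by change r ^ (1 : ZMod 4).val = r; decide +kernel⟩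

theorem c_mem : c ∈ S0 := ⟨.sr 0, by change c * r ^ (0 : ZMod 4).val = c; decide +kernel⟩

theorem c_pow (k : ℤ) : c * r ^ k = r ^ (-k) * c := by
  have h : c * r ^ k * c⁻¹ = (c * r * c⁻¹) ^ k := (conj_zpow).symm
  rw [crc, inv_zpow, ← zpow_neg, mul_inv_eq_iff_eq_mul] at h
  exact h

theorem S_form : ∀ x ∈ S0, ∃ k : ℤ, x = r ^ k ∨ x = r ^ k * c := by
  rintro _ ⟨y, rfl⟩
  rcases y with i | i
  · exact ⟨(i.val : ℤ), Or.inl (by rw [zpow_natCast]; rfl)⟩
  · refine ⟨-(i.val : ℤ), Or.inr ?_⟩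
    rw [← c_pow, zpow_natCast]; rfl

/-! ### automorphisms -/

theorem exists_psi : ∃ ψ : MulAut Alt →* S7, ∀ (α : MulAut Alt) (x : Alt),
    ((α x : Alt) : S7) = ψ α * x * (ψ α)⁻¹ := StandardComponent.AltAut.exists_autHom 7 le_rfl

theorem unique {σ σ' : S7} (h : ∀ x : Alt, σ * x * σ⁻¹ = σ' * x * σ'⁻¹) : σ = σ' :=
  StandardComponent.AltAut.conj_unique (m := 5) (by norm_num) h

section psi

variable {ψ : MulAut Alt →* S7} (hψ : ∀ (α : MulAut Alt) (x : Alt),
  ((α x : Alt) : S7) = ψ α * x * (ψ α)⁻¹)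

include hψ

theorem psi_conj (l : Alt) : ψ (MulAut.conj l) = l := by
  apply unique
  intro x
  rw [← hψ]; rfl

theorem psi_injective : Function.Injective ψ := by
  intro α β h
  ext x
  rw [hψ, hψ, h]

/-- Automorphisms stabilising `S0`. -/
theorem fix6 {α : MulAut Alt} (h : ∀ s ∈ S0, α s ∈ S0) : ψ α 6 = 6 := by
  have h1 : ∀ s ∈ S0, (s : S7) 6 = 6 := by
    rintro _ ⟨y, rfl⟩
    revert y
    change ∀ y, (g y : S7) 6 = 6
    decide +kernel
  -- `ψ α⁻¹ 6`, hmm: `s (ψ α 6) = ψ α ((ψ α)⁻¹ s ψ α 6)`; use `α` bijective on `S0`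
  have h2 : ∀ s ∈ S0, ∃ s' ∈ S0, α s' = s := by
    have hfin : Set.Finite (S0 : Set Alt) := Set.toFinite _
    have h3 : (fun s => α s) '' (S0 : Set Alt) = S0 := by
      apply Set.eq_of_subset_of_ncard_le
      · rintro _ ⟨s, hs, rfl⟩
        exact h s hs
      · rw [Set.ncard_image_of_injective _ α.injective]
      · exact hfin
    intro s hs
    have h4 : s ∈ (fun s => α s) '' (S0 : Set Alt) := by rw [h3]; exact hs
    exact h4
  have h5 : ∀ s ∈ S0, (s : S7) (ψ α 6) = ψ α 6 := by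
    intro s hs
    obtain ⟨s', hs', rfl⟩ := h2 s hs
    rw [hψ]
    simp [h1 s' hs']
  have h6 := h5 r r_mem
  have h7 := h5 c c_mem
  have h8 : ∀ i : Fin 7, ρ i = i → i = 6 := by decide +kernel
  exact h8 _ h6

/-- Automorphisms stabilising `S0` commute with `ζ`. -/
theorem comm_zeta {α : MulAut Alt} (h : ∀ s ∈ S0, α s ∈ S0) : ψ α * ζ = ζ * ψ α := by
  have h1 : ∀ y : DihedralGroup 4, (g y : S7) ^ 4 = 1 → (g y : S7) ^ 2 ≠ 1 → (g y : S7) ^ 2 = ζ := by
    decide +kernel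
  obtain ⟨y, hy⟩ := h r r_mem
  have hy' : (g y : S7) = ψ α * ρ * (ψ α)⁻¹ := by
    rw [← show ((α r : Alt) : S7) = ψ α * ρ * (ψ α)⁻¹ from hψ α r, ← hy]; rfl
  have h2 : (g y : S7) ^ 2 = ψ α * ζ * (ψ α)⁻¹ := by
    rw [hy', ← ρρ, pow_two]; group
  have hρ4 : ρ ^ 4 = 1 := by decide +kernel
  have h3a : (g y : S7) ^ 4 = 1 := by
    rw [hy', conj_pow, hρ4, mul_one, mul_inv_cancel]
  have h3b : (g y : S7) ^ 2 ≠ 1 := by
    intro h4
    rw [h2, mul_inv_eq_one] at h4
    have h5 : ζ = 1 := mul_left_cancel (h4.trans (mul_one _).symm)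
    exact ζ_ne h5
  have h3 := h1 y h3a h3b
  rw [h2, mul_inv_eq_iff_eq_mul] at h3
  exact h3

theorem psi_form {α : MulAut Alt} (h : ∀ s ∈ S0, α s ∈ S0) : ∃ i : Fin 4, ∃ j k : Fin 2,
    ψ α = ρ ^ i.val * γ ^ j.val * τ ^ k.val :=
  form (fix6 hψ h) (comm_zeta hψ h)

theorem swap {α : MulAut Alt} (h : ∀ s ∈ S0, α s ∈ S0) {k : ℤ} (hk : α c = r ^ k * c) : Even k := by
  by_contra hodd
  rw [Int.not_even_iff_odd] at hodd
  obtain ⟨m, hm⟩ := hodd
  obtain ⟨i, j, l, hl⟩ := psi_form hψ h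
  have h1 : ((r ^ k * c : Alt) : S7) = ψ α * γ * (ψ α)⁻¹ := by
    rw [← hk]; exact hψ α c
  have h2 : ((r ^ k * c : Alt) : S7) = ρ * γ ∨ ((r ^ k * c : Alt) : S7) = ρ ^ 3 * γ := by
    have h3 : (ρ : S7) ^ k = ρ ∨ ρ ^ k = ρ ^ 3 := by
      have h4 : ρ ^ (4 : ℤ) = 1 := by
        have := ρ4
        exact_mod_cast this
      rcases Int.even_or_odd m with ⟨n, hn⟩ | ⟨n, hn⟩
      · left
        have : k = 4 * n + 1 := by omega
        rw [this, zpow_add, zpow_mul, h4, one_zpow, one_mul, zpow_one]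
      · right
        have : k = 4 * n + 3 := by omega
        rw [this, zpow_add, zpow_mul, h4, one_zpow, one_mul]
        norm_cast
    have h5 : ((r ^ k * c : Alt) : S7) = ρ ^ k * γ := by
      push_cast; rfl
    rw [h5]
    rcases h3 with h3 | h3 <;> rw [h3] <;> simp
  rw [h1, hl] at h2
  clear hl h1 hk
  revert i j l
  decide +kernel

/-- Automorphisms of 2-power order fixing `S0` pointwise are involutions. -/
theorem fixed_form {α : MulAut Alt} (h : ∀ s ∈ S0, α s = s) :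
    ψ α = 1 ∨ ψ α = ζ ∨ ψ α = τ ∨ ψ α = ζ * τ := by
  obtain ⟨i, j, k, hl⟩ := psi_form hψ (fun s hs => by rw [h s hs]; exact hs)
  have h1 : ψ α * ρ * (ψ α)⁻¹ = ρ := by
    rw [← show ((α r : Alt) : S7) = ψ α * ρ * (ψ α)⁻¹ from hψ α r, h r r_mem]; rfl
  have h2 : ψ α * γ * (ψ α)⁻¹ = γ := by
    rw [← show ((α c : Alt) : S7) = ψ α * γ * (ψ α)⁻¹ from hψ α c, h c c_mem]; rfl
  rw [hl] at h1 h2 ⊢
  clear hl
  revert i j k
  decide +kernel

end psi

/-! ### involutions -/

theorem conj_of_support {a b : S7} (ha : a * a = 1) (ha1 : a ≠ 1) (hb : b * b = 1) (hb1 : b ≠ 1)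
    (h : a.support.card = b.support.card) : ∃ σ : S7, σ * a * σ⁻¹ = b := by
  have hoa : orderOf a = 2 := orderOf_eq_prime (by rw [pow_two, ha]) ha1
  have hob : orderOf b = 2 := orderOf_eq_prime (by rw [pow_two, hb]) hb1
  obtain ⟨n, hn⟩ := Equiv.Perm.cycleType_prime_order (σ := a) (by rw [hoa]; exact Nat.prime_two)
  obtain ⟨m, hm⟩ := Equiv.Perm.cycleType_prime_order (σ := b) (by rw [hob]; exact Nat.prime_two)
  have h1 := a.sum_cycleType
  have h2 := b.sum_cycleType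
  rw [hn, hoa, Multiset.sum_replicate, smul_eq_mul] at h1
  rw [hm, hob, Multiset.sum_replicate, smul_eq_mul] at h2
  have hnm : n = m := by omega
  have h3 : IsConj a b := by
    rw [Equiv.Perm.isConj_iff_cycleType_eq, hn, hm, hoa, hob, hnm]
  exact isConj_iff.1 h3

theorem sign_support {a : S7} (ha : a * a = 1) (ha1 : a ≠ 1) :
    (a.support.card = 2 ∧ Equiv.Perm.sign a = -1) ∨ (a.support.card = 4 ∧ Equiv.Perm.sign a = 1) ∨
      (a.support.card = 6 ∧ Equiv.Perm.sign a = -1) := by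
  have hoa : orderOf a = 2 := orderOf_eq_prime (by rw [pow_two, ha]) ha1
  obtain ⟨n, hn⟩ := Equiv.Perm.cycleType_prime_order (σ := a) (by rw [hoa]; exact Nat.prime_two)
  have h1 := a.sum_cycleType
  rw [hn, hoa, Multiset.sum_replicate, smul_eq_mul] at h1
  have h2 : a.support.card ≤ 7 := by
    have := Finset.card_le_univ a.support
    rwa [Fintype.card_fin] at this
  have h3 := Equiv.Perm.sign_of_cycleType a
  rw [hn, hoa, Multiset.sum_replicate, Multiset.card_replicate, smul_eq_mul] at h3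
  have h4 : n = 0 ∨ n = 1 ∨ n = 2 := by omega
  rcases h4 with rfl | rfl | rfl
  · exact Or.inl ⟨h1.symm, h3.trans (by decide)⟩
  · exact Or.inr (Or.inl ⟨h1.symm, h3.trans (by decide)⟩)
  · exact Or.inr (Or.inr ⟨h1.symm, h3.trans (by decide)⟩)

theorem sign_τ : Equiv.Perm.sign τ = -1 := by decide +kernel

/-- Conjugation by an even permutation. -/
theorem exists_even {a b : S7} (hb : τ * b * τ⁻¹ = b) (h : ∃ σ : S7, σ * a * σ⁻¹ = b) :
    ∃ l : Alt, (l : S7) * a * (l : S7)⁻¹ = b := by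
  obtain ⟨σ, hσ⟩ := h
  rcases Int.units_eq_one_or (Equiv.Perm.sign σ) with h1 | h1
  · exact ⟨⟨σ, Equiv.Perm.mem_alternatingGroup.2 h1⟩, hσ⟩
  · refine ⟨⟨τ * σ, Equiv.Perm.mem_alternatingGroup.2 ?_⟩, ?_⟩
    · rw [map_mul, h1, sign_τ]; rfl
    · change τ * σ * a * (τ * σ)⁻¹ = b
      rw [← hb, ← hσ]; group

theorem conj_zeta {a : S7} (ha : a * a = 1) (ha1 : a ≠ 1) (hs : Equiv.Perm.sign a = 1) :
    ∃ l : Alt, (l : S7) * a * (l : S7)⁻¹ = ζ := by
  apply exists_even (by decide +kernel)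
  apply conj_of_support ha ha1 (by decide +kernel) ζ_ne
  rcases sign_support ha ha1 with h | h | h
  · rw [h.2] at hs; exact absurd hs (by decide)
  · rw [h.1]; decide +kernel
  · rw [h.2] at hs; exact absurd hs (by decide)

theorem conj_odd {a : S7} (ha : a * a = 1) (hs : Equiv.Perm.sign a ≠ 1) :
    ∃ l : Alt, (l : S7) * a * (l : S7)⁻¹ = τ ∨ (l : S7) * a * (l : S7)⁻¹ = ζ * τ := by
  have ha1 : a ≠ 1 := by
    rintro rfl
    exact hs (map_one _)
  rcases sign_support ha ha1 with h | h | h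
  · obtain ⟨l, hl⟩ := exists_even (a := a) (b := τ) (by decide +kernel)
      (conj_of_support ha ha1 (by decide +kernel) (by decide +kernel) (by
        rw [h.1]; decide +kernel))
    exact ⟨l, Or.inl hl⟩
  · exact absurd h.2 hs
  · obtain ⟨l, hl⟩ := exists_even (a := a) (b := ζ * τ) (by decide +kernel)
      (conj_of_support ha ha1 (by decide +kernel) (by decide +kernel) (by
        rw [h.1]; decide +kernel))
    exact ⟨l, Or.inr hl⟩

theorem inv_conj (a b : Alt) (ha : a * a = 1) (ha1 : a ≠ 1) (hb : b * b = 1) (hb1 : b ≠ 1) :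
    ∃ k, k * a * k⁻¹ = b := by
  obtain ⟨l, hl⟩ := conj_zeta (a := a) (congrArg Subtype.val ha) (fun h => ha1 (Subtype.ext h))
    (Equiv.Perm.mem_alternatingGroup.1 a.2)
  obtain ⟨m, hm⟩ := conj_zeta (a := b) (congrArg Subtype.val hb) (fun h => hb1 (Subtype.ext h))
    (Equiv.Perm.mem_alternatingGroup.1 b.2)
  refine ⟨m⁻¹ * l, Subtype.ext ?_⟩
  change (m : S7)⁻¹ * l * a * ((m : S7)⁻¹ * l)⁻¹ = b
  have h1 : (m : S7)⁻¹ * l * a * ((m : S7)⁻¹ * l)⁻¹ = (m : S7)⁻¹ * (l * a * (l : S7)⁻¹) * m := by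
    group
  rw [h1, hl, ← hm]; group

/-- The facts of the frame for `A₇`. -/
theorem exists_autData : ∃ (P : Sylow 2 Alt) (p1 p2 : MulAut Alt →* ℤˣ),
    AutData (P : Subgroup Alt) 3 r c p1 p2 := by
  obtain ⟨P, hP⟩ := exists_sylow
  obtain ⟨ψ, hψ⟩ := exists_psi
  refine ⟨P, 1, Equiv.Perm.sign.comp ψ, ?_⟩
  rw [hP]
  have hp2 : ∀ α, (Equiv.Perm.sign.comp ψ) α = Equiv.Perm.sign (ψ α) := fun α => rfl
  have hsq : ∀ {α : MulAut Alt}, α * α = 1 → ψ α * ψ α = 1 := fun h => by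
    rw [← map_mul, h, map_one]
  exact
    { inn1 := fun _ => rfl
      inn2 := fun l => by
        rw [hp2, psi_conj hψ]
        exact Equiv.Perm.mem_alternatingGroup.1 l.2
      ker := by
        intro α _ h2
        refine ⟨⟨ψ α, Equiv.Perm.mem_alternatingGroup.2 h2⟩, ?_⟩
        apply psi_injective hψ
        rw [psi_conj hψ]
      A_inv := by
        intro a b _ ha1 _ hb1
        rcases Int.units_eq_one_or a with h | h
        · exact absurd h ha1
        · rcases Int.units_eq_one_or b with h' | h'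
          · exact absurd h' hb1
          · rw [h, h']
      inv_conj := inv_conj
      d_ge := by norm_num
      r_mem := r_mem
      c_mem := c_mem
      cc := cc
      crc := crc
      or_eq := by rw [orderOf_r]; norm_num
      c_not := c_not
      S_form := S_form
      swap := fun _ α h k hk => ⟨fun _ => swap hψ h hk, fun _ => rfl⟩
      small := fun h => absurd h (by norm_num)
      sq := by
        intro α _ h
        apply psi_injective hψ
        rw [map_mul, map_one]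
        rcases fixed_form hψ h with h1 | h1 | h1 | h1 <;> rw [h1] <;> decide +kernel
      no_mixed := fun _ _ => Or.inl rfl
      field_cent := by
        intro α hα h
        rw [hp2] at h
        obtain ⟨l, hl⟩ := conj_odd (hsq hα) h
        refine ⟨l, fun s hs => ?_⟩
        have h1 : ψ (MulAut.conj l * α * (MulAut.conj l)⁻¹) = l * ψ α * (l : S7)⁻¹ := by
          rw [map_mul, map_mul, map_inv, psi_conj hψ]
        obtain ⟨y, rfl⟩ := hs
        apply Subtype.ext
        rw [hψ, h1]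
        change _ * (g y : S7) * _ = (g y : S7)
        rcases hl with hl | hl <;> rw [hl] <;> revert y <;> decide +kernel
      field_conj := by
        intro α hα h h0
        rw [hp2] at h
        rcases fixed_form hψ h0 with h1 | h1 | h1 | h1
        · rw [h1] at h; exact absurd (map_one _) h
        · rw [h1] at h; exact absurd (by decide +kernel) h
        · refine ⟨c, c_mem, ?_, cc, ⟨Equiv.swap 0 4 * Equiv.swap 2 5, ?_⟩, ?_⟩
          · intro h2
            have h3 : γ = 1 := congrArg Subtype.val h2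
            revert h3
            decide +kernel
          · rw [Equiv.Perm.mem_alternatingGroup]; decide +kernel
          · apply psi_injective hψ
            rw [map_mul ψ, map_mul ψ, map_mul ψ, map_inv ψ, psi_conj hψ, psi_conj hψ, h1]
            change (Equiv.swap 0 4 * Equiv.swap 2 5 : S7) * τ * (Equiv.swap 0 4 * Equiv.swap 2 5 : S7)⁻¹ =
              γ * τ
            decide +kernel
        · refine ⟨r * c, S0.mul_mem r_mem c_mem, ?_, ?_, ⟨Equiv.swap 1 2 * Equiv.swap 4 5, ?_⟩, ?_⟩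
          · intro h2
            have h3 : ρ * γ = 1 := congrArg Subtype.val h2
            revert h3
            decide +kernel
          · apply Subtype.ext
            change ρ * γ * (ρ * γ) = 1
            decide +kernel
          · rw [Equiv.Perm.mem_alternatingGroup]; decide +kernel
          · apply psi_injective hψ
            rw [map_mul ψ, map_mul ψ, map_mul ψ, map_inv ψ, psi_conj hψ, psi_conj hψ, h1]
            change (Equiv.swap 1 2 * Equiv.swap 4 5 : S7) * (ζ * τ) *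
              (Equiv.swap 1 2 * Equiv.swap 4 5 : S7)⁻¹ = ρ * γ * (ζ * τ)
            decide +kernel
      field_o1 := fun _ _ _ _ _ => rfl }

end Cfsg.Agent.GH.L2One.A7
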