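import Cfsg.Agent.GH.L2One.Bridge
import Cfsg.Agent.GH.L2FourOC

/-!
# GH-L2: from `AutData` for the simple group to the frame of a 2-component

`HasData L`: `AutData` for all Sylow 2-subgroups of `L`.
`exists_frame`: `Comp2 x K`, `HasData (STop K)`, `T` a Sylow 2-subgroup of `C(x)`, `Q = T ⊓ fix K` with the only
involution `x`, `|Q| ≥ 4`: there is a frame `L2One.Frame x K T (T ⊓ K) (T ⊓ fix K)`.
-/

set_option autoImplicit false

open Cfsg Subgroup
open Cfsg.Agent.SignalizersComponents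
open Cfsg.Agent.Intrinsic.Basic Cfsg.Agent.GH.Defs Cfsg.Agent.GH.Comp
open Cfsg.Agent.Walter.SylowIn Cfsg.Agent.GH.L2Frame

namespace Cfsg.Agent.GH.L2One

/-- `AutData` for all Sylow 2-subgroups. -/
def HasData (L : Type*) [Group L] : Prop :=
  ∀ P : Sylow 2 L, ∃ (A : Type) (_ : Group A) (d : ℕ) (r c : L) (p1 : MulAut L →* ℤˣ)
    (p2 : MulAut L →* A), AutData (P : Subgroup L) d r c p1 p2

theorem HasData.of_one {L : Type*} [Group L] [Finite L] {A : Type} [Group A] {P : Sylow 2 L}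
    {d : ℕ} {r c : L} {p1 : MulAut L →* ℤˣ} {p2 : MulAut L →* A}
    (F : AutData (P : Subgroup L) d r c p1 p2) : HasData L := by
  intro P'
  obtain ⟨r', c', h⟩ := F.of_sylow P'
  exact ⟨A, inferInstance, d, r', c', p1, p2, h⟩

theorem HasData.congr {L M : Type*} [Group L] [Group M] (e : L ≃* M) (h : HasData L) :
    HasData M := by
  intro P
  obtain ⟨A, _, d, r, c, p1, p2, F⟩ := h (P.comapOfInjective e.toMonoidHom e.injective (by
    rw [MonoidHom.range_eq_top.mpr e.surjective]; exact le_top))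
  have h1 := F.map e
  have h2 : (((P.comapOfInjective e.toMonoidHom e.injective (by
      rw [MonoidHom.range_eq_top.mpr e.surjective]; exact le_top) : Sylow 2 L) : Subgroup L)).map
      e.toMonoidHom = (P : Subgroup M) := by
    change ((P : Subgroup M).comap e.toMonoidHom).map e.toMonoidHom = _
    exact Subgroup.map_comap_eq_self_of_surjective e.surjective _
  rw [h2] at h1
  exact ⟨A, inferInstance, d, e r, e c, _, _, h1⟩

/-- In a 2-group of order at least 4 with the only involution `x` the element `x` is a square. -/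
theorem exists_sq_eq {G : Type*} [Group G] [Finite G] {x : G} {Q : Subgroup G} (hQ : IsPGroup 2 Q)
    (h1 : ∀ q ∈ Q, q * q = 1 → q = 1 ∨ q = x) (h4 : 4 ≤ Nat.card Q) : ∃ q ∈ Q, q * q = x := by
  classical
  obtain ⟨q, hq, hq1⟩ : ∃ q ∈ Q, q * q ≠ 1 := by
    by_contra hcon
    push Not at hcon
    have h2 : (Q : Set G) ⊆ {1, x} := fun q hq => h1 q hq (hcon q hq)
    have h3 : (Q : Set G).ncard ≤ ({1, x} : Set G).ncard := Set.ncard_le_ncard h2 (Set.toFinite _)
    have h5 : ({1, x} : Set G).ncard ≤ 2 := Set.ncard_insert_le _ _ |>.trans (by simp)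
    have h6 : Nat.card Q = (Q : Set G).ncard := rfl
    omega
  obtain ⟨n, hn⟩ := hQ ⟨q, hq⟩
  have hn' : q ^ 2 ^ n = 1 := by simpa using congrArg Subtype.val hn
  -- the least `m` with `q ^ 2 ^ m = 1`
  have hex : ∃ n : ℕ, q ^ 2 ^ n = 1 := ⟨n, hn'⟩
  obtain ⟨m, hm, hmin⟩ : ∃ m, q ^ 2 ^ m = 1 ∧ ∀ k < m, q ^ 2 ^ k ≠ 1 :=
    ⟨Nat.find hex, Nat.find_spec hex, fun k hk => Nat.find_min hex hk⟩
  have hm2 : 2 ≤ m := by
    by_contra hlt
    have h3 : m = 0 ∨ m = 1 := by omega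
    rcases h3 with rfl | rfl
    · rw [pow_zero, pow_one] at hm
      exact hq1 (by rw [hm, mul_one])
    · rw [pow_one, sq] at hm
      exact hq1 hm
  obtain ⟨k, rfl⟩ : ∃ k, m = k + 2 := ⟨m - 2, by omega⟩
  refine ⟨q ^ 2 ^ k, pow_mem hq _, ?_⟩
  have h5 : q ^ 2 ^ k * q ^ 2 ^ k = q ^ 2 ^ (k + 1) := by rw [← pow_add, ← two_mul, ← pow_succ']
  rw [h5]
  refine (h1 _ (pow_mem hq _) ?_).resolve_left (hmin (k + 1) (by omega))
  rw [← pow_add, ← two_mul, ← pow_succ', hm]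

variable {G : Type*} [Group G] [Finite G]

/-- **The frame** for a 2-component `K` of `C(x)` normal in `C(x)`. -/
theorem HasData.frame {x : G} {K T : Subgroup G} (hx : orderOf x = 2)
    (F : L2Frame.Frame (centralizer ({x} : Set G)) K T)
    (hn : centralizer ({x} : Set G) ≤ normalizer (K : Set G)) (h : HasData (STop K))
    (hQ1 : ∀ q ∈ T ⊓ fix K, q * q = 1 → q = 1 ∨ q = x) (h4 : 4 ≤ Nat.card ↥(T ⊓ fix K)) :
    ∃ (A : Type) (_ : Group A) (d : ℕ) (r c : G) (o1 : G → ℤˣ) (o2 : G → A),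
      L2One.Frame x K T (T ⊓ K) (T ⊓ fix K) d r c o1 o2 := by
  obtain ⟨S, hS⟩ := F.exists_sylow
  obtain ⟨A, _, d, r, c, p1, p2, E⟩ := h S
  rw [hS] at E
  have hxx : x * x = 1 := by rw [← sq, ← hx, pow_orderOf_eq_one]
  have hx1 : x ≠ 1 := by
    rintro rfl
    rw [orderOf_one] at hx
    exact absurd hx (by norm_num)
  obtain ⟨r', c', -, -, h5⟩ := E.frame hxx hx1 F hn hQ1
    (exists_sq_eq (F.two.to_le inf_le_left) hQ1 h4)
  exact ⟨A, inferInstance, d, r', c', _, _, h5⟩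

/-- **The frame** in the world of odd centres. -/
theorem exists_frame (hG : Hyp G) (ho : AllOdd G) {x : G} {K T : Subgroup G} (c : Comp2 x K)
    (h : HasData (STop K)) (hT : SylIn 2 T (centralizer ({x} : Set G)))
    (hQ1 : ∀ q ∈ T ⊓ fix K, q * q = 1 → q = 1 ∨ q = x) (h4 : 4 ≤ Nat.card ↥(T ⊓ fix K)) :
    ∃ (A : Type) (_ : Group A) (d : ℕ) (r c : G) (o1 : G → ℤˣ) (o2 : G → A),
      L2One.Frame x K T (T ⊓ K) (T ⊓ fix K) d r c o1 o2 :=
  HasData.frame c.inv ⟨c.comp, ho x K c,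
    hT.le.trans (L2FourOC.centralizer_le_normalizer hG ho c), hT⟩
    (L2FourOC.centralizer_le_normalizer hG ho c) h hQ1 h4

end Cfsg.Agent.GH.L2One
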