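import Cfsg.Agent.GH.L2One.AutPslMain
import Cfsg.Agent.GH.L2One.A7
import Cfsg.Agent.GH.L2One.HasData

/-!
# GH-L2: the frame for `K/O(K) ≅ L₂(q)` or `A₇`

`hasData_of_l2 : IsL2odd L → HasData L`, `hasData_of_a7 : IsAlt 7 L → HasData L`.

`Inst.exists_frame`: `Comp2 x K`, `STop K ≅ L₂(q)` or `A₇`, `T` a Sylow 2-subgroup of `C(x)`, `x` the only involution of
`Q = T ⊓ fix K`, `|Q| ≥ 4`: the frame `L2One.Frame x K T (T ⊓ K) (T ⊓ fix K)`.
-/

set_option autoImplicit false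

open Cfsg Subgroup
open Cfsg.Agent.SignalizersComponents
open Cfsg.Agent.Intrinsic.Basic Cfsg.Agent.GH.Defs Cfsg.Agent.GH.Comp
open Cfsg.Agent.Walter.SylowIn Cfsg.Agent.GH.L2Frame

namespace Cfsg.Agent.GH.L2One

open Cfsg.Agent.GH.L2Aut in
theorem hasData_of_l2 {L : Type*} [Group L] (h : IsL2odd L) : HasData L := by
  obtain ⟨F, _, _, hodd, -, ⟨e⟩⟩ := h
  intro P
  obtain ⟨d, r, c, h1⟩ := AutPslMain.autData (Rep.ofEquiv (two_ne_zero_of_odd hodd) e) P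
  exact ⟨F ≃+* F, inferInstance, d, r, c, _, _, h1⟩

theorem hasData_a7 : HasData (alternatingGroup (Fin 7)) := by
  obtain ⟨P, p1, p2, h⟩ := A7.exists_autData
  exact HasData.of_one h

theorem hasData_of_a7 {L : Type*} [Group L] (h : IsAlt 7 L) : HasData L := by
  obtain ⟨e⟩ := h
  exact hasData_a7.congr e.symm

theorem hasData_of_top {L : Type*} [Group L] (h : IsL2odd L ∨ IsAlt 7 L) : HasData L :=
  h.elim hasData_of_l2 hasData_of_a7

/-- **The frame** for `K/O(K) ≅ L₂(q)` or `A₇`. -/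
theorem Inst.exists_frame {G : Type*} [Group G] [Finite G] (hG : Hyp G) (ho : AllOdd G) {x : G}
    {K T : Subgroup G} (c : Comp2 x K) (h : IsL2odd (STop K) ∨ IsAlt 7 (STop K))
    (hT : SylIn 2 T (centralizer ({x} : Set G)))
    (hQ1 : ∀ q ∈ T ⊓ fix K, q * q = 1 → q = 1 ∨ q = x) (h4 : 4 ≤ Nat.card ↥(T ⊓ fix K)) :
    ∃ (A : Type) (_ : Group A) (d : ℕ) (r c : G) (o1 : G → ℤˣ) (o2 : G → A),
      L2One.Frame x K T (T ⊓ K) (T ⊓ fix K) d r c o1 o2 :=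
  L2One.exists_frame hG ho c (hasData_of_top h) hT hQ1 h4

end Cfsg.Agent.GH.L2One
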