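import Cfsg.Agent.GH.L2One.Frame

/-!
# GH-L2, `m_2(Q) = 1`, `|Q| ≥ 4`, CASE I: the situation after step (7)

`Dbl x z S T T0 D d r c s`: `S` a 2-group (later Sylow in `G`), `T = C_S(x)` of index 2, `s ∈ S - T` swaps `x` and
`z`, `D = ⟨r, c⟩ ⊴ T` dihedral of order `2^d`, `d ≥ 3`, `D` and `s D s⁻¹` commute and meet trivially,
`T0 = D × s D s⁻¹`, an element of `T` is in `T0` iff it fixes the two classes of reflections of `D`.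

`CoreH S N R x c0`: the consequence of (OC) for `H = C(c0)`, `N = O(H)`, `R = S ∩ O_{2',2}(H)`.
-/

set_option autoImplicit false

open Subgroup

namespace Cfsg.Agent.GH.L2One

variable {G : Type*} [Group G]

/-- The situation of CASE I after step (7). -/
structure Dbl (x z : G) (S T T0 D : Subgroup G) (d : ℕ) (r c s : G) : Prop where
  S_two : IsPGroup 2 S
  T_le : T ≤ S
  s_mem : s ∈ S
  s_not : s ∉ T
  /-- index 2 -/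
  S_form : ∀ g ∈ S, g ∉ T → s⁻¹ * g ∈ T
  T_iff : ∀ g ∈ S, (g ∈ T ↔ x * g = g * x)
  d_ge : 3 ≤ d
  D_le : D ≤ T
  D_norm : ∀ t ∈ T, ∀ e ∈ D, t * e * t⁻¹ ∈ D
  r_mem : r ∈ D
  c_mem : c ∈ D
  cc : c * c = 1
  crc : c * r * c⁻¹ = r⁻¹
  or_eq : orderOf r = 2 ^ (d - 1)
  c_not : ∀ k : ℤ, c ≠ r ^ k
  D_form : ∀ g ∈ D, ∃ k : ℤ, g = r ^ k ∨ g = r ^ k * c
  z_eq : z = r ^ 2 ^ (d - 2)
  sz : s * z * s⁻¹ = x
  sx : s * x * s⁻¹ = z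
  comm : ∀ e ∈ D, ∀ f ∈ D, e * (s * f * s⁻¹) = s * f * s⁻¹ * e
  disj : ∀ e ∈ D, ∀ f ∈ D, e = s * f * s⁻¹ → e = 1
  mem_T0 : ∀ g, g ∈ T0 ↔ ∃ e ∈ D, ∃ f ∈ D, g = e * (s * f * s⁻¹)
  /-- an element of `T` is in `T0` iff it fixes the two classes of reflections of `D` -/
  swap : ∀ t ∈ T, ∀ k : ℤ, t * c * t⁻¹ = r ^ k * c → (t ∈ T0 ↔ Even k)
  /-- `C_T(D) = ⟨z⟩ × s D s⁻¹` -/
  cent_D : ∀ t ∈ T, (∀ e ∈ D, t * e = e * t) → ∃ f ∈ D, t = s * f * s⁻¹ ∨ t = z * (s * f * s⁻¹)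

/-- The consequence of (OC) for `H = C(c0)`, `N = O(H)`, `R = S ∩ O_{2',2}(H)`. -/
structure CoreH (S N R : Subgroup G) (x c0 : G) : Prop where
  N_comm : ∀ n ∈ N, c0 * n = n * c0
  N_norm : ∀ h, c0 * h = h * c0 → ∀ n ∈ N, h * n * h⁻¹ ∈ N
  N_odd : Odd (Nat.card N)
  R_le : R ≤ S
  R_norm : ∀ s ∈ S, ∀ y ∈ R, s * y * s⁻¹ ∈ R
  x_mem : x ∈ R
  /-- every `H`-conjugate of `x` is congruent mod `O(H)` to an element `y` of `R` with `[R, y] ≤ ⟨c0⟩` -/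
  conj : ∀ h, c0 * h = h * c0 → ∃ y ∈ R, y⁻¹ * (h * x * h⁻¹) ∈ N ∧
    ∀ w ∈ R, w * y * w⁻¹ * y⁻¹ = 1 ∨ w * y * w⁻¹ * y⁻¹ = c0

end Cfsg.Agent.GH.L2One
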