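import Cfsg.Agent.GH.L2One.CaseTwoD

/-!
# GH-L2, `m_2(Q) = 1`, `|Q| ≥ 4`: CASE II, field type, and the theorem `caseTwo`
-/

set_option autoImplicit false

open Subgroup

namespace Cfsg.Agent.GH.L2One

variable {G A : Type*} [Group G] [Group A]

namespace Two

variable {P : Sylow 2 G} {x z : G} {K T D Q : Subgroup G} {d : ℕ} {r c : G} {o1 : G → ℤˣ}
  {o2 : G → A}

variable {H : Two P x z K T D Q d r c o1 o2} {y h : G}

theorem FH.o2_x1 [Finite G] (W : FH H y h) : o2 (h * x * h⁻¹) ≠ 1 := fun h2 =>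
  H.bad_out W.bad W.o1_x1 h2

/-- elements of `T` commuting with `x1` have no diagonal part -/
theorem FH.o1_eq [Finite G] (W : FH H y h) {g : G} (hg : g ∈ T)
    (hc : h * x * h⁻¹ * g = g * (h * x * h⁻¹)) : o1 g = 1 := by
  apply H.F.field_o1 _ W.bad.mem W.sq_one W.o2_x1 g hg
  have : g * (h * x * h⁻¹) * g⁻¹ * (h * x * h⁻¹)⁻¹ = 1 := by
    rw [← hc]; group
  rw [this]; exact Q.one_mem

/-- each element of `h D h⁻¹` is, up to `x1`, in `QD` -/
theorem FH.exists_qf [Finite G] (W : FH H y h) {e : G} (he : e ∈ D) :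
    ∃ u, (u = e ∨ u = e * x) ∧ ∃ q ∈ Q, ∃ f ∈ D, h * u * h⁻¹ = q * f := by
  have F := H.F
  have hx1 := W.bad.mem
  have hφ1 := W.o2_x1
  have hφ2 := F.o2_invol hx1 W.sq_one
  have heT := W.mem (Or.inl he : InDx D x e)
  have ho1 : o1 (h * e * h⁻¹) = 1 := W.o1_eq heT (FH.comm H (Or.inl he))
  rcases W.o2_val hφ1 hφ2 he with h1 | h1
  · obtain ⟨q, hq, f, hf, h2⟩ := F.ker _ heT ho1 h1
    exact ⟨e, Or.inl rfl, q, hq, f, hf, h2⟩
  · have e1 : h * (e * x) * h⁻¹ = (h * e * h⁻¹) * (h * x * h⁻¹) := by group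
    obtain ⟨q, hq, f, hf, h2⟩ := F.ker (h * (e * x) * h⁻¹) (by rw [e1]; exact T.mul_mem heT hx1)
      (by rw [e1, F.o1_mul' heT hx1, ho1, W.o1_x1, mul_one])
      (by rw [e1, F.o2_mul' heT hx1, h1, hφ2])
    exact ⟨e * x, Or.inr rfl, q, hq, f, hf, h2⟩

theorem x_not_D (H : Two P x z K T D Q d r c o1 o2) : x ∉ D := fun hx =>
  H.F.x_ne (H.F.QD x hx H.F.x_mem)

/-- every element of `D` is congruent mod `Q` to an element of `h (D × ⟨x⟩) h⁻¹` -/
theorem FH.surj [Finite G] (W : FH H y h) {f : G} (hf : f ∈ D) :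
    ∃ u, InDx D x u ∧ ∃ q ∈ Q, h * u * h⁻¹ = q * f := by
  classical
  have F := H.F
  choose! u hu q hq g hg hug using fun (e : G) (he : e ∈ D) => W.exists_qf he
  let ε : D → D := fun e => ⟨g e, hg e e.2⟩
  have hin : ∀ e ∈ D, InDx D x (u e) := by
    intro e he
    rcases hu e he with h1 | h1
    · rw [h1]; exact Or.inl he
    · rw [h1]; right
      rw [mul_assoc, F.xx, mul_one]; exact he
  have hinj : Function.Injective ε := by
    intro a b hab
    have h1 : g a = g b := congrArg Subtype.val hab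
    have h2 : h * (u a * (u b)⁻¹) * h⁻¹ = q a * (q b)⁻¹ := by
      calc h * (u a * (u b)⁻¹) * h⁻¹ = (h * u a * h⁻¹) * (h * u b * h⁻¹)⁻¹ := by group
        _ = q a * (q b)⁻¹ := by rw [hug a a.2, hug b b.2, h1]; group
    have h3 := W.eq_one (InDx.mul H (hin a a.2) (InDx.inv H (hin b b.2))
      (T.inv_mem (InDx.mem_T H (hin b b.2)))) (by
        rw [h2]; exact Q.mul_mem (hq a a.2) (Q.inv_mem (hq b b.2)))
    have h4 := mul_inv_eq_one.1 h3
    apply Subtype.ext
    rcases hu a a.2 with h5 | h5 <;> rcases hu b b.2 with h6 | h6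
    · rw [← h5, ← h6]; exact h4
    · exfalso
      apply H.x_not_D
      have : x = (b : G)⁻¹ * a := by
        rw [h5, h6] at h4
        rw [h4]; group
      rw [this]; exact D.mul_mem (D.inv_mem b.2) a.2
    · exfalso
      apply H.x_not_D
      have : x = (a : G)⁻¹ * b := by
        rw [h5, h6] at h4
        rw [← h4]; group
      rw [this]; exact D.mul_mem (D.inv_mem a.2) b.2
    · rw [h5, h6] at h4
      exact mul_right_cancel h4
  obtain ⟨e, he⟩ := Finite.surjective_of_injective hinj ⟨f, hf⟩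
  have h1 : g e = f := congrArg Subtype.val he
  refine ⟨u e, hin e e.2, q e, hq e e.2, ?_⟩
  rw [hug e e.2, h1]

/-- `x1` is again a bad element of field type centralising `D` -/
theorem FH.fld1 [Finite G] (W : FH H y h) : Fld H (h * x * h⁻¹) := by
  refine ⟨W.bad, W.o2_x1, ?_⟩
  intro f hf
  obtain ⟨u, hu, q, hq, h1⟩ := W.surj hf
  have h2 := FH.comm H (h := h) hu
  rw [h1] at h2
  exact (H.comm_of_comm W.bad.mem hq hf h2).2

/-- `C_Q(y) = ⟨x⟩` for `y` of field type centralising `D` -/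
theorem Fld.cent_Q [Finite G] {y : G} (hy : Fld H y) {u : G} (hu : u ∈ Q) (huy : u * y = y * u) :
    u = 1 ∨ u = x := by
  have F := H.F
  by_contra hcon
  push Not at hcon
  obtain ⟨n, hn⟩ := H.exists_root hu hcon.1 hcon.2
  obtain ⟨h, hh, hT, hb1⟩ := H.exists_h hy.bad
  have W : FH H y h := ⟨hy, hh, hT, hb1⟩
  have huQ := Q.pow_mem hu n
  have hw : h * u ^ n * h⁻¹ ∈ T := by
    apply hT _ (F.Q_le huQ)
    have : Commute u y := huy
    exact (this.pow_left n).eq
  -- it centralises `D`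
  have hc : ∀ f ∈ D, h * u ^ n * h⁻¹ * f = f * (h * u ^ n * h⁻¹) := by
    intro f hf
    obtain ⟨v, hv, q, hq, h1⟩ := W.surj hf
    have h2 : u ^ n * v = v * u ^ n := by
      have hx := F.T_comm _ (F.Q_le huQ)
      rcases hv with h3 | h3
      · exact F.QD_comm huQ h3
      · have h4 := F.QD_comm huQ h3
        calc u ^ n * v = u ^ n * (v * x) * x⁻¹ := by group
          _ = v * (x * u ^ n) * x⁻¹ := by rw [h4]; group
          _ = v * u ^ n := by rw [hx]; group
    have h3 : h * u ^ n * h⁻¹ * (q * f) = q * f * (h * u ^ n * h⁻¹) := by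
      rw [← h1]
      calc h * u ^ n * h⁻¹ * (h * v * h⁻¹) = h * (u ^ n * v) * h⁻¹ := by group
        _ = h * (v * u ^ n) * h⁻¹ := by rw [h2]
        _ = h * v * h⁻¹ * (h * u ^ n * h⁻¹) := by group
    exact (H.comm_of_comm hw hq hf h3).2
  have h4 := F.sq_mem _ hw hc
  have h5 : h * u ^ n * h⁻¹ * (h * u ^ n * h⁻¹) = h * x * h⁻¹ := by
    rw [← hn]; group
  rw [h5] at h4
  rcases F.Q_inv _ h4 W.sq_one with h6 | h6
  · apply F.x_ne
    calc x = h⁻¹ * (h * x * h⁻¹) * h := by group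
      _ = 1 := by rw [h6]; group
  · exact hb1.ne h6

/-- (4), the case where `y` centralises `D` -/
theorem no_fld [Finite G] (H : Two P x z K T D Q d r c o1 o2) {y : G} (hy : Fld H y) : False := by
  have F := H.F
  obtain ⟨h, hh, hT, hb1⟩ := H.exists_h hy.bad
  have W : FH H y h := ⟨hy, hh, hT, hb1⟩
  have hx1 := hb1.mem
  have hF1 := W.fld1
  have hyT := hy.bad.mem
  obtain ⟨e2, he2, he2n, he2s, k, hk, hky⟩ := F.field_conj y hyT (H.bad_sq hy.bad) hy.o2_ne hy.cent
  have he1 : h * e2 * h⁻¹ ∈ T := W.mem (Or.inl he2)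
  have he1n : h * e2 * h⁻¹ ≠ 1 := by
    intro h1
    apply he2n
    calc e2 = h⁻¹ * (h * e2 * h⁻¹) * h := by group
      _ = 1 := by rw [h1]; group
  have he1s : h * e2 * h⁻¹ * (h * e2 * h⁻¹) = 1 := by
    calc h * e2 * h⁻¹ * (h * e2 * h⁻¹) = h * (e2 * e2) * h⁻¹ := by group
      _ = 1 := by rw [he2s]; group
  -- `e1 x` is bad
  have hex : h * (e2 * y) * h⁻¹ = h * e2 * h⁻¹ * x := by
    calc h * (e2 * y) * h⁻¹ = h * e2 * h⁻¹ * (h * y * h⁻¹) := by group
      _ = h * e2 * h⁻¹ * x := by rw [hh]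
  obtain ⟨gy, hgy⟩ := hy.bad.conj
  have hcx : h * k * gy * x * (h * k * gy)⁻¹ = h * e2 * h⁻¹ * x := by
    calc h * k * gy * x * (h * k * gy)⁻¹ = h * (k * (gy * x * gy⁻¹) * k⁻¹) * h⁻¹ := by group
      _ = h * e2 * h⁻¹ * x := by rw [hgy, hky, hex]
  have hb2 : Bad x T (h * e2 * h⁻¹ * x) := by
    refine ⟨T.mul_mem he1 F.x_T, ?_, h * k * gy, hcx⟩
    intro h1
    apply he1n
    calc h * e2 * h⁻¹ = h * e2 * h⁻¹ * x * x⁻¹ := by group
      _ = 1 := by rw [h1, mul_inv_cancel]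
  have ho1 : o1 (h * e2 * h⁻¹) = 1 := W.o1_eq he1 (FH.comm H (Or.inl he2))
  have ho2 : o2 (h * e2 * h⁻¹) ≠ 1 := by
    intro h1
    apply H.bad_out hb2
    · rw [F.o1_mul' he1 F.x_T, ho1, F.o1_Q x F.x_mem, one_mul]
    · rw [F.o2_mul' he1 F.x_T, h1, F.o2_Q x F.x_mem, one_mul]
  have hφ := F.A_inv _ _ (F.o2_invol he1 he1s) ho2 (F.o2_invol hx1 W.sq_one) W.o2_x1
  -- `e1 x1 = u f`
  obtain ⟨u, hu, f, hf, h1⟩ := F.ker (h * e2 * h⁻¹ * (h * x * h⁻¹)) (T.mul_mem he1 hx1)
    (by rw [F.o1_mul' he1 hx1, ho1, W.o1_x1, one_mul])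
    (by rw [F.o2_mul' he1 hx1, hφ]; exact F.o2_invol hx1 W.sq_one)
  have hcomm := FH.comm H (h := h) (Or.inl he2 : InDx D x e2)
  have h2 : h * x * h⁻¹ * (u * f) = u * f * (h * x * h⁻¹) := by
    rw [← h1, ← mul_assoc, hcomm]
  obtain ⟨h3, h4⟩ := H.comm_of_comm hx1 hu hf h2
  have hex1 : h * (e2 * x) * h⁻¹ = u * f := by rw [← h1]; group
  -- `e2` is conjugate to `z`
  obtain ⟨k2, hk2, hk2z⟩ := F.inv_conj e2 he2 z H.zD he2s he2n H.zz H.z1
  rcases hF1.cent_Q hu h3.symm with hu1 | hu1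
  · -- `f = h e2 x h⁻¹ ~ x z`
    rw [hu1, one_mul] at hex1
    have hfn : f ≠ 1 := by
      intro h5
      apply H.x_not_D
      rw [h5] at hex1
      have h6 : e2 * x = 1 := by
        calc e2 * x = h⁻¹ * (h * (e2 * x) * h⁻¹) * h := by group
          _ = 1 := by rw [hex1]; group
      rw [(inv_eq_of_mul_eq_one_right h6).symm]
      exact D.inv_mem he2
    have he2x := F.T_comm e2 (F.D_le he2)
    have hfs : f * f = 1 := by
      rw [← hex1]
      calc h * (e2 * x) * h⁻¹ * (h * (e2 * x) * h⁻¹) = h * (e2 * (x * e2) * x) * h⁻¹ := by group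
        _ = h * ((e2 * e2) * (x * x)) * h⁻¹ := by rw [he2x]; group
        _ = 1 := by rw [he2s, F.xx]; group
    obtain ⟨k3, hk3, hk3z⟩ := F.inv_conj f hf z H.zD hfs hfn H.zz H.z1
    have hk2x := F.K_comm k2 hk2
    have h7 : k2 * (e2 * x) * k2⁻¹ = x * z := by
      calc k2 * (e2 * x) * k2⁻¹ = k2 * (x * e2) * k2⁻¹ := by rw [he2x]
        _ = (k2 * x) * e2 * k2⁻¹ := by group
        _ = x * (k2 * e2 * k2⁻¹) := by rw [← hk2x]; group
        _ = x * z := by rw [hk2z]
    apply H.not_conj_z_xz (k2 * h⁻¹ * k3⁻¹)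
    calc k2 * h⁻¹ * k3⁻¹ * z * (k2 * h⁻¹ * k3⁻¹)⁻¹ =
          k2 * (h⁻¹ * (k3⁻¹ * z * k3) * h) * k2⁻¹ := by group
      _ = k2 * (h⁻¹ * f * h) * k2⁻¹ := by rw [← hk3z]; group
      _ = k2 * (e2 * x) * k2⁻¹ := by rw [← hex1]; group
      _ = x * z := h7
  · -- `e1 = x f x1 ~ f x1 = e1 x ~ x`
    obtain ⟨q1, hq1, hq1x⟩ := F.exists_conj_xy hx1 W.sq_one (fun u hu hc => hF1.cent_Q hu hc)
    have h5 : h * e2 * h⁻¹ = x * f * (h * x * h⁻¹) := by
      have h6 : h * e2 * h⁻¹ * (h * x * h⁻¹) = x * f := by rw [h1, hu1]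
      calc h * e2 * h⁻¹ = h * e2 * h⁻¹ * (h * x * h⁻¹ * (h * x * h⁻¹)) := by
            rw [W.sq_one, mul_one]
        _ = h * e2 * h⁻¹ * (h * x * h⁻¹) * (h * x * h⁻¹) := by group
        _ = x * f * (h * x * h⁻¹) := by rw [h6]
    have hxf := F.T_comm f (F.D_le hf)
    have hxx1 := F.T_comm _ hx1
    have h6 : h * e2 * h⁻¹ * x = f * (h * x * h⁻¹) := by
      calc h * e2 * h⁻¹ * x = x * f * (h * x * h⁻¹) * x := by rw [h5]
        _ = f * (x * (h * x * h⁻¹)) * x := by rw [hxf]; group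
        _ = f * (h * x * h⁻¹) * (x * x) := by rw [hxx1]; group
        _ = f * (h * x * h⁻¹) := by rw [F.xx, mul_one]
    have h7 : q1 * (f * (h * x * h⁻¹)) * q1⁻¹ = h * e2 * h⁻¹ := by
      have h8 := F.QD_comm hq1 hf
      calc q1 * (f * (h * x * h⁻¹)) * q1⁻¹ = (q1 * f) * (h * x * h⁻¹) * q1⁻¹ := by group
        _ = f * (q1 * (h * x * h⁻¹) * q1⁻¹) := by rw [h8]; group
        _ = f * (x * (h * x * h⁻¹)) := by rw [hq1x]
        _ = (f * x) * (h * x * h⁻¹) := by group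
        _ = x * f * (h * x * h⁻¹) := by rw [← hxf]
        _ = h * e2 * h⁻¹ := h5.symm
    apply H.not_conj_x_z (k2 * h⁻¹ * q1 * (h * k * gy))
    calc k2 * h⁻¹ * q1 * (h * k * gy) * x * (k2 * h⁻¹ * q1 * (h * k * gy))⁻¹ =
          k2 * (h⁻¹ * (q1 * (h * k * gy * x * (h * k * gy)⁻¹) * q1⁻¹) * h) * k2⁻¹ := by group
      _ = k2 * (h⁻¹ * (h * e2 * h⁻¹) * h) * k2⁻¹ := by rw [hcx, h6, h7]
      _ = k2 * e2 * k2⁻¹ := by group
      _ = z := hk2z

/-- (4) -/
theorem no_field [Finite G] (H : Two P x z K T D Q d r c o1 o2) {y : G} (hb : Bad x T y)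
    (h2 : o2 y ≠ 1) : False := by
  have F := H.F
  have hyT := hb.mem
  obtain ⟨k, hk, hkD⟩ := F.field_cent y hyT (H.bad_sq hb) h2
  have hkx := F.K_comm k hk
  have hyx := F.T_comm y hyT
  set y1 := k * y * k⁻¹ with hy1
  have hxy1 : x * y1 = y1 * x := by
    have hki : x * k⁻¹ = k⁻¹ * x := F.K_comm _ (K.inv_mem hk)
    calc x * y1 = (x * k) * y * k⁻¹ := by rw [hy1]; group
      _ = k * (x * y) * k⁻¹ := by rw [hkx]; group
      _ = k * y * (x * k⁻¹) := by rw [hyx]; group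
      _ = y1 * x := by rw [hki, hy1]; group
  have hy1s : y1 * y1 = 1 := by
    calc y1 * y1 = k * (y * y) * k⁻¹ := by rw [hy1]; group
      _ = 1 := by rw [H.bad_sq hb]; group
  -- the 2-group `D⟨y1⟩`
  let R : Subgroup G :=
    { carrier := {g | g ∈ D ∨ g * y1 ∈ D}
      one_mem' := Or.inl D.one_mem
      mul_mem' := by
        intro a b ha hb
        rcases ha with ha | ha <;> rcases hb with hb | hb
        · exact Or.inl (D.mul_mem ha hb)
        · right
          rw [mul_assoc]; exact D.mul_mem ha hb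
        · right
          rw [mul_assoc, ← hkD b hb, ← mul_assoc]
          exact D.mul_mem ha hb
        · left
          have h3 := D.mul_mem ha hb
          have h4 : a * y1 * (b * y1) = a * b := by
            have h5 : b * y1 = y1 * b := by
              have h6 := hkD _ hb
              calc b * y1 = b * y1 * y1 * y1⁻¹ := by group
                _ = y1 * (b * y1) * y1⁻¹ := by rw [h6]
                _ = y1 * b := by group
            calc a * y1 * (b * y1) = a * y1 * (y1 * b) := by rw [h5]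
              _ = a * (y1 * y1) * b := by group
              _ = a * b := by rw [hy1s, mul_one]
          rwa [h4] at h3
      inv_mem' := by
        intro a ha
        rcases ha with ha | ha
        · exact Or.inl (D.inv_mem ha)
        · right
          have h3 := D.inv_mem ha
          have hyi : y1⁻¹ = y1 := inv_eq_of_mul_eq_one_right hy1s
          have h6 := hkD _ h3
          rw [mul_inv_rev, hyi] at h3 h6
          have h7 : y1 * a⁻¹ = a⁻¹ * y1 := by
            calc y1 * a⁻¹ = (y1 * a⁻¹ * y1) * y1⁻¹ := by group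
              _ = y1 * (y1 * a⁻¹) * y1⁻¹ := by rw [h6]
              _ = (y1 * y1) * a⁻¹ * y1⁻¹ := by group
              _ = a⁻¹ * y1 := by rw [hy1s, one_mul, hyi]
          rwa [h7] at h3 }
  have hDR : D ≤ R := fun g hg => Or.inl hg
  have hyR : y1 ∈ R := by
    right; rw [hy1s]; exact D.one_mem
  have hRp : IsPGroup 2 R := by
    rintro ⟨g, hg⟩
    have hgg : g * g ∈ D := by
      rcases hg with hg | hg
      · exact D.mul_mem hg hg
      · have h3 := D.mul_mem hg hg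
        have h5 : g * y1 = y1 * g := by
          have h6 := hkD _ hg
          calc g * y1 = g * y1 * y1 * y1⁻¹ := by group
            _ = y1 * (g * y1) * y1⁻¹ := by rw [h6]
            _ = y1 * g := by group
        have h4 : g * y1 * (g * y1) = g * g := by
          calc g * y1 * (g * y1) = g * y1 * (y1 * g) := by rw [h5]
            _ = g * (y1 * y1) * g := by group
            _ = g * g := by rw [hy1s, mul_one]
        rwa [h4] at h3
    obtain ⟨n, hn⟩ := F.T_two ⟨g * g, F.D_le hgg⟩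
    refine ⟨n + 1, Subtype.ext ?_⟩
    have h3 : (g * g) ^ 2 ^ n = 1 := congrArg Subtype.val hn
    show g ^ 2 ^ (n + 1) = 1
    rw [pow_succ, mul_comm, pow_mul, pow_two, h3]
  have hRx : ∀ p ∈ R, x * p = p * x := by
    rintro p (hp | hp)
    · exact F.T_comm p (F.D_le hp)
    · have h3 := F.T_comm _ (F.D_le hp)
      calc x * p = x * (p * y1) * y1⁻¹ := by group
        _ = p * (y1 * x) * y1⁻¹ := by rw [h3]; group
        _ = p * x := by rw [← hxy1]; group
  obtain ⟨g, hgx, hgR⟩ := F.T_syl R hRp hRx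
  have hgD : ∀ e ∈ D, g * e * g⁻¹ ∈ D := fun e he =>
    (F.mem_D _).2 ⟨hgR e (hDR he), F.K_norm g hgx e (F.D_le_K he)⟩
  have hgD2 := norm_iff_of_le hgD
  have hgxx : g * x * g⁻¹ = x := by rw [← hgx]; group
  -- the new element
  refine H.no_fld (y := g * y1 * g⁻¹) ⟨⟨hgR y1 hyR, ?_, ?_⟩, ?_, ?_⟩
  · intro h3
    apply hb.ne
    have h4 : g * y1 * g⁻¹ = g * x * g⁻¹ := by rw [h3, hgxx]
    have h5 : y1 = x := mul_left_cancel (mul_right_cancel h4)
    calc y = k⁻¹ * y1 * k := by rw [hy1]; group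
      _ = k⁻¹ * (x * k) := by rw [h5]; group
      _ = x := by rw [hkx]; group
  · obtain ⟨g', hg'⟩ := hb.conj
    refine ⟨g * k * g', ?_⟩
    calc g * k * g' * x * (g * k * g')⁻¹ = g * (k * (g' * x * g'⁻¹) * k⁻¹) * g⁻¹ := by group
      _ = g * y1 * g⁻¹ := by rw [hg', hy1]
  · -- `o2`
    intro h3
    have hgi : x * g⁻¹ = g⁻¹ * x := by
      calc x * g⁻¹ = g⁻¹ * (g * x) * g⁻¹ := by group
        _ = g⁻¹ * x := by rw [← hgx]; group
    have hgy : x * (g * y1) = g * y1 * x := by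
      rw [← mul_assoc x g y1, hgx, mul_assoc g x y1, hxy1, ← mul_assoc g y1 x]
    rw [F.o2_mul _ _ hgy hgi, F.o2_mul _ _ hgx hxy1] at h3
    have h4 : o2 g * o2 g⁻¹ = 1 := by
      rw [← F.o2_mul _ _ hgx hgi, mul_inv_cancel, F.o2_one]
    have h5 : o2 g⁻¹ = (o2 g)⁻¹ := eq_inv_of_mul_eq_one_right h4
    rw [h5] at h3
    have h6 : o2 y1 = 1 := by
      have : o2 y1 = (o2 g)⁻¹ * (o2 g * o2 y1 * (o2 g)⁻¹) * o2 g := by group
      rw [this, h3]; group
    have hki : x * k⁻¹ = k⁻¹ * x := F.K_comm _ (K.inv_mem hk)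
    have hkyx : x * (k * y) = k * y * x := by
      rw [← mul_assoc, hkx, mul_assoc, hyx, mul_assoc]
    rw [hy1, F.o2_mul _ _ hkyx hki, F.o2_mul _ _ hkx hyx, F.o2_K k hk, F.o2_K _ (K.inv_mem hk),
      one_mul, mul_one] at h6
    exact h2 h6
  · intro e he
    have h3 : g⁻¹ * e * g ∈ D := by
      rw [hgD2]
      have : g * (g⁻¹ * e * g) * g⁻¹ = e := by group
      rw [this]; exact he
    have h4 := hkD _ h3
    calc g * y1 * g⁻¹ * e = g * (y1 * (g⁻¹ * e * g)) * g⁻¹ := by group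
      _ = g * (g⁻¹ * e * g * y1) * g⁻¹ := by rw [h4]
      _ = e * (g * y1 * g⁻¹) := by group

/-- there is no conjugate of `x` in `T` different from `x` -/
theorem no_bad [Finite G] (H : Two P x z K T D Q d r c o1 o2) {y : G} (hb : Bad x T y) : False :=
  H.no_diag (fun y hb => by
    by_contra h
    exact H.no_field hb h) hb

end Two

/-- **CASE II**: `T` is not a Sylow 2-subgroup of the simple group `G`. -/
theorem caseTwo [Finite G] (hs : IsSimpleGroup G) (hn : ∃ a b : G, a * b ≠ b * a) {x : G}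
    {K T D Q : Subgroup G} {d : ℕ} {r c : G} {o1 : G → ℤˣ} {o2 : G → A}
    (F : Frame x K T D Q d r c o1 o2) (P : Sylow 2 G) (hP : (P : Subgroup G) = T) : False := by
  obtain ⟨z, H⟩ := F.two P hP
  have hxo : orderOf x = 2 := orderOf_eq_prime (by rw [pow_two]; exact F.xx) F.x_ne
  obtain ⟨N, hN, hNodd, hNc⟩ := Cfsg.Agent.S0215.result P x hxo (by
      show x ∈ (P : Subgroup G)
      rw [hP]; exact F.x_T) (by
    intro g hg
    by_contra hne
    refine H.no_bad (y := g * x * g⁻¹) ⟨?_, hne, g, rfl⟩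
    rw [← hP]; exact hg)
  rcases hN.eq_bot_or_eq_top with h1 | h1
  · -- `x` is central
    have hxc : x ∈ center G := by
      rw [mem_center_iff]
      intro g
      have h2 := hNc g
      rw [h1, mem_bot] at h2
      calc g * x = (x * g * x⁻¹ * g⁻¹)⁻¹ * (x * g) := by group
        _ = x * g := by rw [h2, inv_one, one_mul]
    rcases (inferInstance : (center G).Normal).eq_bot_or_eq_top with h2 | h2
    · rw [h2, mem_bot] at hxc
      exact F.x_ne hxc
    · obtain ⟨a, b, hab⟩ := hn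
      apply hab
      have h3 : b ∈ center G := by rw [h2]; exact mem_top b
      exact mem_center_iff.1 h3 a
  · have h2 : orderOf x ∣ Nat.card N := by
      rw [h1, Subgroup.card_top]
      exact orderOf_dvd_natCard x
    rw [hxo] at h2
    exact (Nat.not_even_iff_odd.2 hNodd) (even_iff_two_dvd.2 h2)

end Cfsg.Agent.GH.L2One
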