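import Cfsg.Agent.GH.L2One.Dbl
import Cfsg.Agent.GH.Odd
import Cfsg.Agent.SignalizersComponents.PConstrained
import Cfsg.Agent.Lib.NormalAbelian

/-!
# GH-L2, `m_2(Q) = 1`, `|Q| ≥ 4`, CASE I, step (8): (OC)

`S` a Sylow 2-subgroup of `G`, `c0` an involution with `Z(S) = ⟨c0⟩`, `C(c0)` with at most one 2-component, of odd
centre (`AllOdd`).

* `no_comp`: `C(c0)` has no 2-component;
* `isPConstrained`: `C(c0)` is 2-constrained;
* `centralizer_le`: `C_X(O_2(X)) ≤ O_2(X)`, `X = C(c0)/O(C(c0))`;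
* `exists_coreH`: if `x ∈ S` and `[S, x] ≤ ⟨c0⟩` then `CoreH S N R x c0` for some `N`, `R`;
* `Dbl.exists_coreH`: the same for the situation `Dbl`.
-/

set_option autoImplicit false

open Cfsg Subgroup
open Cfsg.Agent.Intrinsic.Basic Cfsg.Agent.GH.Defs
open Cfsg.Agent.SignalizersComponents.IntrinsicBasic

namespace Cfsg.Agent.GH.L2One.CoreOf

/-- The stabiliser of the chain `1 ≤ ⟨c⟩ ≤ O_2(X)` lies in `O_2(X)`. -/
theorem mem_pCore_of_chain {X : Type*} [Group X] {c a : X} (hc : ∀ g, c * g = g * c)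
    (hcc : c * c = 1) (hcR : centralizer (pCore 2 X : Set X) ≤ pCore 2 X)
    (ha : ∀ y ∈ pCore 2 X, a * y * a⁻¹ * y⁻¹ = 1 ∨ a * y * a⁻¹ * y⁻¹ = c) : a ∈ pCore 2 X := by
  have hRn : (pCore 2 X).Normal := Lib.Cores.pCore_normal 2
  have key : ∀ {w y : X}, (w * y * w⁻¹ * y⁻¹ = 1 ∨ w * y * w⁻¹ * y⁻¹ = c) ↔
      (w * y * w⁻¹ = y ∨ w * y * w⁻¹ = c * y) := by
    intro w y
    constructor
    · rintro (h | h)
      · exact Or.inl (mul_inv_eq_one.mp h)
      · exact Or.inr (mul_inv_eq_iff_eq_mul.mp h)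
    · rintro (h | h)
      · exact Or.inl (mul_inv_eq_one.mpr h)
      · exact Or.inr (mul_inv_eq_iff_eq_mul.mpr h)
  let W : Subgroup X :=
    { carrier := {w | ∀ y ∈ pCore 2 X, w * y * w⁻¹ = y ∨ w * y * w⁻¹ = c * y}
      one_mem' := fun y _ => Or.inl (by group)
      mul_mem' := by
        intro u w hu hw y hy
        have e : u * w * y * (u * w)⁻¹ = u * (w * y * w⁻¹) * u⁻¹ := by group
        rw [e]
        rcases hw y hy with h1 | h1
        · rw [h1]
          exact hu y hy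
        · have e2 : u * (c * y) * u⁻¹ = c * (u * y * u⁻¹) := by
            rw [← mul_assoc, ← hc u]; group
          rw [h1, e2]
          rcases hu y hy with h2 | h2
          · rw [h2]; exact Or.inr rfl
          · rw [h2, ← mul_assoc, hcc, one_mul]; exact Or.inl rfl
      inv_mem' := by
        intro u hu y hy
        have hy' : u⁻¹ * y * u⁻¹⁻¹ ∈ pCore 2 X := hRn.conj_mem y hy u⁻¹
        rcases hu _ hy' with h1 | h1
        · left
          have e : u * (u⁻¹ * y * u⁻¹⁻¹) * u⁻¹ = y := by group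
          rw [e] at h1
          exact h1.symm
        · right
          have e : u * (u⁻¹ * y * u⁻¹⁻¹) * u⁻¹ = y := by group
          rw [e] at h1
          calc u⁻¹ * y * u⁻¹⁻¹ = c * (c * (u⁻¹ * y * u⁻¹⁻¹)) := by
                rw [← mul_assoc c c, hcc, one_mul]
            _ = c * y := by rw [← h1] }
  have hWn : W.Normal := by
    refine ⟨fun w hw g y hy => ?_⟩
    have hy' : g⁻¹ * y * g⁻¹⁻¹ ∈ pCore 2 X := hRn.conj_mem y hy g⁻¹
    have e : g * w * g⁻¹ * y * (g * w * g⁻¹)⁻¹ = g * (w * (g⁻¹ * y * g⁻¹⁻¹) * w⁻¹) * g⁻¹ := by group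
    rw [e]
    rcases hw _ hy' with h1 | h1
    · left
      rw [h1]; group
    · right
      rw [h1]
      have e2 : g * (c * (g⁻¹ * y * g⁻¹⁻¹)) * g⁻¹ = g * c * g⁻¹ * y := by group
      rw [e2, ← hc g]
      group
  have hWp : IsPGroup 2 W := by
    rintro ⟨w, hw⟩
    have hsq : w * w ∈ centralizer (pCore 2 X : Set X) := by
      rw [mem_centralizer_iff]
      intro y hy
      have e : w * w * y * (w * w)⁻¹ = y := by
        have e0 : w * w * y * (w * w)⁻¹ = w * (w * y * w⁻¹) * w⁻¹ := by group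
        rw [e0]
        rcases hw y hy with h1 | h1
        · rw [h1, h1]
        · have e2 : w * (c * y) * w⁻¹ = c * (w * y * w⁻¹) := by
            rw [← mul_assoc, ← hc w]; group
          rw [h1, e2, h1, ← mul_assoc, hcc, one_mul]
      calc y * (w * w) = (w * w * y * (w * w)⁻¹) * (w * w) := by rw [e]
        _ = w * w * y := by group
    obtain ⟨k, hk⟩ := (Lib.Cores.pCore_isPGroup (G := X) 2) ⟨_, hcR hsq⟩
    refine ⟨k + 1, Subtype.ext ?_⟩
    have hk' : (w * w) ^ 2 ^ k = 1 := congrArg Subtype.val hk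
    show w ^ 2 ^ (k + 1) = 1
    rw [pow_succ', pow_mul, pow_two, hk']
  have h1 := Lib.Cores.le_pCore hWn hWp
  exact h1 (fun y hy => key.mp (ha y hy))

variable {G : Type*} [Group G] [Finite G]

/-- A nontrivial normal subgroup of the 2-group `S` contains `c0` if `Z(S) ≤ ⟨c0⟩`. -/
theorem mem_of_normal {S M : Subgroup G} (hS : IsPGroup 2 S) {c0 : G}
    (hZ : ∀ m ∈ S, (∀ s ∈ S, s * m = m * s) → m = 1 ∨ m = c0) (hMS : M ≤ S) (hM : M ≠ ⊥)
    (hMn : ∀ s ∈ S, ∀ m ∈ M, s * m * s⁻¹ ∈ M) : c0 ∈ M := by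
  have hf : Fact (Nat.Prime 2) := ⟨Nat.prime_two⟩
  have hnil : Group.IsNilpotent S := hS.isNilpotent
  have hn : (M.subgroupOf S).Normal := ⟨fun m hm g => hMn g g.2 m hm⟩
  have hne : M.subgroupOf S ≠ ⊥ := by
    intro h
    apply hM
    rw [eq_bot_iff]
    intro m hm
    have h1 : (⟨m, hMS hm⟩ : S) ∈ M.subgroupOf S := hm
    rw [h, mem_bot] at h1
    exact (congrArg Subtype.val h1 : m = 1)
  have h1 := Lib.NormalAbelian.normal_inf_center_ne_bot (M.subgroupOf S) hne
  obtain ⟨⟨m, hm⟩, hm1'⟩ := Subgroup.ne_bot_iff_exists_ne_one.mp h1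
  have hm1 : m ≠ 1 := fun h => hm1' (Subtype.ext h)
  have h2 : ∀ s ∈ S, s * (m : G) = m * s := by
    intro s hs
    have := mem_center_iff.mp hm.2 ⟨s, hs⟩
    exact congrArg Subtype.val this
  rcases hZ m m.2 h2 with h3 | h3
  · exact absurd (Subtype.ext h3) hm1
  · rw [← h3]
    exact hm.1

section

variable (S : Sylow 2 G) {c0 : G} (hc : orderOf c0 = 2)
  (hcS : ∀ s ∈ (S : Subgroup G), c0 * s = s * c0)
  (hZ : ∀ m ∈ (S : Subgroup G), (∀ s ∈ (S : Subgroup G), s * m = m * s) → m = 1 ∨ m = c0)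
  (huniq : ∀ K L : Subgroup G, Comp2 c0 K → Comp2 c0 L → K = L)
  (hodd : ∀ K : Subgroup G, Comp2 c0 K → ¬ EvenCenter K)

omit [Finite G] in
include hcS in
theorem sylow_le : (S : Subgroup G) ≤ centralizer ({c0} : Set G) := fun s hs =>
  mem_centralizer_singleton_iff.mpr (hcS s hs).symm

include hcS in
/-- every 2-subgroup of `C(c0)` is conjugate in `C(c0)` into `S` -/
theorem exists_conj_le {P : Subgroup G} (hP : IsPGroup 2 P) (hPc : P ≤ centralizer ({c0} : Set G)) :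
    ∃ g ∈ centralizer ({c0} : Set G), ∀ p ∈ P, g * p * g⁻¹ ∈ (S : Subgroup G) := by
  have hf : Fact (Nat.Prime 2) := ⟨Nat.prime_two⟩
  let H : Subgroup G := centralizer ({c0} : Set G)
  have hSH : (S : Subgroup G) ≤ H := sylow_le S hcS
  let S' : Sylow 2 H := S.subtype hSH
  have hP' : IsPGroup 2 (P.subgroupOf H) := hP.comap_of_injective _ (Subgroup.subtype_injective _)
  obtain ⟨Q, hQ⟩ := hP'.exists_le_sylow
  obtain ⟨g, hg⟩ := MulAction.exists_smul_eq H Q S'
  refine ⟨g, g.2, fun p hp => ?_⟩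
  have h1 : (⟨p, hPc hp⟩ : H) ∈ (Q : Subgroup H) := hQ hp
  have h2 : g * ⟨p, hPc hp⟩ * g⁻¹ ∈ (S' : Subgroup H) := by
    rw [← hg]
    exact ⟨_, h1, rfl⟩
  exact h2

include hc hcS hZ huniq hodd in
/-- `C(c0)` has no 2-component -/
theorem no_comp (K : Subgroup G) : ¬ Comp2 c0 K := by
  intro hK
  have hf : Fact (Nat.Prime 2) := ⟨Nat.prime_two⟩
  have hn : centralizer ({c0} : Set G) ≤ normalizer (K : Set G) := by
    intro g hg
    rw [mem_normalizer_iff_cj]
    exact huniq _ _ (Odd.Comp2.cj_of_mem hK hg) hK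
  have hcK : c0 ∈ K := by
    have h1 : c0 ∈ (S : Subgroup G) ⊓ K := by
      refine mem_of_normal S.isPGroup' hZ inf_le_left ?_ ?_
      · obtain ⟨k, hk⟩ := exists_prime_orderOf_dvd_card' 2 hK.comp.even
        have hkp : IsPGroup 2 (zpowers (k : G)) := by
          refine IsPGroup.of_card (n := 1) ?_
          rw [Nat.card_zpowers, Subgroup.orderOf_coe, hk, pow_one]
        have hkK : zpowers (k : G) ≤ K := by rw [zpowers_le]; exact k.2
        obtain ⟨g, hg, hgS⟩ := exists_conj_le S hcS hkp (hkK.trans hK.comp.le)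
        intro hbot
        have h2 : g * k * g⁻¹ ∈ (S : Subgroup G) ⊓ K :=
          ⟨hgS _ (mem_zpowers _), (mem_normalizer_iff.mp (hn hg) _).mp k.2⟩
        rw [hbot, mem_bot, mul_inv_eq_one, mul_eq_left] at h2
        have h3 : k = 1 := Subtype.ext h2
        rw [h3, orderOf_one] at hk
        norm_num at hk
      · intro s hs m hm
        exact ⟨(S : Subgroup G).mul_mem ((S : Subgroup G).mul_mem hs hm.1)
          ((S : Subgroup G).inv_mem hs), (mem_normalizer_iff.mp (hn (sylow_le S hcS hs)) _).mp hm.2⟩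
    exact h1.2
  have hc2 : c0 ^ 2 ^ 1 = 1 := by rw [pow_one, ← hc, pow_orderOf_eq_one]
  have hfx : Fixes c0 K := Comp.fixes_self (x := c0) (K := K)
    (by
      intro k hk
      exact hK.comp.le hk)
  have h5 := Comp.eq_one_of_odd hK.comp (hodd K hK) hfx ⟨c0, hcK, by
    rw [inv_mul_cancel]; exact one_mem _⟩ hc2
  rw [h5, orderOf_one] at hc
  norm_num at hc

include hc hcS hZ huniq hodd in
/-- `C(c0)` is 2-constrained -/
theorem isPConstrained : IsPConstrained 2 (centralizer ({c0} : Set G)) := by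
  have hf : Fact (Nat.Prime 2) := ⟨Nat.prime_two⟩
  rw [SignalizersComponents.PConstrained.isPConstrained_iff_pLayer_eq_bot]
  change sSup {K : Subgroup (centralizer ({c0} : Set G)) | IsPComponent 2 K} = ⊥
  rw [sSup_eq_bot]
  intro K hK
  exact absurd ⟨hc, isComp_of_subtype hK⟩ (no_comp S hc hcS hZ huniq hodd _)

include hc hcS hZ huniq hodd in
/-- `C_X(O_2(X)) ≤ O_2(X)`, `X = C(c0)/O(C(c0))` -/
theorem centralizer_le :
    centralizer (pCore 2 (centralizer ({c0} : Set G) ⧸ oddCore (centralizer ({c0} : Set G))) :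
      Set (centralizer ({c0} : Set G) ⧸ oddCore (centralizer ({c0} : Set G)))) ≤
      pCore 2 (centralizer ({c0} : Set G) ⧸ oddCore (centralizer ({c0} : Set G))) := by
  have hf : Fact (Nat.Prime 2) := ⟨Nat.prime_two⟩
  exact (SignalizersComponents.PConstrained.isPConstrained_iff_quotient 2).mp
    (isPConstrained S hc hcS hZ huniq hodd)

include hcS in
/-- `O_2(C(c0)/O(C(c0)))` is covered by `S` -/
theorem exists_of_mem_pCore
    {q : centralizer ({c0} : Set G) ⧸ oddCore (centralizer ({c0} : Set G))}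
    (hq : q ∈ pCore 2 (centralizer ({c0} : Set G) ⧸ oddCore (centralizer ({c0} : Set G)))) :
    ∃ s : centralizer ({c0} : Set G), (s : G) ∈ (S : Subgroup G) ∧
      QuotientGroup.mk' (oddCore (centralizer ({c0} : Set G))) s = q := by
  have hf : Fact (Nat.Prime 2) := ⟨Nat.prime_two⟩
  let S' : Sylow 2 (centralizer ({c0} : Set G)) := S.subtype (sylow_le S hcS)
  have hs := QuotientGroup.mk'_surjective (oddCore (centralizer ({c0} : Set G)))
  have h1 := Lib.Cores.pCore_le_sylow (S'.mapSurjective hs) hq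
  rw [Sylow.coe_mapSurjective] at h1
  obtain ⟨s, hs, rfl⟩ := h1
  exact ⟨s, hs, rfl⟩

/-- `S` embeds in `C(c0)/O(C(c0))` -/
theorem eq_of_mk_eq {a b : centralizer ({c0} : Set G)} (ha : (a : G) ∈ (S : Subgroup G))
    (hb : (b : G) ∈ (S : Subgroup G))
    (h : QuotientGroup.mk' (oddCore (centralizer ({c0} : Set G))) a =
      QuotientGroup.mk' (oddCore (centralizer ({c0} : Set G))) b) : a = b := by
  have h1 : a⁻¹ * b ∈ oddCore (centralizer ({c0} : Set G)) := QuotientGroup.eq.mp h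
  have h2 : ((a⁻¹ * b : centralizer ({c0} : Set G)) : G) ∈ core (centralizer ({c0} : Set G)) :=
    ⟨_, h1, rfl⟩
  obtain ⟨n, hn⟩ := S.isPGroup' ⟨_, mul_mem (inv_mem ha) hb⟩
  have h3 := eq_one_of_mem_core (n := n) h2 (congrArg Subtype.val hn)
  exact Subtype.ext (inv_mul_eq_one.mp h3)

include hc hcS hZ huniq hodd in
/-- (OC) for `H = C(c0)` and `x ∈ S` with `[S, x] ≤ ⟨c0⟩`. -/
theorem exists_coreH {x : G} (hxS : x ∈ (S : Subgroup G))
    (hcomm : ∀ s ∈ (S : Subgroup G), x * s * x⁻¹ * s⁻¹ = 1 ∨ x * s * x⁻¹ * s⁻¹ = c0) :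
    ∃ N R : Subgroup G, CoreH (S : Subgroup G) N R x c0 := by
  have hSH := sylow_le S hcS
  have hcc : c0 * c0 = 1 := by rw [← pow_two, ← hc, pow_orderOf_eq_one]
  have hc0H : c0 ∈ centralizer ({c0} : Set G) := Odd.mem_centralizer_self c0
  set H : Subgroup G := centralizer ({c0} : Set G) with hH
  have memH : ∀ {g : G}, c0 * g = g * c0 → g ∈ H := fun h =>
    mem_centralizer_singleton_iff.mpr h.symm
  have Hmem : ∀ {g : G}, g ∈ H → c0 * g = g * c0 := fun h =>
    (mem_centralizer_singleton_iff.mp h).symm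
  set π : H →* H ⧸ oddCore H := QuotientGroup.mk' (oddCore H) with hπ
  have hπs : Function.Surjective π := QuotientGroup.mk'_surjective _
  have hPn : (pCore 2 (H ⧸ oddCore H)).Normal := Lib.Cores.pCore_normal 2
  let x' : H := ⟨x, hSH hxS⟩
  let c' : H := ⟨c0, hc0H⟩
  have hc'c : ∀ q : H ⧸ oddCore H, π c' * q = q * π c' := by
    intro q
    obtain ⟨h, rfl⟩ := hπs q
    rw [← map_mul, ← map_mul]
    congr 1
    exact Subtype.ext (Hmem h.2)
  have hc'' : π c' * π c' = 1 := by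
    rw [← map_mul, ← map_one π]
    congr 1
    exact Subtype.ext hcc
  -- commutators with `x`
  have hcx : ∀ y ∈ pCore 2 (H ⧸ oddCore H), π x' * y * (π x')⁻¹ * y⁻¹ = 1 ∨
      π x' * y * (π x')⁻¹ * y⁻¹ = π c' := by
    intro y hy
    obtain ⟨s, hs, rfl⟩ := exists_of_mem_pCore S hcS hy
    change π x' * π s * (π x')⁻¹ * (π s)⁻¹ = 1 ∨ π x' * π s * (π x')⁻¹ * (π s)⁻¹ = π c'
    rw [← map_inv, ← map_inv, ← map_mul, ← map_mul, ← map_mul]
    rcases hcomm s hs with h1 | h1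
    · left
      rw [← map_one π]
      congr 1
      exact Subtype.ext h1
    · right
      congr 1
      exact Subtype.ext h1
  have hx' : π x' ∈ pCore 2 (H ⧸ oddCore H) :=
    mem_pCore_of_chain hc'c hc'' (centralizer_le S hc hcS hZ huniq hodd) hcx
  have hR : ∀ {s : G}, s ∈ (S : Subgroup G) ⊓ ((pCore 2 (H ⧸ oddCore H)).comap π).map H.subtype ↔
      s ∈ (S : Subgroup G) ∧ ∃ h : H, (h : G) = s ∧ π h ∈ pCore 2 (H ⧸ oddCore H) := by
    intro s
    constructor
    · rintro ⟨h1, h, h2, h3⟩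
      exact ⟨h1, h, h3, h2⟩
    · rintro ⟨h1, h, h3, h2⟩
      exact ⟨h1, h, h2, h3⟩
  refine ⟨core H, (S : Subgroup G) ⊓ ((pCore 2 (H ⧸ oddCore H)).comap π).map H.subtype,
    ?_, ?_, ?_, ?_, ?_, ?_, ?_⟩
  · intro n hn
    exact Hmem (core_le H hn)
  · intro h hh n hn
    exact conj_mem_core (Subgroup.le_normalizer (memH hh)) hn
  · exact odd_card_core H
  · exact inf_le_left
  · intro s hs y hy
    obtain ⟨h1, h, h2, h3⟩ := hR.mp hy
    refine hR.mpr ⟨mul_mem (mul_mem hs h1) (inv_mem hs), ⟨s, hSH hs⟩ * h * ⟨s, hSH hs⟩⁻¹, ?_, ?_⟩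
    · rw [← h2]; rfl
    · rw [map_mul, map_mul, map_inv]
      exact hPn.conj_mem _ h3 _
  · exact hR.mpr ⟨hxS, x', rfl, hx'⟩
  · intro h hh
    let h' : H := ⟨h, memH hh⟩
    have h1 : π (h' * x' * h'⁻¹) ∈ pCore 2 (H ⧸ oddCore H) := by
      rw [map_mul, map_mul, map_inv]
      exact hPn.conj_mem _ hx' _
    obtain ⟨y, hy, hyx⟩ := exists_of_mem_pCore S hcS h1
    change π y = π (h' * x' * h'⁻¹) at hyx
    refine ⟨y, hR.mpr ⟨hy, y, rfl, hyx ▸ h1⟩, ?_, ?_⟩
    · exact ⟨y⁻¹ * (h' * x' * h'⁻¹), QuotientGroup.eq.mp hyx, rfl⟩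
    · intro w hw
      obtain ⟨hwS, w', rfl, hw'⟩ := hR.mp hw
      -- `[w, y] = h [h⁻¹ w h, x] h⁻¹`
      have h2 : π h'⁻¹ * π w' * (π h'⁻¹)⁻¹ ∈ pCore 2 (H ⧸ oddCore H) := hPn.conj_mem _ hw' _
      have h3 := hcx _ h2
      have h4 : π (w' * y * w'⁻¹ * y⁻¹) = 1 ∨ π (w' * y * w'⁻¹ * y⁻¹) = π c' := by
        have e1 : π (w' * y * w'⁻¹ * y⁻¹) = π h' * ((π x' * (π h'⁻¹ * π w' * (π h'⁻¹)⁻¹) * (π x')⁻¹ *
            (π h'⁻¹ * π w' * (π h'⁻¹)⁻¹)⁻¹)⁻¹) * (π h')⁻¹ := by
          rw [map_mul, map_mul, map_mul, map_inv, map_inv, hyx, map_mul, map_mul, map_inv]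
          group
        rw [e1]
        rcases h3 with h3 | h3
        · left
          rw [h3, inv_one, mul_one, mul_inv_cancel]
        · right
          have e2 : (π c')⁻¹ = π c' := inv_eq_of_mul_eq_one_left hc''
          rw [h3, e2, ← hc'c, mul_assoc, mul_inv_cancel, mul_one]
      have hmem : ((w' * y * w'⁻¹ * y⁻¹ : H) : G) ∈ (S : Subgroup G) :=
        mul_mem (mul_mem (mul_mem hwS hy) (inv_mem hwS)) (inv_mem hy)
      rcases h4 with h4 | h4
      · left
        rw [← map_one π] at h4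
        exact congrArg Subtype.val (eq_of_mk_eq S hmem (one_mem _) h4)
      · right
        have hcS' : c0 ∈ (S : Subgroup G) := by
          by_cases hbot : (S : Subgroup G) = ⊥
          · -- `S ≠ 1` since `c0` is an involution
            exfalso
            have hf : Fact (Nat.Prime 2) := ⟨Nat.prime_two⟩
            obtain ⟨g, hg, hgS⟩ := exists_conj_le S hcS (P := zpowers c0)
              (IsPGroup.of_card (n := 1) (by rw [Nat.card_zpowers, hc, pow_one]))
              (by rw [zpowers_le]; exact hc0H)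
            have h5 := hgS c0 (mem_zpowers _)
            rw [hbot, mem_bot, mul_inv_eq_one, mul_eq_left] at h5
            rw [h5, orderOf_one] at hc
            norm_num at hc
          · exact mem_of_normal S.isPGroup' hZ le_rfl hbot
              (fun s hs m hm => mul_mem (mul_mem hs hm) (inv_mem hs))
        exact congrArg Subtype.val (eq_of_mk_eq S hmem hcS' h4)

end

/-! ### the situation `Dbl` -/

section dbl

variable {G : Type*} [Group G] {x z : G} {S T T0 D : Subgroup G} {d : ℕ} {r c s : G}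

theorem z_mem (h : Dbl x z S T T0 D d r c s) : z ∈ D := by
  rw [h.z_eq]
  exact pow_mem h.r_mem _

theorem two_pow (h : Dbl x z S T T0 D d r c s) : 2 ^ (d - 1) = 2 ^ (d - 2) * 2 := by
  have := h.d_ge
  rw [← pow_succ]
  congr 1
  omega

theorem zz (h : Dbl x z S T T0 D d r c s) : z * z = 1 := by
  rw [h.z_eq, ← pow_two, ← pow_mul, ← (two_pow h), ← h.or_eq, pow_orderOf_eq_one]

theorem z_ne (h : Dbl x z S T T0 D d r c s) : z ≠ 1 := by
  intro h1
  rw [h.z_eq] at h1
  have h2 := orderOf_dvd_of_pow_eq_one h1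
  rw [h.or_eq] at h2
  have h3 := Nat.le_of_dvd (by positivity) h2
  have h4 : 0 < 2 ^ (d - 2) := by positivity
  have h5 := (two_pow h)
  omega

theorem xx (h : Dbl x z S T T0 D d r c s) : x * x = 1 := by
  rw [← h.sz]
  calc s * z * s⁻¹ * (s * z * s⁻¹) = s * (z * z) * s⁻¹ := by group
    _ = 1 := by rw [(zz h)]; group

theorem x_ne_z (h : Dbl x z S T T0 D d r c s) : x ≠ z := by
  intro h1
  refine (z_ne h) (h.disj z (z_mem h) z (z_mem h) ?_)
  rw [h.sz, h1]

theorem x_mem (h : Dbl x z S T T0 D d r c s) : x ∈ S := by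
  rw [← h.sz]
  exact mul_mem (mul_mem h.s_mem (h.T_le (h.D_le (z_mem h)))) (inv_mem h.s_mem)

theorem xz (h : Dbl x z S T T0 D d r c s) : x * z = z * x :=
  (h.T_iff z (h.T_le (h.D_le (z_mem h)))).mp (h.D_le (z_mem h))

theorem c0_sq (h : Dbl x z S T T0 D d r c s) : x * z * (x * z) = 1 := by
  calc x * z * (x * z) = x * (z * x) * z := by group
    _ = (x * x) * (z * z) := by rw [← (xz h)]; group
    _ = 1 := by rw [(xx h), (zz h), one_mul]

theorem c0_ne (h : Dbl x z S T T0 D d r c s) : x * z ≠ 1 := by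
  intro h1
  apply (x_ne_z h)
  rw [eq_inv_of_mul_eq_one_left h1]
  exact inv_eq_of_mul_eq_one_left (zz h)

theorem orderOf_c0 (h : Dbl x z S T T0 D d r c s) : orderOf (x * z) = 2 :=
  orderOf_eq_prime (by rw [pow_two]; exact (c0_sq h)) (c0_ne h)

/-- `Z(D) = ⟨z⟩` -/
theorem center_D (h : Dbl x z S T T0 D d r c s) {f : G} (hf : f ∈ D) (hr : r * f = f * r)
    (hc : c * f = f * c) : f = 1 ∨ f = z := by
  obtain ⟨k, hk | hk⟩ := h.D_form f hf
  · have h1 : c * r ^ k * c⁻¹ = r ^ (-k) := by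
      rw [← conj_zpow, h.crc, inv_zpow, zpow_neg]
    rw [← hk, hc, mul_inv_cancel_right, hk] at h1
    have h2 : r ^ (k + k) = 1 := by
      rw [zpow_add]
      nth_rewrite 1 [h1]
      rw [← zpow_add, neg_add_cancel, zpow_zero]
    have h3 : (orderOf r : ℤ) ∣ k + k := orderOf_dvd_iff_zpow_eq_one.mpr h2
    rw [h.or_eq, (two_pow h)] at h3
    have h4 : ((2 ^ (d - 2) : ℕ) : ℤ) ∣ k := by
      obtain ⟨j, hj⟩ := h3
      refine ⟨j, ?_⟩
      push_cast at hj ⊢
      linarith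
    obtain ⟨j, rfl⟩ := h4
    rw [zpow_mul, zpow_natCast, ← h.z_eq] at hk
    rcases Int.even_or_odd j with hj | hj
    · left
      obtain ⟨i, rfl⟩ := hj
      rw [hk, ← two_mul, zpow_mul, zpow_two, (zz h), one_zpow]
    · right
      obtain ⟨i, rfl⟩ := hj
      rw [hk, zpow_add, zpow_mul, zpow_one, zpow_two, (zz h), one_zpow, one_mul]
  · exfalso
    have h1 : r * f * r⁻¹ = r ^ (k + 2) * c := by
      have e1 : c * r⁻¹ * c⁻¹ = r := by
        have h0 : c * r⁻¹ * c⁻¹ = (c * r * c⁻¹)⁻¹ := by group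
        rw [h0, h.crc, inv_inv]
      rw [hk]
      calc r * (r ^ k * c) * r⁻¹ = r * r ^ k * (c * r⁻¹ * c⁻¹) * c := by group
        _ = r ^ (k + 2) * c := by rw [e1]; group
    rw [hr, mul_inv_cancel_right, hk] at h1
    have h2 : r ^ k = r ^ (k + 2) := mul_right_cancel h1
    rw [zpow_add, left_eq_mul] at h2
    have h3 : (orderOf r : ℤ) ∣ 2 := orderOf_dvd_iff_zpow_eq_one.mpr h2
    rw [h.or_eq, (two_pow h)] at h3
    have h5 := h.d_ge
    have h4 := Int.le_of_dvd (by norm_num) h3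
    have h6 : 2 ^ 1 ≤ 2 ^ (d - 2) := Nat.pow_le_pow_right (by norm_num) (by omega)
    have h7 : 4 ≤ 2 ^ (d - 2) * 2 := by omega
    have h8 : (4 : ℤ) ≤ ((2 ^ (d - 2) * 2 : ℕ) : ℤ) := by exact_mod_cast h7
    omega

/-- `T` centralises `z` -/
theorem T_z (h : Dbl x z S T T0 D d r c s) {t : G} (ht : t ∈ T) : t * z * t⁻¹ = z := by
  have h1 : t * z * t⁻¹ ∈ D := h.D_norm t ht z (z_mem h)
  have hz : ∀ e ∈ D, e * z = z * e := by
    intro e he
    have hrz : r * z = z * r := by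
      rw [h.z_eq]; exact (Commute.self_pow r _).eq
    have hcz : c * z * c⁻¹ = z := by
      have h2 : c * z * c⁻¹ = z⁻¹ := by
        rw [h.z_eq, ← conj_pow, h.crc, inv_pow]
      rw [h2]
      exact inv_eq_of_mul_eq_one_left (zz h)
    have hcz' : c * z = z * c := mul_inv_eq_iff_eq_mul.mp hcz
    have hrk : ∀ k : ℤ, r ^ k * z = z * r ^ k := fun k => (Commute.zpow_left hrz k).eq
    obtain ⟨k, hk | hk⟩ := h.D_form e he
    · rw [hk]; exact hrk k
    · rw [hk, mul_assoc, hcz', ← mul_assoc, hrk, mul_assoc]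
  have h2 : ∀ e ∈ D, e * (t * z * t⁻¹) = t * z * t⁻¹ * e := by
    intro e he
    have h3 : t⁻¹ * e * t⁻¹⁻¹ ∈ D := h.D_norm t⁻¹ (inv_mem ht) e he
    rw [inv_inv] at h3
    have h4 := hz _ h3
    calc e * (t * z * t⁻¹) = t * ((t⁻¹ * e * t) * z) * t⁻¹ := by group
      _ = t * z * t⁻¹ * e := by rw [h4]; group
  rcases (center_D h) h1 (h2 r h.r_mem) (h2 c h.c_mem) with h3 | h3
  · exfalso
    rw [mul_inv_eq_one, mul_eq_left] at h3
    exact (z_ne h) h3
  · exact h3

/-- every element of `S` is in `T` or in `sT` -/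
theorem S_cases (h : Dbl x z S T T0 D d r c s) {g : G} (hg : g ∈ S) :
    g ∈ T ∨ ∃ t ∈ T, g = s * t := by
  by_cases hgT : g ∈ T
  · exact Or.inl hgT
  · exact Or.inr ⟨_, h.S_form g hg hgT, by group⟩

theorem T_x (h : Dbl x z S T T0 D d r c s) {t : G} (ht : t ∈ T) : t * x * t⁻¹ = x := by
  rw [← (h.T_iff t (h.T_le ht)).mp ht, mul_inv_cancel_right]

/-- `c0 = xz` is central in `S` -/
theorem c0_comm (h : Dbl x z S T T0 D d r c s) : ∀ g ∈ S, x * z * g = g * (x * z) := by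
  have hT : ∀ t ∈ T, t * (x * z) * t⁻¹ = x * z := by
    intro t ht
    calc t * (x * z) * t⁻¹ = (t * x * t⁻¹) * (t * z * t⁻¹) := by group
      _ = x * z := by rw [(T_x h) ht, (T_z h) ht]
  have hs : s * (x * z) * s⁻¹ = x * z := by
    calc s * (x * z) * s⁻¹ = (s * x * s⁻¹) * (s * z * s⁻¹) := by group
      _ = x * z := by rw [h.sx, h.sz, (xz h)]
  intro g hg
  rcases (S_cases h) hg with ht | ⟨t, ht, rfl⟩
  · exact (mul_inv_eq_iff_eq_mul.mp (hT g ht)).symm
  · refine (mul_inv_eq_iff_eq_mul.mp ?_).symm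
    calc s * t * (x * z) * (s * t)⁻¹ = s * (t * (x * z) * t⁻¹) * s⁻¹ := by group
      _ = x * z := by rw [hT t ht, hs]

/-- `[x, S] ≤ ⟨c0⟩` -/
theorem comm_x (h : Dbl x z S T T0 D d r c s) :
    ∀ g ∈ S, x * g * x⁻¹ * g⁻¹ = 1 ∨ x * g * x⁻¹ * g⁻¹ = x * z := by
  intro g hg
  rcases (S_cases h) hg with ht | ⟨t, ht, rfl⟩
  · left
    rw [(h.T_iff g hg).mp ht]
    group
  · right
    have hxi : x⁻¹ = x := inv_eq_of_mul_eq_one_left (xx h)
    calc x * (s * t) * x⁻¹ * (s * t)⁻¹ = x * (s * (t * x * t⁻¹) * s⁻¹) := by rw [hxi]; group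
      _ = x * z := by rw [(T_x h) ht, h.sx]

/-- `Z(S) = ⟨c0⟩` -/
theorem center_S (h : Dbl x z S T T0 D d r c s) :
    ∀ m ∈ S, (∀ g ∈ S, g * m = m * g) → m = 1 ∨ m = x * z := by
  intro m hm hc
  have hmT : m ∈ T := (h.T_iff m hm).mpr (hc x (x_mem h))
  have hmD : ∀ e ∈ D, m * e = e * m := fun e he => (hc e (h.T_le (h.D_le he))).symm
  have hms : s * m * s⁻¹ = m := by rw [hc s h.s_mem, mul_inv_cancel_right]
  obtain ⟨f, hf, hfm⟩ := h.cent_D m hmT hmD
  -- `f` is central in `D`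
  have hfc : ∀ e ∈ D, e * f = f * e := by
    intro e he
    have h1 : s * e * s⁻¹ * (s * f * s⁻¹) = s * f * s⁻¹ * (s * e * s⁻¹) := by
      have h2 : s * e * s⁻¹ ∈ S :=
        mul_mem (mul_mem h.s_mem (h.T_le (h.D_le he))) (inv_mem h.s_mem)
      have h3 := hc _ h2
      have h4 : z * (s * e * s⁻¹) = s * e * s⁻¹ * z := h.comm z (z_mem h) e he
      rcases hfm with hfm | hfm
      · rw [← hfm]; exact h3
      · have h5 : s * f * s⁻¹ = z * m := by
          rw [hfm, ← mul_assoc, (zz h), one_mul]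
        rw [h5]
        calc s * e * s⁻¹ * (z * m) = (s * e * s⁻¹ * z) * m := by group
          _ = z * (s * e * s⁻¹ * m) := by rw [← h4]; group
          _ = z * m * (s * e * s⁻¹) := by rw [h3]; group
    have h2 : s * (e * f) * s⁻¹ = s * (f * e) * s⁻¹ := by
      calc s * (e * f) * s⁻¹ = s * e * s⁻¹ * (s * f * s⁻¹) := by group
        _ = s * (f * e) * s⁻¹ := by rw [h1]; group
    exact mul_left_cancel (mul_right_cancel h2)
  have hxs : x ≠ 1 := by
    intro h1
    have h2 := h.sz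
    rw [h1, mul_inv_eq_one, mul_eq_left] at h2
    exact (z_ne h) h2
  rcases (center_D h) hf (hfc r h.r_mem) (hfc c h.c_mem) with rfl | rfl
  · rcases hfm with hfm | hfm
    · left; rw [hfm]; group
    · exfalso
      have h1 : m = z := by rw [hfm]; group
      rw [h1, h.sz] at hms
      exact (x_ne_z h) hms
  · rcases hfm with hfm | hfm
    · exfalso
      rw [h.sz] at hfm
      rw [hfm, h.sx] at hms
      exact (x_ne_z h) hms.symm
    · right
      rw [hfm, h.sz, (xz h)]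

/-- **(OC)** for the situation `Dbl`. -/
theorem dbl_exists_coreH [Finite G] {S : Sylow 2 G} (h : Dbl x z (S : Subgroup G) T T0 D d r c s)
    (huniq : ∀ K L : Subgroup G, Comp2 (x * z) K → Comp2 (x * z) L → K = L)
    (hodd : ∀ K : Subgroup G, Comp2 (x * z) K → ¬ EvenCenter K) :
    ∃ N R : Subgroup G, CoreH (S : Subgroup G) N R x (x * z) :=
  CoreOf.exists_coreH S (orderOf_c0 h) (c0_comm h) (center_S h) huniq hodd (x_mem h) (comm_x h)

/-- **(OC)** for the situation `Dbl`, under `Hyp G` and `AllOdd G`. -/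
theorem coreH [Finite G] {S : Sylow 2 G} (h : Dbl x z (S : Subgroup G) T T0 D d r c s)
    (hG : Hyp G) (ho : AllOdd G) : ∃ N R : Subgroup G, CoreH (S : Subgroup G) N R x (x * z) :=
  dbl_exists_coreH h (fun _ _ => Odd.unique hG ho) (ho _)

end dbl

end Cfsg.Agent.GH.L2One.CoreOf
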