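import Cfsg.Agent.LargeExtra.TransferPow

/-!
# A parity argument for `S/T₀` cyclic of order 4

`S` a Sylow 2-subgroup, `T` of index two, `T₀ ≤ T` normal in `S`, `g ∈ T ↔ g² ∈ T₀` on `S`; `u` a 2-element such that
no conjugate of an even power of `u` is in `S - T`. The number of cosets `gS` with `g⁻¹ u² g ∈ T₀` is odd; so some
conjugation maps `u²` into `T₀` and a given 2-subgroup of `C(u²)` into `S`.
-/

set_option autoImplicit false

open Subgroup

namespace Cfsg.Agent.GH.L2One.ParTransfer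

open Cfsg.Agent.LargeExtra.Transfer

variable {G : Type*} [Group G]

/-- counting modulo 2: a 2-group `P` preserving a predicate on `G/S` -/
theorem card_mod [Finite G] {S : Subgroup G} (p : G ⧸ S → Prop) (P : Subgroup G) (hP : IsPGroup 2 P)
    (hp : ∀ a ∈ P, ∀ q : G ⧸ S, p q → p (a • q)) :
    Nat.card {q : G ⧸ S // p q} ≡ Nat.card {q : G ⧸ S // p q ∧ ∀ a ∈ P, a • q = q} [MOD 2] := by
  classical
  have : Fact (Nat.Prime 2) := ⟨Nat.prime_two⟩
  let act : MulAction P {q : G ⧸ S // p q} :=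
    { smul := fun a q => ⟨(a : G) • q.1, hp a a.2 q.1 q.2⟩
      one_smul := fun q => Subtype.ext (one_smul G q.1)
      mul_smul := fun a b q => Subtype.ext (mul_smul (a : G) (b : G) q.1) }
  have h3 := hP.card_modEq_card_fixedPoints {q : G ⧸ S // p q}
  have h4 : Nat.card (MulAction.fixedPoints P {q : G ⧸ S // p q}) =
      Nat.card {q : G ⧸ S // p q ∧ ∀ a ∈ P, a • q = q} := by
    apply Nat.card_congr
    refine
      { toFun := fun q => ⟨q.1.1, q.1.2, fun a ha => congrArg Subtype.val (q.2 ⟨a, ha⟩)⟩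
        invFun := fun q => ⟨⟨q.1, q.2.1⟩, fun a => Subtype.ext (q.2.2 a a.2)⟩
        left_inv := fun _ => rfl
        right_inv := fun _ => rfl }
  rw [h4] at h3
  exact h3

theorem smul_iff {S : Subgroup G} (a g : G) :
    a • ((g : G) : G ⧸ S) = ((g : G) : G ⧸ S) ↔ g⁻¹ * a * g ∈ S := by
  rw [show a • ((g : G) : G ⧸ S) = ((a * g : G) : G ⧸ S) from rfl, eq_comm, QuotientGroup.eq, mul_assoc]

theorem exists_conj_sq [Finite G] (hG : ∀ H : Subgroup G, H.index ≠ 2) (S : Sylow 2 G) {T T0 : Subgroup G}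
    (hTS : T ≤ S) (h2 : T.relIndex (S : Subgroup G) = 2)
    (hT0 : ∀ g ∈ (S : Subgroup G), ∀ y ∈ T0, g⁻¹ * y * g ∈ T0)
    (hsq : ∀ g ∈ (S : Subgroup G), (g ∈ T ↔ g * g ∈ T0)) (u : G) {k : ℕ} (hu : u ^ (2 ^ k) = 1)
    (hev : ∀ (m : ℕ) (g : G), 2 ∣ m → g⁻¹ * u ^ m * g ∈ (S : Subgroup G) → g⁻¹ * u ^ m * g ∈ T)
    (R : Subgroup G) (hR : IsPGroup 2 R) (hRu : ∀ r ∈ R, r * (u * u) = u * u * r) :
    ∃ g : G, g⁻¹ * (u * u) * g ∈ T0 ∧ ∀ r ∈ R, g⁻¹ * r * g ∈ S := by
  classical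
  have : Fact (Nat.Prime 2) := ⟨Nat.prime_two⟩
  -- the predicate `g⁻¹ u² g ∈ T0`
  let p : G ⧸ (S : Subgroup G) → Prop := fun q => ∃ g : G, (g : G ⧸ (S : Subgroup G)) = q ∧ g⁻¹ * (u * u) * g ∈ T0
  have hpm : ∀ g : G, p (g : G ⧸ (S : Subgroup G)) ↔ g⁻¹ * (u * u) * g ∈ T0 := by
    intro g
    constructor
    · rintro ⟨g', hg', h1⟩
      have h3 := hT0 _ (QuotientGroup.eq.1 hg') _ h1
      have e : (g'⁻¹ * g)⁻¹ * (g'⁻¹ * (u * u) * g') * (g'⁻¹ * g) = g⁻¹ * (u * u) * g := by group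
      rwa [e] at h3
    · intro h
      exact ⟨g, rfl, h⟩
  have hpC : ∀ a : G, a * (u * u) = u * u * a → ∀ q : G ⧸ (S : Subgroup G), p q → p (a • q) := by
    intro a ha q hq
    obtain ⟨g, rfl⟩ := QuotientGroup.mk_surjective q
    rw [hpm] at hq
    show p ((a * g : G) : G ⧸ (S : Subgroup G))
    rw [hpm]
    have e : (a * g)⁻¹ * (u * u) * (a * g) = g⁻¹ * (u * u) * g := by
      calc (a * g)⁻¹ * (u * u) * (a * g) = g⁻¹ * (a⁻¹ * (u * u * a)) * g := by group
        _ = g⁻¹ * (u * u) * g := by rw [← ha]; group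
    rwa [e]
  have hodd : Odd (Nat.card {q : G ⧸ (S : Subgroup G) // p q}) := by
    have hU : IsPGroup 2 (zpowers u) := by
      rw [IsPGroup.iff_card, Nat.card_zpowers]
      obtain ⟨j, -, hj⟩ := (Nat.dvd_prime_pow Nat.prime_two).1 (orderOf_dvd_of_pow_eq_one hu)
      exact ⟨j, hj⟩
    have hUu : ∀ a ∈ zpowers u, a * (u * u) = u * u * a := by
      rintro a ⟨m, rfl⟩
      change u ^ m * (u * u) = u * u * u ^ m
      group
    have hUfix : ∀ g : G, (∀ a ∈ zpowers u, a • (g : G ⧸ (S : Subgroup G)) = g) ↔ g⁻¹ * u * g ∈ (S : Subgroup G) := by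
      intro g
      constructor
      · intro h
        exact (smul_iff u g).1 (h u (mem_zpowers u))
      · intro h a ha
        have h3 : u ∈ MulAction.stabilizer G (g : G ⧸ (S : Subgroup G)) := (smul_iff u g).2 h
        exact (zpowers_le.2 h3) ha
    have h1 := card_mod p (zpowers u) hU (fun a ha => hpC a (hUu a ha))
    -- all fixed points of `u`
    have h3 := card_mod (S := (S : Subgroup G)) (fun _ => True) (zpowers u) hU (fun _ _ _ _ => trivial)
    have h4 : Odd (Nat.card {q : G ⧸ (S : Subgroup G) // True}) := by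
      have e : Nat.card {q : G ⧸ (S : Subgroup G) // True} = (S : Subgroup G).index :=
        Nat.card_congr (Equiv.subtypeUnivEquiv (fun _ => trivial))
      rw [e, ← Nat.not_even_iff_odd, even_iff_two_dvd]
      exact S.not_dvd_index
    -- those of type `S - T`
    have h5 := Cfsg.Agent.LargeExtra.TransferPow.even_card_odd1 hG hTS h2 u hu hev
    have h6 : Nat.card {q : G ⧸ (S : Subgroup G) // True ∧ ∀ a ∈ zpowers u, a • q = q} =
        Nat.card {q : G ⧸ (S : Subgroup G) // p q ∧ ∀ a ∈ zpowers u, a • q = q} +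
        Nat.card {q : G ⧸ (S : Subgroup G) // Odd1 (S : Subgroup G) T u q} := by
      rw [← Nat.card_sum]
      apply Nat.card_congr
      refine Equiv.trans (Equiv.subtypeEquivRight ?_) (Equiv.symm ?_) (β := {q : G ⧸ (S : Subgroup G) //
        (p q ∧ ∀ a ∈ zpowers u, a • q = q) ∨ Odd1 (S : Subgroup G) T u q})
      · intro q
        obtain ⟨g, rfl⟩ := QuotientGroup.mk_surjective q
        rw [hUfix g, hpm, odd1_iff hTS h2]
        have e : g⁻¹ * (u * u) * g = (g⁻¹ * u * g) * (g⁻¹ * u * g) := by group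
        rw [e]
        constructor
        · rintro ⟨-, h⟩
          rcases Classical.em (g⁻¹ * u * g ∈ T) with h7 | h7
          · exact Or.inl ⟨(hsq _ h).1 h7, h⟩
          · exact Or.inr ⟨h, h7⟩
        · rintro (h | h)
          · exact ⟨trivial, h.2⟩
          · exact ⟨trivial, h.1⟩
      · symm
        apply subtypeOrEquiv
        rw [Pi.disjoint_iff]
        intro q
        obtain ⟨g, rfl⟩ := QuotientGroup.mk_surjective q
        rw [Prop.disjoint_iff, hUfix g, hpm, odd1_iff hTS h2]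
        have e : g⁻¹ * (u * u) * g = (g⁻¹ * u * g) * (g⁻¹ * u * g) := by group
        rw [e]
        rintro ⟨⟨h7, h8⟩, -, h9⟩
        exact h9 ((hsq _ h8).2 h7)
    rw [h6] at h3
    have h7 : Odd (Nat.card {q : G ⧸ (S : Subgroup G) // p q ∧ ∀ a ∈ zpowers u, a • q = q} +
        Nat.card {q : G ⧸ (S : Subgroup G) // Odd1 (S : Subgroup G) T u q}) := by
      rw [Nat.odd_iff] at h4 ⊢
      rw [← h4]; exact h3.symm
    have h8 : Odd (Nat.card {q : G ⧸ (S : Subgroup G) // p q ∧ ∀ a ∈ zpowers u, a • q = q}) := by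
      rwa [Nat.odd_add, iff_true_right h5] at h7
    rw [Nat.odd_iff] at h8 ⊢
    rw [← h8]; exact h1
  have h1 := card_mod p R hR (fun a ha => hpC a (hRu a ha))
  have h2' : Odd (Nat.card {q : G ⧸ (S : Subgroup G) // p q ∧ ∀ a ∈ R, a • q = q}) := by
    rw [Nat.odd_iff] at hodd ⊢
    rw [← hodd]; exact h1.symm
  have h3 : Nonempty {q : G ⧸ (S : Subgroup G) // p q ∧ ∀ a ∈ R, a • q = q} := by
    by_contra hne
    rw [not_nonempty_iff] at hne
    rw [Nat.card_of_isEmpty] at h2'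
    exact absurd h2' (by decide)
  obtain ⟨⟨q, hq, hfix⟩⟩ := h3
  obtain ⟨g, rfl⟩ := QuotientGroup.mk_surjective q
  exact ⟨g, (hpm g).1 hq, fun r hr => (smul_iff r g).1 (hfix r hr)⟩

end Cfsg.Agent.GH.L2One.ParTransfer
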