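import Cfsg.Agent.GH.L2One.CoreLem
import Cfsg.Agent.GH.L2One.ParTransfer

/-!
# GH-L2, CASE I, step (8b): `S/T₀` is not cyclic
-/

set_option autoImplicit false

open Subgroup

namespace Cfsg.Agent.GH.L2One.CyclicCase

open DblLem

variable {G : Type*} [Group G] {x z : G} {S T T0 D N R : Subgroup G} {d : ℕ} {r c s : G}

theorem index_ne_two {G : Type*} [Group G] [IsSimpleGroup G] (hG : ¬ IsMulCommutative G) (H : Subgroup G) :
    H.index ≠ 2 := by
  intro h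
  have hn : H.Normal := normal_of_index_eq_two h
  rcases hn.eq_bot_or_eq_top with rfl | rfl
  · rw [index_bot] at h
    apply hG
    have : Fact (Nat.Prime 2) := ⟨Nat.prime_two⟩
    have hc : IsCyclic G := isCyclic_of_prime_card h
    exact ⟨⟨fun a b => IsCyclic.commGroup.mul_comm a b⟩⟩
  · rw [index_top] at h
    exact absurd h (by decide)

/-- The elements `u = s² p s⁻¹`, `p ∈ D`. -/
theorem u_pow (hD : Dbl x z S T T0 D d r c s) {p e f : G} (hp : p ∈ D) (hf : f ∈ D)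
    (hv : (s * s * p) * (s * s * p) = e * (s * f * s⁻¹)) :
    s * s * p * s⁻¹ ∈ S ∧ s * s * p * s⁻¹ ∉ T ∧ (e = 1 → (s * s * p * s⁻¹) ^ 4 = 1) ∧
      (e = z → (s * s * p * s⁻¹) ^ 4 = x * z) := by
  have hvT : s * s * p ∈ T := T.mul_mem (ss_T hD) (hD.D_le hp)
  have hvS := hD.T_le hvT
  set v := s * s * p with hv'
  have huS : v * s⁻¹ ∈ S := S.mul_mem hvS (S.inv_mem hD.s_mem)
  have huT : v * s⁻¹ ∉ T := by
    intro h
    apply hD.s_not
    have h1 := T.mul_mem (T.inv_mem h) hvT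
    have e1 : (v * s⁻¹)⁻¹ * v = s := by group
    rwa [e1] at h1
  obtain ⟨p', hp', hpp⟩ := conj_sD hD (T.inv_mem hvT) hp
  rw [inv_inv] at hpp
  have h4 : (v * s⁻¹) ^ 4 = e * (s * (f * p' * p) * s⁻¹) := by
    have e1 : (v * s⁻¹) * (v * s⁻¹) = v * (s * p * s⁻¹) := by
      have : s⁻¹ * v = s * p := by rw [hv']; group
      calc (v * s⁻¹) * (v * s⁻¹) = v * (s⁻¹ * v) * s⁻¹ := by group
        _ = _ := by rw [this]; group
    calc (v * s⁻¹) ^ 4 = ((v * s⁻¹) * (v * s⁻¹)) * ((v * s⁻¹) * (v * s⁻¹)) := by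
          rw [pow_succ, pow_succ, pow_two]; group
      _ = (v * v) * (v⁻¹ * (s * p * s⁻¹) * v) * (s * p * s⁻¹) := by rw [e1]; group
      _ = e * (s * (f * p' * p) * s⁻¹) := by rw [hv, hpp]; group
  set f'' := f * p' * p with hf''
  have hf''D : f'' ∈ D := D.mul_mem (D.mul_mem hf hp') hp
  set u := v * s⁻¹ with hu
  have hus : u * s ∈ T := mul_T hD huS hD.s_mem huT hD.s_not
  have hg := hD.D_norm _ hus f'' hf''D
  set g := (u * s) * f'' * (u * s)⁻¹ with hg'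
  -- conjugation by `u`
  have h5 : e * (s * f'' * s⁻¹) = (u * e * u⁻¹) * g := by
    rw [hg']
    have e5 : u * u ^ 4 * u⁻¹ = u ^ 4 := by
      rw [← pow_succ', pow_succ, mul_inv_cancel_right]
    rw [h4] at e5
    rw [← e5]; group
  refine ⟨huS, huT, ?_, ?_⟩
  · rintro rfl
    rw [h4, one_mul]
    have h6 : g = s * f'' * s⁻¹ := by
      rw [one_mul] at h5
      rw [h5]; group
    have h7 := hD.disj g hg f'' hf''D h6
    rw [← h6, h7]
  · intro hez
    rw [hez] at h4 h5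
    rw [h4]
    rw [swap_z hD huS huT] at h5
    have h6 : z * (s * f'' * s⁻¹) = g * (s * z * s⁻¹) := by
      rw [h5, hD.sz]
      exact T_comm hD (hD.D_le hg)
    have h7 := (unique hD (z_D hD) hf''D hg (z_D hD) h6).2
    rw [h7, hD.sz, xz_comm hD]

/-- `g ∈ T ↔ g² ∈ T0` -/
theorem sq_iff (hD : Dbl x z S T T0 D d r c s) (hss : s * s ∉ T0) {g : G} (hg : g ∈ S) :
    g ∈ T ↔ g * g ∈ T0 := by
  refine ⟨fun h => sq_T0 hD h, fun h => ?_⟩
  by_contra hT
  have h1 := hD.S_form g hg hT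
  set t := s⁻¹ * g with ht
  have h2 : s⁻¹ * t * s ∈ T := T_norm' hD hD.s_mem h1
  have e : g * g = (s * s) * ((s⁻¹ * t * s) * t) := by rw [ht]; group
  have h3 : s⁻¹ * t * s ∈ T0 ↔ t ∈ T0 := by
    constructor
    · intro h4
      have h5 := T0_norm hD hD.s_mem h4
      have e5 : s * (s⁻¹ * t * s) * s⁻¹ = t := by group
      rwa [e5] at h5
    · intro h4
      exact T0_norm' hD hD.s_mem h4
  rw [e, mul_T0_iff hD (ss_T hD) (T.mul_mem h2 h1), mul_T0_iff hD h2 h1] at h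
  exact hss (h.2 h3)

/-- some `u ∈ S - T` has `u⁴ ∈ {1, x z}` -/
theorem exists_u (hD : Dbl x z S T T0 D d r c s) (hss : s * s ∉ T0) :
    ∃ u ∈ S, u ∉ T ∧ (u ^ 4 = 1 ∨ u ^ 4 = x * z) := by
  -- choose `p ∈ {1, c}` such that `v = s² p` acts on `⟨r⟩` by an exponent `≡ 3 mod 4`
  obtain ⟨p, hp, l, j, hl, hlj⟩ : ∃ p ∈ D, ∃ l j : ℤ, (s * s * p) * r * (s * s * p)⁻¹ = r ^ l ∧ l = 4 * j + 3 := by
    obtain ⟨l, ⟨i, hi⟩, hl⟩ := conj_r hD (ss_T hD)
    rcases Int.even_or_odd' i with ⟨j, hj | hj⟩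
    · refine ⟨c, hD.c_mem, -l, -j - 1, ?_, by rw [hi, hj]; ring⟩
      calc (s * s * c) * r * (s * s * c)⁻¹ = (s * s) * (c * r * c⁻¹) * (s * s)⁻¹ := by group
        _ = r ^ (-l) := by
          rw [hD.crc]
          have : s * s * r⁻¹ * (s * s)⁻¹ = (s * s * r * (s * s)⁻¹)⁻¹ := by
            simp only [mul_inv_rev, inv_inv, mul_assoc]
          rw [this, hl, zpow_neg]
    · exact ⟨1, D.one_mem, l, j, by rw [mul_one]; exact hl, by rw [hi, hj]; ring⟩
  have hvT : s * s * p ∈ T := T.mul_mem (ss_T hD) (hD.D_le hp)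
  have hv0 : s * s * p ∉ T0 := by
    rw [mul_T0_iff hD (ss_T hD) (hD.D_le hp)]
    intro h
    exact hss (h.2 (D_T0 hD hp))
  obtain ⟨e, he, f, hf, hvv⟩ := (hD.mem_T0 _).1 (sq_T0 hD hvT)
  obtain ⟨k, hk⟩ := conj_c hD hvT
  have hko : Odd k := by
    rw [← Int.not_even_iff_odd, ← hD.swap _ hvT k hk]
    exact hv0
  -- `v` commutes with `e`
  have hve : (s * s * p) * e * (s * s * p)⁻¹ = e := by
    obtain ⟨f', hf', h1⟩ := conj_sD hD hvT hf
    have h2 : ((s * s * p) * e * (s * s * p)⁻¹) * (s * f' * s⁻¹) = e * (s * f * s⁻¹) := by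
      rw [← h1, ← hvv]
      calc s * s * p * e * (s * s * p)⁻¹ * (s * s * p * (s * f * s⁻¹) * (s * s * p)⁻¹)
          = (s * s * p) * (e * (s * f * s⁻¹)) * (s * s * p)⁻¹ := by group
        _ = _ := by rw [← hvv]; group
    exact (unique hD (hD.D_norm _ hvT e he) hf' he hf h2).1
  have hez : e = 1 ∨ e = z := by
    obtain ⟨m, hm | hm⟩ := hD.D_form e he
    · rw [hm, conj_rk hl, rk_eq hD] at hve
      rw [hm]
      apply rk_two hD
      have hd : (2 : ℤ) ^ (d - 1) = 2 * 2 ^ (d - 2) := by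
        have := hD.d_ge
        rw [← pow_succ']; congr 1; omega
      have e1 : l * m - m = 2 * ((2 * j + 1) * m) := by rw [hlj]; ring
      rw [e1, hd] at hve
      have h3 := Int.dvd_of_mul_dvd_mul_left (by norm_num : (2 : ℤ) ≠ 0) hve
      have hcop : IsCoprime ((2 : ℤ) ^ (d - 2)) (2 * j + 1) := by
        apply IsCoprime.pow_left
        exact ⟨-j, 1, by ring⟩
      exact hcop.dvd_of_dvd_mul_left h3
    · exfalso
      rw [hm, conj_refl hD hl hk] at hve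
      have h3 := mul_right_cancel hve
      rw [rk_eq hD] at h3
      have h4 := four_dvd hD h3
      obtain ⟨i, rfl⟩ := hko
      have e1 : l * m + (2 * i + 1) - m = 2 * (2 * j * m + m + i) + 1 := by rw [hlj]; ring
      rw [e1] at h4
      omega
  obtain ⟨h1, h2, h3, h4⟩ := u_pow hD hp hf hvv
  refine ⟨_, h1, h2, ?_⟩
  rcases hez with h5 | h5
  · exact Or.inl (h3 h5)
  · exact Or.inr (h4 h5)

/-- an involution in `T - T0` gives `u ∈ S - T` with `u⁴ = 1` -/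
theorem exists_u_one (hD : Dbl x z S T T0 D d r c s) (hss : s * s ∉ T0) {a : G} (ha : a ∈ T) (ha0 : a ∉ T0)
    (haa : a * a = 1) : ∃ u ∈ S, u ∉ T ∧ u ^ 4 = 1 := by
  have h1 : a⁻¹ * (s * s) ∈ T0 := by
    rw [mul_T0_iff hD (T.inv_mem ha) (ss_T hD), T0.inv_mem_iff]
    exact iff_of_false ha0 hss
  obtain ⟨e, he, f, hf, hef⟩ := (hD.mem_T0 _).1 h1
  have h2 : s * s = a * (e * (s * f * s⁻¹)) := by rw [← hef]; group
  -- `v = s² e⁻¹ = a f'`
  have h3 : s * s * e⁻¹ = a * (s * f * s⁻¹) := by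
    rw [h2, hD.comm e he f hf]; group
  obtain ⟨f', hf', h4⟩ := conj_sD hD ha hf
  have h5 : (s * s * e⁻¹) * (s * s * e⁻¹) = 1 * (s * (f' * f) * s⁻¹) := by
    have hai : a⁻¹ = a := inv_eq_of_mul_eq_one_right haa
    rw [h3]
    calc a * (s * f * s⁻¹) * (a * (s * f * s⁻¹)) = (a * (s * f * s⁻¹) * a⁻¹) * (a * a) * (s * f * s⁻¹) := by
          group
      _ = 1 * (s * (f' * f) * s⁻¹) := by rw [h4, haa]; group
  obtain ⟨h6, h7, h8, -⟩ := u_pow hD (D.inv_mem he) (D.mul_mem hf' hf) h5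
  exact ⟨_, h6, h7, h8 rfl⟩

/-- a conjugate of `x z` in `{x, z, x z}` is `x z` -/
theorem eq_xz (hD : Dbl x z S T T0 D d r c s) (hc0 : ∀ g, g * x * g⁻¹ ≠ x * z) {g : G}
    (h : g⁻¹ * (x * z) * g = 1 ∨ g⁻¹ * (x * z) * g = x ∨ g⁻¹ * (x * z) * g = z ∨
      g⁻¹ * (x * z) * g = x * z) : x * z * g⁻¹ = g⁻¹ * (x * z) := by
  rcases h with h | h | h | h
  · exfalso
    apply xz_ne hD
    have : x * z = g * (g⁻¹ * (x * z) * g) * g⁻¹ := by group
    rw [this, h]; group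
  · exfalso
    apply hc0 g
    calc g * x * g⁻¹ = g * (g⁻¹ * (x * z) * g) * g⁻¹ := by rw [h]
      _ = x * z := by group
  · exfalso
    apply hc0 (g * s)
    calc g * s * x * (g * s)⁻¹ = g * (s * x * s⁻¹) * g⁻¹ := by group
      _ = g * (g⁻¹ * (x * z) * g) * g⁻¹ := by rw [hD.sx, h]
      _ = x * z := by group
  · calc x * z * g⁻¹ = g⁻¹ * (x * z) * g * g⁻¹ := by rw [h]
      _ = g⁻¹ * (x * z) := by group

/-- **(8b)** `S/T0` is not cyclic of order 4. -/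
theorem cyclicCase {G : Type*} [Group G] [Finite G] [IsSimpleGroup G] (hG : ¬ IsMulCommutative G)
    {x z : G} {T T0 D N R : Subgroup G} {d : ℕ} {r c s : G} (S : Sylow 2 G)
    (hD : Dbl x z (S : Subgroup G) T T0 D d r c s) (hc0 : ∀ g, g * x * g⁻¹ ≠ x * z)
    (hC : CoreH (S : Subgroup G) N R x (x * z)) (χ : G → ℤˣ)
    (hχ : ∀ g h, x * g = g * x → x * h = h * x → χ (g * h) = χ g * χ h)
    (hχT : ∀ t ∈ T, (χ t = 1 ↔ t ∈ T0)) (hss : s * s ∉ T0) : False := by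
  have hsq : ∀ g ∈ (S : Subgroup G), (g ∈ T ↔ g * g ∈ T0) := fun g hg => sq_iff hD hss hg
  have hno : ∀ y ∈ (S : Subgroup G), y * y = 1 → y ∈ T := fun y hy h => (hsq y hy).2 (by
    rw [h]; exact T0.one_mem)
  have hGi := index_ne_two hG
  have hT0 : ∀ g ∈ (S : Subgroup G), ∀ y ∈ T0, g⁻¹ * y * g ∈ T0 := fun g hg y hy => T0_norm' hD hg hy
  have hu0 : ∀ u ∈ (S : Subgroup G), u ∉ T → u * u ∈ T ∧ u * u ∉ T0 := fun u hu hT =>
    ⟨mul_T hD hu hu hT hT, fun h => hT ((hsq u hu).2 h)⟩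
  by_cases hA : ∃ u ∈ (S : Subgroup G), u ∉ T ∧ u ^ 4 = 1
  · -- `T - T0` contains the involution `u²`
    obtain ⟨u, hu, huT, hu4⟩ := hA
    obtain ⟨hb, hb0⟩ := hu0 u hu huT
    have hev : ∀ (m : ℕ) (g : G), 2 ∣ m → g⁻¹ * u ^ m * g ∈ (S : Subgroup G) → g⁻¹ * u ^ m * g ∈ T := by
      rintro m g ⟨m', rfl⟩ h
      apply hno _ h
      calc g⁻¹ * u ^ (2 * m') * g * (g⁻¹ * u ^ (2 * m') * g) = g⁻¹ * (u ^ (2 * m') * u ^ (2 * m')) * g := by
            group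
        _ = g⁻¹ * ((u ^ 4) ^ m') * g := by rw [← pow_add, ← pow_mul]; congr 3; ring
        _ = 1 := by rw [hu4, one_pow]; group
    obtain ⟨g, hg1, hg2⟩ := ParTransfer.exists_conj_sq hGi S hD.T_le (relIndex_T hD) hT0 hsq u (k := 2)
      (by norm_num; exact hu4) hev ((S : Subgroup G) ⊓ centralizer {u * u}) (hD.S_two.to_le inf_le_left)
      (fun r hr => mem_centralizer_singleton_iff.1 (mem_inf.1 hr).2)
    have huR : u ∈ (S : Subgroup G) ⊓ centralizer {u * u} :=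
      mem_inf.2 ⟨hu, mem_centralizer_singleton_iff.2 (by group)⟩
    have hxR : x ∈ (S : Subgroup G) ⊓ centralizer {u * u} :=
      mem_inf.2 ⟨x_S hD, mem_centralizer_singleton_iff.2 (T_comm hD hb)⟩
    have hm := hg2 u huR
    have hx' := hg2 x hxR
    have hmT : g⁻¹ * u * g ∈ T := by
      rw [hsq _ hm]
      have e : g⁻¹ * u * g * (g⁻¹ * u * g) = g⁻¹ * (u * u) * g := by group
      rw [e]; exact hg1
    have hxT : g⁻¹ * x * g ∈ T := by
      apply hno _ hx'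
      calc g⁻¹ * x * g * (g⁻¹ * x * g) = g⁻¹ * (x * x) * g := by group
        _ = 1 := by rw [xx hD]; group
    have e1 : g⁻¹ * u * g * (g⁻¹ * x * g) * (g⁻¹ * u * g)⁻¹ * (g⁻¹ * x * g)⁻¹ = g⁻¹ * (x * z) * g := by
      calc g⁻¹ * u * g * (g⁻¹ * x * g) * (g⁻¹ * u * g)⁻¹ * (g⁻¹ * x * g)⁻¹ =
          g⁻¹ * ((u * x * u⁻¹) * x⁻¹) * g := by group
        _ = g⁻¹ * (x * z) * g := by
          rw [swap_x hD hu huT, inv_eq_of_mul_eq_one_right (xx hD), xz_comm hD]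
    have h2 : g⁻¹ * (x * z) * g * (g⁻¹ * (x * z) * g) = 1 := by
      calc g⁻¹ * (x * z) * g * (g⁻¹ * (x * z) * g) = g⁻¹ * (x * z * (x * z)) * g := by group
        _ = 1 := by rw [xz_sq hD]; group
    have h1 := comm_inv hD hmT hxT
    rw [e1] at h1
    have h3 := eq_xz hD hc0 (h1 h2)
    refine CoreLem.not_conj hD hC hno hχ hχT h3 hb hb0 ?_
    rw [inv_inv]; exact hg1
  · -- `T - T0` contains no involution
    have hB : ∀ y ∈ T, y * y = 1 → y ∈ T0 := by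
      intro y hy hyy
      by_contra hy0
      exact hA (exists_u_one hD hss hy hy0 hyy)
    obtain ⟨u, hu, huT, hu4⟩ := exists_u hD hss
    have hu4' : u ^ 4 = x * z := by
      rcases hu4 with h | h
      · exact absurd ⟨u, hu, huT, h⟩ hA
      · exact h
    obtain ⟨hb, hb0⟩ := hu0 u hu huT
    have hu8 : u ^ 8 = 1 := by
      calc u ^ 8 = u ^ 4 * u ^ 4 := by rw [← pow_add]
        _ = 1 := by rw [hu4', xz_sq hD]
    have hev : ∀ (m : ℕ) (g : G), 2 ∣ m → g⁻¹ * u ^ m * g ∈ (S : Subgroup G) → g⁻¹ * u ^ m * g ∈ T := by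
      rintro m g ⟨m', rfl⟩ h
      by_contra hT
      obtain ⟨h1, h2⟩ := hu0 _ h hT
      apply h2
      apply hB _ h1
      calc g⁻¹ * u ^ (2 * m') * g * (g⁻¹ * u ^ (2 * m') * g) * (g⁻¹ * u ^ (2 * m') * g * (g⁻¹ * u ^ (2 * m') * g))
          = g⁻¹ * (u ^ (2 * m') * u ^ (2 * m') * u ^ (2 * m') * u ^ (2 * m')) * g := by group
        _ = g⁻¹ * ((u ^ 8) ^ m') * g := by
            rw [← pow_add, ← pow_add, ← pow_add, ← pow_mul]; congr 3; ring
        _ = 1 := by rw [hu8, one_pow]; group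
    obtain ⟨g, hg1, -⟩ := ParTransfer.exists_conj_sq hGi S hD.T_le (relIndex_T hD) hT0 hsq u (k := 3)
      (by norm_num; exact hu8) hev ⊥ IsPGroup.of_bot (fun r hr => by
        rw [mem_bot] at hr; subst hr; group)
    have e1 : g⁻¹ * (u * u) * g * (g⁻¹ * (u * u) * g) = g⁻¹ * (x * z) * g := by
      have e0 : u ^ 4 = u * u * (u * u) := by rw [pow_succ, pow_succ, pow_two]; group
      rw [← hu4', e0]; group
    have h2 : g⁻¹ * (x * z) * g * (g⁻¹ * (x * z) * g) = 1 := by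
      calc g⁻¹ * (x * z) * g * (g⁻¹ * (x * z) * g) = g⁻¹ * (x * z * (x * z)) * g := by group
        _ = 1 := by rw [xz_sq hD]; group
    have h1 := T0_sq hD hg1 (by rw [e1]; exact h2)
    rw [e1] at h1
    have h3 := eq_xz hD hc0 h1
    refine CoreLem.not_conj hD hC hno hχ hχT h3 hb hb0 ?_
    rw [inv_inv]; exact hg1

end Cfsg.Agent.GH.L2One.CyclicCase
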