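import Cfsg.Agent.GH.L2One.Dbl
import Cfsg.Agent.SylowSp4.ExtTransfer

/-!
# GH-L2, `m_2(Q) = 1`, `|Q| ≥ 4`, CASE I, step (8a): `S/T0` is a four-group

`SplitCase.main`: in the situation `Dbl` with `T0 < T` and `s² ∈ T0` there are commuting involutions
`s' ∈ S - T` and `a ∈ T - T0`.
-/

set_option autoImplicit false

open Subgroup

namespace Cfsg.Agent.GH.L2One.SplitCase

variable {G : Type*} [Group G]

variable {x z : G} {S T T0 D : Subgroup G} {d : ℕ} {r c s : G}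

/-! ### the index two subgroup `T` -/

theorem index (H : Dbl x z S T T0 D d r c s) : T.relIndex S = 2 := by
  rw [Subgroup.relIndex, Subgroup.index_eq_two_iff]
  refine ⟨⟨s, H.s_mem⟩, ?_⟩
  intro b
  by_cases hb : (b : G) ∈ T
  · right
    refine ⟨hb, ?_⟩
    intro h
    apply H.s_not
    have h1 : (b : G) * s ∈ T := h
    have h2 := T.mul_mem (T.inv_mem hb) h1
    rwa [inv_mul_cancel_left] at h2
  · left
    refine ⟨?_, hb⟩
    have hbi : (b : G)⁻¹ ∉ T := fun h => hb (by simpa using T.inv_mem h)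
    have h1 := H.S_form _ (S.inv_mem b.2) hbi
    have h2 := T.inv_mem h1
    have e : (s⁻¹ * (b : G)⁻¹)⁻¹ = (b : G) * s := by group
    rw [e] at h2
    exact h2

theorem mul_mem_T (H : Dbl x z S T T0 D d r c s) {a b : G} (ha : a ∈ S) (hb : b ∈ S) (haT : a ∉ T)
    (hbT : b ∉ T) : a * b ∈ T := by
  have h1 := Subgroup.mul_mem_iff_of_index_two (index H) (a := (⟨a, ha⟩ : S)) (b := ⟨b, hb⟩)
  exact h1.2 ⟨fun h => absurd h haT, fun h => absurd h hbT⟩

theorem T_norm (H : Dbl x z S T T0 D d r c s) {u t : G} (hu : u ∈ S) (ht : t ∈ T) :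
    u * t * u⁻¹ ∈ T := by
  have h1 : (T.subgroupOf S).Normal := Subgroup.normal_of_index_eq_two (index H)
  exact h1.conj_mem ⟨t, H.T_le ht⟩ ht ⟨u, hu⟩

theorem z_mem (H : Dbl x z S T T0 D d r c s) : z ∈ D := by
  rw [H.z_eq]; exact D.pow_mem H.r_mem _

theorem x_mem (H : Dbl x z S T T0 D d r c s) : x ∈ T := by
  rw [← H.sz]; exact T_norm H H.s_mem (H.D_le (z_mem H))

theorem T_x (H : Dbl x z S T T0 D d r c s) {t : G} (ht : t ∈ T) : x * t = t * x :=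
  (H.T_iff t (H.T_le ht)).1 ht

theorem T_z (H : Dbl x z S T T0 D d r c s) {t : G} (ht : t ∈ T) : z * t = t * z := by
  have h1 := T_x H (T_norm H H.s_mem ht)
  rw [← H.sz] at h1
  have h2 : s * (z * t) * s⁻¹ = s * (t * z) * s⁻¹ := by
    calc s * (z * t) * s⁻¹ = s * z * s⁻¹ * (s * t * s⁻¹) := by group
      _ = s * t * s⁻¹ * (s * z * s⁻¹) := h1
      _ = s * (t * z) * s⁻¹ := by group
  exact mul_left_cancel (mul_right_cancel h2)

/-- `s` may be replaced by any element of `s T` -/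
theorem change (H : Dbl x z S T T0 D d r c s) {t : G} (ht : t ∈ T) :
    Dbl x z S T T0 D d r c (s * t) where
  S_two := H.S_two
  T_le := H.T_le
  s_mem := S.mul_mem H.s_mem (H.T_le ht)
  s_not := fun h => H.s_not (by
    have := T.mul_mem h (T.inv_mem ht)
    rwa [mul_inv_cancel_right] at this)
  S_form := fun g hg hgT => by
    have h1 := H.S_form g hg hgT
    have e : (s * t)⁻¹ * g = t⁻¹ * (s⁻¹ * g) := by group
    rw [e]; exact T.mul_mem (T.inv_mem ht) h1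
  T_iff := H.T_iff
  d_ge := H.d_ge
  D_le := H.D_le
  D_norm := H.D_norm
  r_mem := H.r_mem
  c_mem := H.c_mem
  cc := H.cc
  crc := H.crc
  or_eq := H.or_eq
  c_not := H.c_not
  D_form := H.D_form
  z_eq := H.z_eq
  sz := by
    have h1 := T_z H ht
    calc s * t * z * (s * t)⁻¹ = s * (t * z) * t⁻¹ * s⁻¹ := by group
      _ = s * z * s⁻¹ := by rw [← h1]; group
      _ = x := H.sz
  sx := by
    have h1 := T_x H ht
    calc s * t * x * (s * t)⁻¹ = s * (t * x) * t⁻¹ * s⁻¹ := by group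
      _ = s * x * s⁻¹ := by rw [← h1]; group
      _ = z := H.sx
  comm := fun e he f hf => by
    have h1 := H.comm e he _ (H.D_norm t ht f hf)
    have e1 : s * t * f * (s * t)⁻¹ = s * (t * f * t⁻¹) * s⁻¹ := by group
    rw [e1]; exact h1
  disj := fun e he f hf h => by
    have e1 : s * t * f * (s * t)⁻¹ = s * (t * f * t⁻¹) * s⁻¹ := by group
    rw [e1] at h
    exact H.disj e he _ (H.D_norm t ht f hf) h
  mem_T0 := fun g => by
    rw [H.mem_T0]
    constructor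
    · rintro ⟨e, he, f, hf, h⟩
      refine ⟨e, he, t⁻¹ * f * t, ?_, ?_⟩
      · have := H.D_norm t⁻¹ (T.inv_mem ht) f hf
        rwa [inv_inv] at this
      · rw [h]; group
    · rintro ⟨e, he, f, hf, h⟩
      exact ⟨e, he, t * f * t⁻¹, H.D_norm t ht f hf, by rw [h]; group⟩
  swap := H.swap
  cent_D := fun g hg h => by
    obtain ⟨f, hf, h1⟩ := H.cent_D g hg h
    refine ⟨t⁻¹ * f * t, ?_, ?_⟩
    · have := H.D_norm t⁻¹ (T.inv_mem ht) f hf
      rwa [inv_inv] at this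
    · have e1 : s * t * (t⁻¹ * f * t) * (s * t)⁻¹ = s * f * s⁻¹ := by group
      rw [e1]; exact h1

/-! ### the dihedral group `D` -/

theorem crk (H : Dbl x z S T T0 D d r c s) (k : ℤ) : c * r ^ k * c⁻¹ = r ^ (-k) := by
  have h : c * r ^ k * c⁻¹ = (c * r * c⁻¹) ^ k := (conj_zpow).symm
  rw [h, H.crc, inv_zpow, zpow_neg]

theorem c_rk (H : Dbl x z S T T0 D d r c s) (k : ℤ) : c * r ^ k = r ^ (-k) * c := by
  rw [← crk H k, inv_mul_cancel_right]

theorem c_inv (H : Dbl x z S T T0 D d r c s) : c⁻¹ = c := inv_eq_of_mul_eq_one_right H.cc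

theorem refl_sq (H : Dbl x z S T T0 D d r c s) (k : ℤ) : r ^ k * c * (r ^ k * c) = 1 := by
  calc r ^ k * c * (r ^ k * c) = r ^ k * (c * r ^ k) * c := by group
    _ = r ^ k * (r ^ (-k) * c) * c := by rw [c_rk H]
    _ = (r ^ k * r ^ (-k)) * (c * c) := by group
    _ = 1 := by rw [H.cc, ← zpow_add, add_neg_cancel, zpow_zero, one_mul]

theorem rk_one (H : Dbl x z S T T0 D d r c s) (k : ℤ) : r ^ k = 1 ↔ (2 : ℤ) ^ (d - 1) ∣ k := by
  rw [← orderOf_dvd_iff_zpow_eq_one, H.or_eq]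
  norm_num

theorem four_dvd (H : Dbl x z S T T0 D d r c s) {k : ℤ} (h : r ^ k = 1) : (4 : ℤ) ∣ k := by
  rw [rk_one H] at h
  have h3 : (2 : ℤ) ^ 2 ∣ 2 ^ (d - 1) := pow_dvd_pow 2 (by have := H.d_ge; omega)
  have h4 := h3.trans h
  norm_num at h4
  exact h4

theorem z_sq (H : Dbl x z S T T0 D d r c s) : z * z = 1 := by
  rw [H.z_eq, ← pow_add, ← orderOf_dvd_iff_pow_eq_one, H.or_eq]
  have h : d - 1 = (d - 2) + 1 := by have := H.d_ge; omega
  rw [h, pow_succ, mul_two]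

theorem z_ne (H : Dbl x z S T T0 D d r c s) : z ≠ 1 := by
  rw [H.z_eq]
  intro h
  rw [← orderOf_dvd_iff_pow_eq_one, H.or_eq] at h
  have h1 : 2 ^ (d - 1) ≤ 2 ^ (d - 2) := Nat.le_of_dvd (by positivity) h
  have h2 : d - 1 = (d - 2) + 1 := by have := H.d_ge; omega
  rw [h2, pow_succ] at h1
  have h9 : 0 < 2 ^ (d - 2) := by positivity
  omega

theorem x_sq (H : Dbl x z S T T0 D d r c s) : x * x = 1 := by
  rw [← H.sz]
  calc s * z * s⁻¹ * (s * z * s⁻¹) = s * (z * z) * s⁻¹ := by group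
    _ = 1 := by rw [z_sq H]; group

/-- `t r t⁻¹` is an odd power of `r` -/
theorem conj_r (H : Dbl x z S T T0 D d r c s) {t : G} (ht : t ∈ T) :
    ∃ l : ℤ, Odd l ∧ t * r * t⁻¹ = r ^ l := by
  obtain ⟨l, hl⟩ := H.D_form _ (H.D_norm t ht r H.r_mem)
  have hl' : t * r * t⁻¹ = r ^ l := by
    rcases hl with h | h
    · exact h
    · exfalso
      have h1 : t * r ^ (2 : ℤ) * t⁻¹ = 1 := by
        have e2 : t * r ^ (2 : ℤ) * t⁻¹ = (t * r * t⁻¹) * (t * r * t⁻¹) := by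
          rw [zpow_two]; group
        rw [e2, h, refl_sq H]
      have h2 : r ^ (2 : ℤ) = 1 := by
        have : r ^ (2 : ℤ) = t⁻¹ * (t * r ^ (2 : ℤ) * t⁻¹) * t := by group
        rw [this, h1]; group
      have h3 := four_dvd H h2
      norm_num at h3
  refine ⟨l, ?_, hl'⟩
  by_contra heven
  rw [Int.not_odd_iff_even] at heven
  obtain ⟨j, hj⟩ := heven
  have h5 : t * r ^ ((2 : ℤ) ^ (d - 2)) * t⁻¹ = 1 := by
    rw [← conj_zpow, hl', ← zpow_mul, rk_one H, hj]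
    refine ⟨j, ?_⟩
    have : d - 1 = (d - 2) + 1 := by have := H.d_ge; omega
    rw [this, pow_succ]; ring
  have h6 : r ^ ((2 : ℤ) ^ (d - 2)) = 1 := by
    have : r ^ ((2 : ℤ) ^ (d - 2)) = t⁻¹ * (t * r ^ ((2 : ℤ) ^ (d - 2)) * t⁻¹) * t := by group
    rw [this, h5]; group
  apply z_ne H
  rw [H.z_eq, ← h6]
  have e : ((2 : ℤ) ^ (d - 2)) = ((2 ^ (d - 2) : ℕ) : ℤ) := by push_cast; rfl
  rw [e, zpow_natCast]

/-- every element of `T` maps `c` to a reflection -/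
theorem conj_c (H : Dbl x z S T T0 D d r c s) {t : G} (ht : t ∈ T) :
    ∃ k : ℤ, t * c * t⁻¹ = r ^ k * c := by
  obtain ⟨k, hk⟩ := H.D_form _ (H.D_norm t ht c H.c_mem)
  rcases hk with h | h
  · exfalso
    obtain ⟨l, hl, hl'⟩ := conj_r H (T.inv_mem ht)
    rw [inv_inv] at hl'
    have h1 : c = r ^ (l * k) := by
      have e1 : c = t⁻¹ * (t * c * t⁻¹) * t := by group
      have e2 : t⁻¹ * r ^ k * t = (t⁻¹ * r * t) ^ k := by
        have := conj_zpow (i := k) (a := t⁻¹) (b := r)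
        rw [inv_inv] at this
        exact this.symm
      rw [e1, h, e2, hl', ← zpow_mul]
    exact H.c_not _ h1
  · exact ⟨k, h⟩

/-- the parity of an element of `T` -/
theorem odd_of_not (H : Dbl x z S T T0 D d r c s) {t : G} (ht : t ∈ T) (h : t ∉ T0) :
    ∃ k : ℤ, Odd k ∧ t * c * t⁻¹ = r ^ k * c := by
  obtain ⟨k, hk⟩ := conj_c H ht
  refine ⟨k, ?_, hk⟩
  rw [← Int.not_even_iff_odd]
  exact fun h1 => h ((H.swap t ht k hk).2 h1)

theorem T0_le (H : Dbl x z S T T0 D d r c s) : T0 ≤ T := by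
  intro g hg
  obtain ⟨e, he, f, hf, h⟩ := (H.mem_T0 g).1 hg
  rw [h]
  exact T.mul_mem (H.D_le he) (T_norm H H.s_mem (H.D_le hf))

theorem odd_mul (H : Dbl x z S T T0 D d r c s) {t u : G} (ht : t ∈ T) (hu : u ∈ T) (h : t ∉ T0)
    (h' : u ∉ T0) : t * u ∈ T0 := by
  obtain ⟨k, hk, hk'⟩ := odd_of_not H ht h
  obtain ⟨j, hj, hj'⟩ := odd_of_not H hu h'
  obtain ⟨l, hl, hl'⟩ := conj_r H ht
  have h1 : t * u * c * (t * u)⁻¹ = r ^ (l * j + k) * c := by
    calc t * u * c * (t * u)⁻¹ = t * (u * c * u⁻¹) * t⁻¹ := by group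
      _ = (t * r ^ j * t⁻¹) * (t * c * t⁻¹) := by rw [hj']; group
      _ = r ^ (l * j + k) * c := by
        rw [hk', ← conj_zpow, hl', ← zpow_mul, ← mul_assoc, ← zpow_add]
  refine (H.swap _ (T.mul_mem ht hu) _ h1).2 ?_
  exact Odd.add_odd (hl.mul hj) hk

/-- `T0` is normal in `S` -/
theorem T0_norm (H : Dbl x z S T T0 D d r c s) {u t : G} (hu : u ∈ S) (ht : t ∈ T0) :
    u * t * u⁻¹ ∈ T0 := by
  -- conjugation by `s`
  have hs : ∀ t ∈ T0, s * t * s⁻¹ ∈ T0 := by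
    intro t ht
    obtain ⟨e, he, f, hf, h⟩ := (H.mem_T0 t).1 ht
    have hss : s * s ∈ T := mul_mem_T H H.s_mem H.s_mem H.s_not H.s_not
    rw [H.mem_T0]
    refine ⟨s * s * f * (s * s)⁻¹, H.D_norm _ hss f hf, e, he, ?_⟩
    have h2 := H.comm _ (H.D_norm _ hss f hf) e he
    rw [h2, h]; group
  have hT : ∀ u ∈ T, ∀ t ∈ T0, u * t * u⁻¹ ∈ T0 := by
    intro u hu t ht
    by_cases h : u ∈ T0
    · exact T0.mul_mem (T0.mul_mem h ht) (T0.inv_mem h)
    · have h1 : u * t ∉ T0 := fun h2 => h (by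
        have := T0.mul_mem h2 (T0.inv_mem ht)
        rwa [mul_inv_cancel_right] at this)
      have h3 : u⁻¹ ∉ T0 := fun h2 => h (by simpa using T0.inv_mem h2)
      exact odd_mul H (T.mul_mem hu (T0_le H ht)) (T.inv_mem hu) h1 h3
  by_cases h : u ∈ T
  · exact hT u h t ht
  · have h1 := H.S_form u hu h
    have h2 := hs _ (hT _ h1 t ht)
    have e : s * (s⁻¹ * u * t * (s⁻¹ * u)⁻¹) * s⁻¹ = u * t * u⁻¹ := by group
    rwa [e] at h2

theorem sq_mem (H : Dbl x z S T T0 D d r c s) (hss : s * s ∈ T0) {u : G} (hu : u ∈ S) :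
    u * u ∈ T0 := by
  have hT : ∀ u ∈ T, u * u ∈ T0 := by
    intro u hu
    by_cases h : u ∈ T0
    · exact T0.mul_mem h h
    · exact odd_mul H hu hu h h
  by_cases h : u ∈ T
  · exact hT u h
  · have h1 := H.S_form u hu h
    set t := s⁻¹ * u with ht
    have hut : u = s * t := by rw [ht]; group
    have e : u * u = s * t * s⁻¹ * (s * s) * t := by rw [hut]; group
    rw [e]
    by_cases h2 : t ∈ T0
    · exact T0.mul_mem (T0.mul_mem (T0_norm H H.s_mem h2) hss) h2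
    · refine odd_mul H (T.mul_mem (T_norm H H.s_mem h1) (T0_le H hss)) h1 ?_ h2
      intro h3
      apply h2
      have h4 := T0.mul_mem h3 (T0.inv_mem hss)
      rw [mul_inv_cancel_right] at h4
      have h5 := T0_norm H (S.inv_mem H.s_mem) h4
      have e1 : s⁻¹ * (s * t * s⁻¹) * (s⁻¹)⁻¹ = t := by group
      rwa [e1] at h5

theorem comm_mem (H : Dbl x z S T T0 D d r c s) (hss : s * s ∈ T0) {u v : G} (hu : u ∈ S)
    (hv : v ∈ S) : u * v * u⁻¹ * v⁻¹ ∈ T0 := by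
  have h1 := sq_mem H hss (S.mul_mem hu hv)
  have h2 := T0_norm H (S.inv_mem hv) (T0.inv_mem (sq_mem H hss hu))
  have h3 := T0.inv_mem (sq_mem H hss hv)
  have e : u * v * (u * v) * (v⁻¹ * (u * u)⁻¹ * (v⁻¹)⁻¹) * (v * v)⁻¹ = u * v * u⁻¹ * v⁻¹ := by
    group
  rw [← e]
  exact T0.mul_mem (T0.mul_mem h1 h2) h3

/-! ### the product decomposition of `T0` -/

theorem uniq (H : Dbl x z S T T0 D d r c s) {e e' f f' : G} (he : e ∈ D) (he' : e' ∈ D)
    (hf : f ∈ D) (hf' : f' ∈ D) (h : e * (s * f * s⁻¹) = e' * (s * f' * s⁻¹)) : e = e' ∧ f = f' := by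
  have h1 : e'⁻¹ * e = s * (f' * f⁻¹) * s⁻¹ := by
    calc e'⁻¹ * e = e'⁻¹ * (e * (s * f * s⁻¹)) * (s * f * s⁻¹)⁻¹ := by group
      _ = s * (f' * f⁻¹) * s⁻¹ := by rw [h]; group
  have h2 := H.disj _ (D.mul_mem (D.inv_mem he') he) _ (D.mul_mem hf' (D.inv_mem hf)) h1
  refine ⟨(inv_mul_eq_one.1 h2).symm, ?_⟩
  rw [h2] at h1
  have h3 : f' * f⁻¹ = 1 := by
    have e3 : f' * f⁻¹ = s⁻¹ * (s * (f' * f⁻¹) * s⁻¹) * s := by group
    rw [e3, ← h1]; group
  exact (mul_inv_eq_one.1 h3).symm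

/-- multiplication in `T0` -/
theorem mul_T0 (H : Dbl x z S T T0 D d r c s) {e e' f f' : G} (he' : e' ∈ D)
    (hf : f ∈ D) : e * (s * f * s⁻¹) * (e' * (s * f' * s⁻¹)) =
      e * e' * (s * (f * f') * s⁻¹) := by
  have h1 := H.comm e' he' f hf
  calc e * (s * f * s⁻¹) * (e' * (s * f' * s⁻¹)) = e * (s * f * s⁻¹ * e') * (s * f' * s⁻¹) := by
        group
    _ = e * (e' * (s * f * s⁻¹)) * (s * f' * s⁻¹) := by rw [h1]
    _ = e * e' * (s * (f * f') * s⁻¹) := by group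

/-- `s T0` contains an involution -/
theorem exists_inv (H : Dbl x z S T T0 D d r c s) (hss : s * s ∈ T0) :
    ∃ t ∈ T0, s * t * (s * t) = 1 := by
  obtain ⟨e, he, f, hf, h⟩ := (H.mem_T0 _).1 hss
  have hsT : s * s ∈ T := T0_le H hss
  -- `s` commutes with `s²`
  have h1 : s * s * f * (s * s)⁻¹ * (s * e * s⁻¹) = e * (s * f * s⁻¹) := by
    have h2 := H.comm _ (H.D_norm _ hsT f hf) e he
    rw [h2]
    calc s * e * s⁻¹ * (s * s * f * (s * s)⁻¹) = s * (e * (s * f * s⁻¹)) * s⁻¹ := by group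
      _ = s * (s * s) * s⁻¹ := by rw [← h]
      _ = s * s := by group
      _ = e * (s * f * s⁻¹) := h
  obtain ⟨h2, h3⟩ := uniq H (H.D_norm _ hsT f hf) he he hf h1
  refine ⟨e⁻¹, ?_, ?_⟩
  · rw [H.mem_T0]
    exact ⟨e⁻¹, D.inv_mem he, 1, D.one_mem, by group⟩
  · rw [← h3] at h
    have h4 := H.comm e he e he
    calc s * e⁻¹ * (s * e⁻¹) = (s * e * s⁻¹)⁻¹ * (s * s) * e⁻¹ := by group
      _ = (s * e * s⁻¹)⁻¹ * (e * (s * e * s⁻¹)) * e⁻¹ := by rw [h]
      _ = (s * e * s⁻¹)⁻¹ * (s * e * s⁻¹ * e) * e⁻¹ := by rw [h4]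
      _ = 1 := by group

/-- some element of `T - T0` commutes with the involution `s` -/
theorem exists_comm (H : Dbl x z S T T0 D d r c s) (hss : s * s = 1) {a0 : G} (ha : a0 ∈ T)
    (ha0 : a0 ∉ T0) : ∃ a ∈ T, a ∉ T0 ∧ a * s = s * a := by
  have hsi : s⁻¹ = s := inv_eq_of_mul_eq_one_right hss
  have h1 : s * a0 * s⁻¹ ∈ T := T_norm H H.s_mem ha
  have h2 : s * a0 * s⁻¹ ∉ T0 := by
    intro h3
    apply ha0
    have h4 := T0_norm H (S.inv_mem H.s_mem) h3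
    have e1 : s⁻¹ * (s * a0 * s⁻¹) * (s⁻¹)⁻¹ = a0 := by group
    rwa [e1] at h4
  have h3 : a0⁻¹ ∉ T0 := fun h => ha0 (by simpa using T0.inv_mem h)
  have h4 := odd_mul H (T.inv_mem ha) h1 h3 h2
  obtain ⟨e, he, f, hf, h5⟩ := (H.mem_T0 _).1 h4
  -- `s a0 s = a0 e (s f s)`
  have h6 : s * a0 * s⁻¹ = a0 * e * (s * f * s⁻¹) := by
    calc s * a0 * s⁻¹ = a0 * (a0⁻¹ * (s * a0 * s⁻¹)) := by group
      _ = a0 * e * (s * f * s⁻¹) := by rw [h5]; group
  have h7 : e * f * (s * (f * e) * s⁻¹) = 1 * (s * 1 * s⁻¹) := by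
    have h8 : a0 = a0 * e * (s * f * s⁻¹) * ((s * e * s⁻¹) * f) := by
      calc a0 = s * (s * a0 * s⁻¹) * s⁻¹ := by
            have : s * (s * a0 * s⁻¹) * s⁻¹ = (s * s) * a0 * (s * s)⁻¹ := by group
            rw [this, hss]; group
        _ = s * (a0 * e * (s * f * s⁻¹)) * s⁻¹ := by rw [h6]
        _ = (s * a0 * s⁻¹) * (s * e * s⁻¹) * ((s * s) * f * (s * s)⁻¹) := by group
        _ = (s * a0 * s⁻¹) * ((s * e * s⁻¹) * f) := by rw [hss]; group
        _ = a0 * e * (s * f * s⁻¹) * ((s * e * s⁻¹) * f) := by rw [h6]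
    have h9 : e * (s * f * s⁻¹) * ((s * e * s⁻¹) * f) = 1 := by
      calc e * (s * f * s⁻¹) * ((s * e * s⁻¹) * f) =
            a0⁻¹ * (a0 * e * (s * f * s⁻¹) * ((s * e * s⁻¹) * f)) := by group
        _ = a0⁻¹ * a0 := by rw [← h8]
        _ = 1 := inv_mul_cancel a0
    have h10 := H.comm f hf e he
    rw [← h10, mul_T0 H hf hf] at h9
    rw [h9]; group
  obtain ⟨h8, -⟩ := uniq H (D.mul_mem he hf) D.one_mem (D.mul_mem hf he) D.one_mem h7
  have h9 : f = e⁻¹ := (inv_eq_of_mul_eq_one_right h8).symm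
  refine ⟨a0 * e, T.mul_mem ha (H.D_le he), ?_, ?_⟩
  · intro h10
    apply ha0
    have h11 : e ∈ T0 := (H.mem_T0 _).2 ⟨e, he, 1, D.one_mem, by group⟩
    have := T0.mul_mem h10 (T0.inv_mem h11)
    rwa [mul_inv_cancel_right] at this
  · rw [h9] at h6
    calc a0 * e * s = (a0 * e * (s * e⁻¹ * s⁻¹)) * s * e := by group
      _ = s * (a0 * e) := by rw [← h6]; group

/-- powers in `D` -/
theorem pow_D (H : Dbl x z S T T0 D d r c s) {e : G} (he : e ∈ D) :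
    e ^ 2 ^ (d - 2) = 1 ∨ (e ^ 2 ^ (d - 2) = z ∧ ∃ j : ℤ, Odd j ∧ e = r ^ j) := by
  have hd := H.d_ge
  obtain ⟨j, h | h⟩ := H.D_form e he
  · rcases Int.even_or_odd j with hj | hj
    · left
      obtain ⟨i, hi⟩ := hj
      rw [h, ← zpow_natCast, ← zpow_mul, rk_one H]
      refine ⟨i, ?_⟩
      have : d - 1 = (d - 2) + 1 := by omega
      rw [hi, this, pow_succ]; push_cast; ring
    · right
      refine ⟨?_, j, hj, h⟩
      obtain ⟨i, hi⟩ := hj
      rw [h, H.z_eq, ← zpow_natCast, ← zpow_natCast, ← zpow_mul]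
      have e1 : j * ((2 ^ (d - 2) : ℕ) : ℤ) = (2 : ℤ) ^ (d - 1) * i + ((2 ^ (d - 2) : ℕ) : ℤ) := by
        have : d - 1 = (d - 2) + 1 := by omega
        rw [hi, this, pow_succ]; push_cast; ring
      rw [e1, zpow_add, (rk_one H _).2 (Dvd.intro _ rfl), one_mul]
  · left
    have h1 : e ^ 2 = 1 := by rw [pow_two, h, refl_sq H]
    have h2 : 2 ^ (d - 2) = 2 * 2 ^ (d - 3) := by
      have : d - 2 = (d - 3) + 1 := by omega
      rw [this, pow_succ, mul_comm]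
    rw [h2, pow_mul, h1, one_pow]

/-- an element of `D` of order at most two commuting with `r ^ j`, `j` odd -/
theorem cent_D (H : Dbl x z S T T0 D d r c s) {e : G} (he : e ∈ D) (hee : e * e = 1) {j : ℤ}
    (hj : Odd j) (h : e * r ^ j = r ^ j * e) : e = 1 ∨ e = z := by
  have hd := H.d_ge
  obtain ⟨l, h1 | h1⟩ := H.D_form e he
  · rw [h1, ← zpow_add, rk_one H] at hee
    obtain ⟨i, hi⟩ := hee
    have h2 : d - 1 = (d - 2) + 1 := by omega
    have h3 : l = (2 : ℤ) ^ (d - 2) * i := by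
      rw [h2, pow_succ] at hi; linarith
    have h4 : e = z ^ i := by
      rw [h1, H.z_eq, h3, zpow_mul]
      congr 1
      have e : ((2 : ℤ) ^ (d - 2)) = ((2 ^ (d - 2) : ℕ) : ℤ) := by push_cast; rfl
      rw [e, zpow_natCast]
    rcases Int.even_or_odd' i with ⟨m, hm | hm⟩
    · left
      rw [h4, hm, zpow_mul, zpow_two, z_sq H, one_zpow]
    · right
      rw [h4, hm, zpow_add, zpow_mul, zpow_two, z_sq H, one_zpow, one_mul, zpow_one]
  · exfalso
    rw [h1] at h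
    have h2 : r ^ (2 * j) = 1 := by
      have h3 : r ^ l * c * r ^ j = r ^ (l - j) * c := by
        rw [mul_assoc, c_rk H, ← mul_assoc, ← zpow_add, sub_eq_add_neg]
      rw [h3, ← mul_assoc, ← zpow_add] at h
      have h4 := mul_right_cancel h
      have e1 : (2 : ℤ) * j = (j + l) - (l - j) := by ring
      rw [e1, zpow_sub, ← h4, mul_inv_cancel]
    have h3 := four_dvd H h2
    obtain ⟨i, hi⟩ := hj
    omega

/-- **Thompson transfer**: if `T - T0` has no involution, then the involution `s` is conjugate to `x` in `C(xz)` -/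
theorem exists_conj [Finite G] (S : Sylow 2 G) (H : Dbl x z S T T0 D d r c s)
    (hf : ∀ f : G →* ℤˣ, ∀ g, f g = 1) (hc0 : ∀ g, g * x * g⁻¹ ≠ x * z) {a0 : G} (ha : a0 ∈ T)
    (ha0 : a0 ∉ T0) (hss : s * s = 1) (hno : ∀ t ∈ T, t ∉ T0 → t * t ≠ 1) :
    ∃ h : G, x * z * h = h * (x * z) ∧ s = h * x * h⁻¹ := by
  obtain ⟨a, haT, haT0, has⟩ := exists_comm H hss ha ha0
  obtain ⟨k, hk, hak⟩ := odd_of_not H haT haT0
  have hsi : s⁻¹ = s := inv_eq_of_mul_eq_one_right hss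
  have hssT0 : s * s ∈ T0 := by rw [hss]; exact T0.one_mem
  have hai : a * s⁻¹ = s⁻¹ * a := by rw [hsi]; exact has
  -- the element `γ`
  set γ := c * (s * c * s⁻¹) with hγ
  have hγs : γ * s = s * γ := by
    have h1 := H.comm c H.c_mem c H.c_mem
    have h2 : s * γ * s⁻¹ = γ := by
      calc s * γ * s⁻¹ = (s * c * s⁻¹) * ((s * s) * c * (s * s)⁻¹) := by rw [hγ]; group
        _ = (s * c * s⁻¹) * c := by rw [hss]; group
        _ = γ := by rw [hγ, h1]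
    calc γ * s = s * γ * s⁻¹ * s := by rw [h2]
      _ = s * γ := by group
  have hγT : γ ∈ T0 := (H.mem_T0 _).2 ⟨c, H.c_mem, c, H.c_mem, rfl⟩
  have hγS : γ ∈ (S : Subgroup G) := H.T_le (T0_le H hγT)
  have haS : a ∈ (S : Subgroup G) := H.T_le haT
  -- the commutator
  have hrk : r ^ k ∈ D := D.zpow_mem H.r_mem k
  have hcom : a * γ * a⁻¹ * γ⁻¹ = r ^ k * (s * r ^ k * s⁻¹) := by
    have h1 : a * (s * c * s⁻¹) * a⁻¹ = s * (r ^ k * c) * s⁻¹ := by
      calc a * (s * c * s⁻¹) * a⁻¹ = (a * s) * c * (a * s)⁻¹ := by group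
        _ = s * a * c * (s * a)⁻¹ := by rw [has]
        _ = s * (a * c * a⁻¹) * s⁻¹ := by group
        _ = s * (r ^ k * c) * s⁻¹ := by rw [hak]
    have h2 := H.comm c H.c_mem _ hrk
    calc a * γ * a⁻¹ * γ⁻¹ = (a * c * a⁻¹) * (a * (s * c * s⁻¹) * a⁻¹) * (s * c⁻¹ * s⁻¹) * c⁻¹ := by
          rw [hγ]; group
      _ = (r ^ k * c) * (s * (r ^ k * c) * s⁻¹) * (s * c⁻¹ * s⁻¹) * c⁻¹ := by rw [hak, h1]
      _ = r ^ k * (c * (s * r ^ k * s⁻¹)) * c⁻¹ := by group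
      _ = r ^ k * (s * r ^ k * s⁻¹) := by rw [h2]; group
  -- the `2^(d-2)`-th power
  have hz : ∀ {e f : G}, e ∈ D → f ∈ D → ∀ n : ℕ, (e * (s * f * s⁻¹)) ^ n =
      e ^ n * (s * f ^ n * s⁻¹) := by
    intro e f he hf n
    have h1 : Commute e (s * f * s⁻¹) := H.comm e he f hf
    rw [h1.mul_pow, conj_pow]
  have hpow : (a * γ * a⁻¹ * γ⁻¹) ^ 2 ^ (d - 2) = z * x := by
    rw [hcom, hz hrk hrk]
    rcases pow_D H hrk with h | ⟨h, -⟩
    · exfalso
      rw [← zpow_natCast, ← zpow_mul, rk_one H] at h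
      obtain ⟨i, hi⟩ := h
      have hd := H.d_ge
      have h2 : d - 1 = (d - 2) + 1 := by omega
      rw [h2, pow_succ] at hi
      push_cast at hi
      have h9 : (2 : ℤ) ^ (d - 2) ≠ 0 := by positivity
      have h3 : k = 2 * i := by
        apply mul_right_cancel₀ h9
        linarith
      rw [h3] at hk
      exact (Int.not_even_iff_odd.2 hk) (even_two_mul i)
    · rw [h, H.sz]
  -- transfer
  have hclos : ∀ r' ∈ Subgroup.closure ({a, γ} : Set G), r' * s = s * r' := by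
    intro r' hr'
    have h1 : Subgroup.closure ({a, γ} : Set G) ≤ Subgroup.centralizer ({s} : Set G) := by
      rw [Subgroup.closure_le]
      rintro y (rfl | rfl)
      · rw [SetLike.mem_coe, Subgroup.mem_centralizer_singleton_iff]; exact has
      · rw [SetLike.mem_coe, Subgroup.mem_centralizer_singleton_iff]; exact hγs
    exact Subgroup.mem_centralizer_singleton_iff.1 (h1 hr')
  have hle : Subgroup.closure ({a, γ} : Set G) ≤ S := by
    rw [Subgroup.closure_le]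
    rintro y (rfl | rfl)
    · exact haS
    · exact hγS
  obtain ⟨g, hgT, hgS⟩ := SylowSp4.ExtTransfer.exists_extremal S T H.T_le (index H) s hss
    (fun f => hf f s) (Subgroup.closure ({a, γ} : Set G)) (S.2.to_le hle) hclos
  have hga := hgS a (Subgroup.subset_closure (by simp))
  have hgγ := hgS γ (Subgroup.subset_closure (by simp))
  -- `y' = g [a,γ] g⁻¹ ∈ T0`
  have hy := comm_mem H hssT0 hga hgγ
  have ey : g * a * g⁻¹ * (g * γ * g⁻¹) * (g * a * g⁻¹)⁻¹ * (g * γ * g⁻¹)⁻¹ =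
      g * (a * γ * a⁻¹ * γ⁻¹) * g⁻¹ := by group
  rw [ey] at hy
  obtain ⟨e, he, f, hf', hef⟩ := (H.mem_T0 _).1 hy
  have hpow' : e ^ 2 ^ (d - 2) * (s * f ^ 2 ^ (d - 2) * s⁻¹) = g * (z * x) * g⁻¹ := by
    rw [← hz he hf', ← hef, conj_pow, hpow]
  have hxz : x * z = z * x := T_x H (H.D_le (z_mem H))
  have hnz : g * (z * x) * g⁻¹ ≠ z := by
    intro h
    apply hc0 (g⁻¹ * s⁻¹)
    have h1 : s⁻¹ * x * s = z := by rw [← H.sz]; group
    calc g⁻¹ * s⁻¹ * x * (g⁻¹ * s⁻¹)⁻¹ = g⁻¹ * (s⁻¹ * x * s) * g := by group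
      _ = g⁻¹ * z * g := by rw [h1]
      _ = g⁻¹ * (g * (z * x) * g⁻¹) * g := by rw [h]
      _ = z * x := by group
      _ = x * z := hxz.symm
  have hnx : g * (z * x) * g⁻¹ ≠ x := by
    intro h
    apply hc0 g⁻¹
    calc g⁻¹ * x * g⁻¹⁻¹ = g⁻¹ * (g * (z * x) * g⁻¹) * g := by rw [h]; group
      _ = z * x := by group
      _ = x * z := hxz.symm
  have hn1 : g * (z * x) * g⁻¹ ≠ 1 := by
    intro h
    have h1 : z * x = 1 := by
      have : z * x = g⁻¹ * (g * (z * x) * g⁻¹) * g := by group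
      rw [this, h]; group
    have h2 : z * (s * z * s⁻¹) = 1 * (s * 1 * s⁻¹) := by rw [H.sz, h1]; group
    exact z_ne H (uniq H (z_mem H) D.one_mem (z_mem H) D.one_mem h2).1
  have hmain : g * (z * x) * g⁻¹ = z * x ∧ (∃ j : ℤ, Odd j ∧ e = r ^ j) ∧
      (∃ j : ℤ, Odd j ∧ f = r ^ j) := by
    rcases pow_D H he with h1 | ⟨h1, h1'⟩
    · rcases pow_D H hf' with h2 | ⟨h2, h2'⟩
      · exfalso
        apply hn1
        rw [← hpow', h1, h2]; group
      · exfalso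
        apply hnx
        rw [← hpow', h1, h2, H.sz, one_mul]
    · rcases pow_D H hf' with h2 | ⟨h2, h2'⟩
      · exfalso
        apply hnz
        rw [← hpow', h1, h2]; group
      · refine ⟨?_, h1', h2'⟩
        rw [← hpow', h1, h2, H.sz]
  obtain ⟨hgc, ⟨j1, hj1, hej⟩, ⟨j2, hj2, hfj⟩⟩ := hmain
  -- the involution `m = g s g⁻¹`
  set m := g * s * g⁻¹ with hm
  have hmm : m * m = 1 := by
    calc m * m = g * (s * s) * g⁻¹ := by rw [hm]; group
      _ = 1 := by rw [hss]; group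
  have hmT0 : m ∈ T0 := by
    by_contra h
    exact hno m hgT h hmm
  obtain ⟨e', he', f', hf'', hm'⟩ := (H.mem_T0 _).1 hmT0
  have hmy : m * (g * (a * γ * a⁻¹ * γ⁻¹) * g⁻¹) = g * (a * γ * a⁻¹ * γ⁻¹) * g⁻¹ * m := by
    have h1 : s * (a * γ * a⁻¹ * γ⁻¹) = a * γ * a⁻¹ * γ⁻¹ * s := by
      have h2 := hclos (a * γ * a⁻¹ * γ⁻¹) (by
        have ha' : a ∈ Subgroup.closure ({a, γ} : Set G) := Subgroup.subset_closure (by simp)
        have hg' : γ ∈ Subgroup.closure ({a, γ} : Set G) := Subgroup.subset_closure (by simp)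
        exact Subgroup.mul_mem _ (Subgroup.mul_mem _ (Subgroup.mul_mem _ ha' hg')
          (Subgroup.inv_mem _ ha')) (Subgroup.inv_mem _ hg'))
      exact h2.symm
    calc m * (g * (a * γ * a⁻¹ * γ⁻¹) * g⁻¹) = g * (s * (a * γ * a⁻¹ * γ⁻¹)) * g⁻¹ := by
          rw [hm]; group
      _ = g * (a * γ * a⁻¹ * γ⁻¹ * s) * g⁻¹ := by rw [h1]
      _ = g * (a * γ * a⁻¹ * γ⁻¹) * g⁻¹ * m := by rw [hm]; group
  rw [hef, hm', mul_T0 H he hf'', mul_T0 H he' hf'] at hmy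
  obtain ⟨hc1, hc2⟩ := uniq H (D.mul_mem he' he) (D.mul_mem he he') (D.mul_mem hf'' hf')
    (D.mul_mem hf' hf'') hmy
  have hmm' : e' * e' * (s * (f' * f') * s⁻¹) = 1 * (s * 1 * s⁻¹) := by
    rw [← mul_T0 H he' hf'', ← hm', hmm]; group
  obtain ⟨hs1, hs2⟩ := uniq H (D.mul_mem he' he') D.one_mem (D.mul_mem hf'' hf'') D.one_mem hmm'
  rw [hej] at hc1
  rw [hfj] at hc2
  have hsc : s * (x * z) = x * z * s := by
    calc s * (x * z) = (s * x * s⁻¹) * (s * z * s⁻¹) * s := by group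
      _ = x * z * s := by rw [H.sx, H.sz, hxz]
  have hgc' : x * z * g⁻¹ = g⁻¹ * (x * z) := by
    rw [hxz]
    calc z * x * g⁻¹ = g⁻¹ * (g * (z * x) * g⁻¹) := by group
      _ = g⁻¹ * (z * x) := by rw [hgc]
  have hsm : s = g⁻¹ * m * g := by rw [hm]; group
  have hzx : z = s⁻¹ * x * s := by rw [← H.sz]; group
  rcases cent_D H he' hs1 hj1 hc1 with h1 | h1 <;> rcases cent_D H hf'' hs2 hj2 hc2 with h2 | h2
  · exfalso
    apply H.s_not
    rw [hsm, hm', h1, h2]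
    have : g⁻¹ * (1 * (s * 1 * s⁻¹)) * g = 1 := by group
    rw [this]; exact T.one_mem
  · refine ⟨g⁻¹, hgc', ?_⟩
    rw [h1, h2, H.sz, one_mul] at hm'
    rw [hm'] at hsm
    rw [inv_inv]
    exact hsm
  · refine ⟨g⁻¹ * s⁻¹, ?_, ?_⟩
    · rw [hsi]
      calc x * z * (g⁻¹ * s) = x * z * g⁻¹ * s := by group
        _ = g⁻¹ * (x * z * s) := by rw [hgc']; group
        _ = g⁻¹ * (s * (x * z)) := by rw [hsc]
        _ = g⁻¹ * s * (x * z) := by group
    · have h3 : m = z := by rw [hm', h1, h2]; group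
      rw [h3, hzx] at hsm
      rw [mul_inv_rev, inv_inv, inv_inv]
      calc s = g⁻¹ * (s⁻¹ * x * s) * g := hsm
        _ = g⁻¹ * s⁻¹ * x * (s * g) := by group
  · exfalso
    apply H.s_not
    have h3 : m = z * x := by rw [hm', h1, h2, H.sz]
    rw [h3] at hsm
    have h4 : s = z * x := by
      calc s = g⁻¹ * (z * x) * g := hsm
        _ = g⁻¹ * (g * (z * x) * g⁻¹) * g := by rw [hgc]
        _ = z * x := by group
    rw [h4]
    exact T.mul_mem (H.D_le (z_mem H)) (x_mem H)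

/-- an element of odd order in a 2-group is trivial -/
theorem eq_one_of_odd [Finite G] {S N : Subgroup G} (hS : IsPGroup 2 S) (hN : Odd (Nat.card N))
    {g : G} (hg : g ∈ S) (hg' : g ∈ N) : g = 1 := by
  obtain ⟨k, hk⟩ := hS ⟨g, hg⟩
  have h1 : g ^ 2 ^ k = 1 := congrArg Subtype.val hk
  have h2 : orderOf g ∣ 2 ^ k := orderOf_dvd_of_pow_eq_one h1
  have h3 : orderOf g ∣ Nat.card N := by
    rw [← Subgroup.orderOf_mk g hg']; exact orderOf_dvd_natCard _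
  have h4 : Nat.Coprime (2 ^ k) (Nat.card N) := Nat.Coprime.pow_left _ (Nat.coprime_two_left.2 hN)
  exact orderOf_eq_one_iff.1 (Nat.dvd_one.1 (h4 ▸ Nat.dvd_gcd h2 h3))

/-- an involution of `S - T` which is `C(xz)`-conjugate to `x` lies in `R` -/
theorem mem_core [Finite G] (H : Dbl x z S T T0 D d r c s) {N R : Subgroup G}
    (hR : CoreH S N R x (x * z)) {h : G} (hh : x * z * h = h * (x * z)) (hs : s = h * x * h⁻¹) :
    s ∈ R ∧ ∀ w ∈ R, w * s * w⁻¹ * s⁻¹ = 1 ∨ w * s * w⁻¹ * s⁻¹ = x * z := by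
  obtain ⟨y, hy, hyN, hyR⟩ := hR.conj h hh
  rw [← hs] at hyN
  have h1 := eq_one_of_odd H.S_two hR.N_odd (S.mul_mem (S.inv_mem (hR.R_le hy)) H.s_mem) hyN
  have h2 : y = s := by
    rw [inv_mul_eq_one] at h1; exact h1
  rw [h2] at hy hyR
  exact ⟨hy, hyR⟩

/-- **(8a)** -/
theorem main [Finite G] (S : Sylow 2 G) (H : Dbl x z S T T0 D d r c s)
    (hf : ∀ f : G →* ℤˣ, ∀ g, f g = 1) (hc0 : ∀ g, g * x * g⁻¹ ≠ x * z)
    (ha : ∃ a ∈ T, a ∉ T0) {N R : Subgroup G} (hR : CoreH S N R x (x * z)) (hss : s * s ∈ T0) :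
    ∃ s' ∈ S, s' ∉ T ∧ s' * s' = 1 ∧ ∃ a ∈ T, a ∉ T0 ∧ a * a = 1 ∧ a * s' = s' * a := by
  obtain ⟨a0, ha0, ha0'⟩ := ha
  obtain ⟨t1, ht1, hs1⟩ := exists_inv H hss
  have H1 := change H (T0_le H ht1)
  by_cases hno : ∀ t ∈ T, t ∉ T0 → t * t ≠ 1
  · exfalso
    -- a second involution
    have H2 := change H1 ha0
    have hss2 : s * t1 * a0 * (s * t1 * a0) ∈ T0 :=
      sq_mem H hss H2.s_mem
    obtain ⟨t2, ht2, hs2⟩ := exists_inv H2 hss2
    have H3 := change H2 (T0_le H2 ht2)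
    obtain ⟨h, hh, hsh⟩ := exists_conj S H1 hf hc0 ha0 ha0' hs1 hno
    obtain ⟨h', hh', hsh'⟩ := exists_conj S H3 hf hc0 ha0 ha0' hs2 hno
    obtain ⟨hm1, hm1'⟩ := mem_core H1 hR hh hsh
    obtain ⟨hm2, -⟩ := mem_core H3 hR hh' hsh'
    set s1 := s * t1 with hs1'
    -- `b = s1 s2 ∈ T - T0`
    have hb : s1 * (s1 * a0 * t2) = a0 * t2 := by
      calc s1 * (s1 * a0 * t2) = s1 * s1 * (a0 * t2) := by group
        _ = a0 * t2 := by rw [hs1, one_mul]
    have hbR : a0 * t2 ∈ R := by rw [← hb]; exact R.mul_mem hm1 hm2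
    have hbT : a0 * t2 ∈ T := T.mul_mem ha0 (T0_le H ht2)
    have hbT0 : a0 * t2 ∉ T0 := fun h2 => ha0' (by
      have := T0.mul_mem h2 (T0.inv_mem ht2)
      rwa [mul_inv_cancel_right] at this)
    obtain ⟨k, hk, hbk⟩ := odd_of_not H hbT hbT0
    set b := a0 * t2 with hb'
    have hcS : c ∈ (S : Subgroup G) := H.T_le (H.D_le H.c_mem)
    have hw : r ^ (-k) ∈ R := by
      have h1 := R.mul_mem (hR.R_norm c hcS b hbR) (R.inv_mem hbR)
      have e1 : c * b * c⁻¹ * b⁻¹ = r ^ (-k) := by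
        calc c * b * c⁻¹ * b⁻¹ = c * (b * c * b⁻¹)⁻¹ := by group
          _ = c * (r ^ k * c)⁻¹ := by rw [hbk]
          _ = c * (r ^ k * c) := by rw [inv_eq_of_mul_eq_one_right (refl_sq H k)]
          _ = (c * r ^ k) * c := by group
          _ = r ^ (-k) := by rw [c_rk H, mul_assoc, H.cc, mul_one]
      rwa [e1] at h1
    have hrk : r ^ (-k) ∈ D := D.zpow_mem H.r_mem _
    have hrk' : r ^ k ∈ D := D.zpow_mem H.r_mem _
    have ecom : r ^ (-k) * s1 * (r ^ (-k))⁻¹ * s1⁻¹ = r ^ (-k) * (s1 * r ^ k * s1⁻¹) := by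
      rw [zpow_neg, inv_inv]; group
    rcases hm1' _ hw with h2 | h2
    · rw [ecom] at h2
      have h3 : r ^ (-k) * (s1 * r ^ k * s1⁻¹) = 1 * (s1 * 1 * s1⁻¹) := by rw [h2]; group
      have h4 := (uniq H1 hrk D.one_mem hrk' D.one_mem h3).1
      have h5 := four_dvd H h4
      obtain ⟨i, hi⟩ := hk
      omega
    · rw [ecom, T_x H (H.D_le (z_mem H)), ← H1.sz] at h2
      have h4 := (uniq H1 hrk (z_mem H) hrk' (z_mem H) h2).1
      have h6 : r ^ (-k * 2) = 1 := by rw [zpow_mul, h4, zpow_two, z_sq H]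
      have h5 := four_dvd H h6
      obtain ⟨i, hi⟩ := hk
      omega
  · push Not at hno
    obtain ⟨t, htT, htT0, htt⟩ := hno
    obtain ⟨a, haT, haT0, has⟩ := exists_comm H1 hs1 ha0 ha0'
    set s1 := s * t1 with hs1'
    refine ⟨s1, H1.s_mem, H1.s_not, hs1, ?_⟩
    have hai : a⁻¹ ∉ T0 := fun h => haT0 (by simpa using T0.inv_mem h)
    obtain ⟨e, he, f, hf', hef⟩ := (H1.mem_T0 _).1 (odd_mul H (T.inv_mem haT) htT hai htT0)
    -- `x' = a e (s1 e s1⁻¹)`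
    have hδ : e * (s1 * e * s1⁻¹) ∈ T0 := (H1.mem_T0 _).2 ⟨e, he, e, he, rfl⟩
    have hδs : e * (s1 * e * s1⁻¹) * s1 = s1 * (e * (s1 * e * s1⁻¹)) := by
      have h1 := H1.comm e he e he
      calc e * (s1 * e * s1⁻¹) * s1 = (s1 * e * s1⁻¹) * e * s1 := by rw [h1]
        _ = s1 * e * (s1 * s1)⁻¹ * (s1 * e * s1) := by group
        _ = s1 * e * (s1 * e * s1) := by rw [hs1]; group
        _ = s1 * e * (s1 * e * s1⁻¹) * (s1 * s1) := by group
        _ = s1 * (e * (s1 * e * s1⁻¹)) := by rw [hs1]; group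
    set w := a * (e * (s1 * e * s1⁻¹)) with hw
    have hws : w * s1 = s1 * w := by
      rw [hw, mul_assoc, hδs, ← mul_assoc, has, mul_assoc]
    have hwT : w ∈ T := T.mul_mem haT (T0_le H hδ)
    have hwT0 : w ∉ T0 := fun h => haT0 (by
      have := T0.mul_mem h (T0.inv_mem hδ)
      rwa [hw, mul_inv_cancel_right] at this)
    have ht : t = w * (s1 * (e⁻¹ * f) * s1⁻¹) := by
      calc t = a * (a⁻¹ * t) := by group
        _ = w * (s1 * (e⁻¹ * f) * s1⁻¹) := by rw [hef, hw]; group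
    -- `w² ∈ D2`
    have hfD : e⁻¹ * f ∈ D := D.mul_mem (D.inv_mem he) hf'
    have hw1 : w⁻¹ * (s1 * (e⁻¹ * f) * s1⁻¹) * w = s1 * (w⁻¹ * (e⁻¹ * f) * w) * s1⁻¹ := by
      have h1 : w⁻¹ * s1 = s1 * w⁻¹ := by
        calc w⁻¹ * s1 = w⁻¹ * (s1 * w) * w⁻¹ := by group
          _ = w⁻¹ * (w * s1) * w⁻¹ := by rw [hws]
          _ = s1 * w⁻¹ := by group
      have h2 : s1⁻¹ * w = w * s1⁻¹ := by
        calc s1⁻¹ * w = s1⁻¹ * (w * s1) * s1⁻¹ := by group
          _ = s1⁻¹ * (s1 * w) * s1⁻¹ := by rw [hws]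
          _ = w * s1⁻¹ := by group
      calc w⁻¹ * (s1 * (e⁻¹ * f) * s1⁻¹) * w = (w⁻¹ * s1) * (e⁻¹ * f) * (s1⁻¹ * w) := by group
        _ = s1 * (w⁻¹ * (e⁻¹ * f) * w) * s1⁻¹ := by rw [h1, h2]; group
    have hwD : w⁻¹ * (e⁻¹ * f) * w ∈ D := by
      have := H.D_norm w⁻¹ (T.inv_mem hwT) _ hfD
      rwa [inv_inv] at this
    have hw2 : w * w = s1 * ((w⁻¹ * (e⁻¹ * f) * w) * (e⁻¹ * f))⁻¹ * s1⁻¹ := by
      have h1 : w * w * ((w⁻¹ * (s1 * (e⁻¹ * f) * s1⁻¹) * w) * (s1 * (e⁻¹ * f) * s1⁻¹)) = 1 := by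
        calc w * w * ((w⁻¹ * (s1 * (e⁻¹ * f) * s1⁻¹) * w) * (s1 * (e⁻¹ * f) * s1⁻¹)) =
              (w * (s1 * (e⁻¹ * f) * s1⁻¹)) * (w * (s1 * (e⁻¹ * f) * s1⁻¹)) := by
              have e1 : ∀ u v : G, u * u * ((u⁻¹ * v * u) * v) = u * v * (u * v) := by
                intro u v; group
              exact e1 _ _
          _ = t * t := by rw [← ht]
          _ = 1 := htt
      rw [hw1] at h1
      have h2 := eq_inv_of_mul_eq_one_left h1
      rw [h2]; group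
    have hw3 : w * w = 1 := by
      have h1 : s1 * (w * w) * s1⁻¹ = w * w := by
        have : s1 * (w * w) = w * w * s1 := by
          calc s1 * (w * w) = (s1 * w) * w := by group
            _ = (w * s1) * w := by rw [hws]
            _ = w * (s1 * w) := by group
            _ = w * (w * s1) := by rw [hws]
            _ = w * w * s1 := by group
        rw [this]; group
      have h2 : s1 * (w * w) * s1⁻¹ = ((w⁻¹ * (e⁻¹ * f) * w) * (e⁻¹ * f))⁻¹ := by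
        rw [hw2]
        calc s1 * (s1 * ((w⁻¹ * (e⁻¹ * f) * w) * (e⁻¹ * f))⁻¹ * s1⁻¹) * s1⁻¹ =
            (s1 * s1) * ((w⁻¹ * (e⁻¹ * f) * w) * (e⁻¹ * f))⁻¹ * (s1 * s1)⁻¹ := by group
          _ = ((w⁻¹ * (e⁻¹ * f) * w) * (e⁻¹ * f))⁻¹ := by rw [hs1]; group
      have h3 : ((w⁻¹ * (e⁻¹ * f) * w) * (e⁻¹ * f))⁻¹ ∈ D := D.inv_mem (D.mul_mem hwD hfD)
      have h4 : ((w⁻¹ * (e⁻¹ * f) * w) * (e⁻¹ * f))⁻¹ =
          s1 * ((w⁻¹ * (e⁻¹ * f) * w) * (e⁻¹ * f))⁻¹ * s1⁻¹ := by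
        rw [← hw2, ← h2, h1]
      have h5 := H1.disj _ h3 _ h3 h4
      rw [hw2, h5]; group
    exact ⟨w, hwT, hwT0, hw3, hws⟩

/-- the form with `G` simple -/
theorem main_of_simple [Finite G] [IsSimpleGroup G] (hG : ∃ a b : G, a * b ≠ b * a) (S : Sylow 2 G)
    (H : Dbl x z S T T0 D d r c s) (hc0 : ∀ g, g * x * g⁻¹ ≠ x * z)
    (ha : ∃ a ∈ T, a ∉ T0) {N R : Subgroup G} (hR : CoreH S N R x (x * z)) (hss : s * s ∈ T0) :
    ∃ s' ∈ S, s' ∉ T ∧ s' * s' = 1 ∧ ∃ a ∈ T, a ∉ T0 ∧ a * a = 1 ∧ a * s' = s' * a := by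
  refine main S H ?_ hc0 ha hR hss
  intro f g
  rcases (MonoidHom.normal_ker f).eq_bot_or_eq_top with h | h
  · exfalso
    obtain ⟨a, b, hab⟩ := hG
    apply hab
    have h1 := (MonoidHom.ker_eq_bot_iff f).1 h
    apply h1
    rw [map_mul, map_mul, mul_comm]
  · have : g ∈ f.ker := by rw [h]; exact Subgroup.mem_top g
    exact this

end Cfsg.Agent.GH.L2One.SplitCase
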