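import Cfsg.Agent.GH.L2One.CaseOne
import Cfsg.Agent.GH.L2One.CaseTwoE
import Cfsg.Agent.GH.L2One.SplitCase
import Cfsg.Agent.GH.L2One.CyclicCase
import Cfsg.Agent.GH.L2One.CoreOf
import Cfsg.Agent.GH.L2One.Inst
import Cfsg.Agent.GH.L2.TypeSp4Of
import Cfsg.Agent.GH.L2NoComp

/-!
# GH-L2, `m_2(Q) = 1`, `|Q| ≥ 4`: the final theorem

`K` a 2-component of `C(x)`, `K/O(K)` with `AutData` (`L₂(q)`, `q` odd, or `A₇`), `T` Sylow in `C(x)`, `Q = T ⊓ fix K`
with the only involution `x`, `|Q| ≥ 4`: the Sylow 2-subgroups of `G` are of type `PSL₄(q)` or `PSp₄(q)`.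
-/

set_option autoImplicit false

open Cfsg Subgroup
open Cfsg.Agent.SignalizersComponents
open Cfsg.Agent.SignalizersComponents.IntrinsicBasic
open Cfsg.Agent.Intrinsic.Basic Cfsg.Agent.GH.Defs Cfsg.Agent.GH.Comp
open Cfsg.Agent.Walter.SylowIn Cfsg.Agent.GH.L2Frame Cfsg.Agent.GH.L2.TypeSp4Of

namespace Cfsg.Agent.GH.L2One.Main

variable {G : Type*} [Group G] [Finite G]

/-- `x` is not conjugate to `x z`. -/
theorem not_conj (h : Hyp G) (ho : AllOdd G) (S : Sylow 2 G) {x z : G} {T T0 D : Subgroup G} {d : ℕ}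
    {r c s : G} (E : Dbl x z (S : Subgroup G) T T0 D d r c s) {K : Subgroup G} (hK : Comp2 x K) (g : G) :
    g * x * g⁻¹ ≠ x * z := by
  intro hg
  have h1 : Comp2 (x * z) (cj g K) := hg ▸ L2FourOC.Comp2.cj hK g
  refine L2NoComp.not_comp2 h ho S ?_ ?_ h1
  · intro s hs
    exact (CoreOf.c0_comm E s hs).symm
  · intro w hw hw2 hc
    rcases CoreOf.center_S E w hw (fun s hs => (hc s hs).eq) with h2 | h2
    · exfalso
      rw [h2, orderOf_one] at hw2
      exact absurd hw2 (by norm_num)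
    · exact h2

/-- **CASE I** (`T < S`), step (8). -/
theorem type_of_dbl (h : Hyp G) (ho : AllOdd G) (S : Sylow 2 G) {x z : G} {T T0 D : Subgroup G} {d : ℕ}
    {r c s : G} (E : Dbl x z (S : Subgroup G) T T0 D d r c s) {K : Subgroup G} (hK : Comp2 x K)
    (χ : G → ℤˣ) (hχ : ∀ g h, x * g = g * x → x * h = h * x → χ (g * h) = χ g * χ h)
    (hχT : ∀ t ∈ T, (t ∈ T0 ↔ χ t = 1)) : TypeL4 S ∨ TypeSp4 S := by
  have hsim : IsSimpleGroup G := h.simple
  obtain ⟨N, R, hR⟩ := CoreOf.coreH E h ho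
  have hnc := not_conj h ho S E hK
  by_cases hss : s * s ∈ T0
  · by_cases hT : T ≤ T0
    · left
      obtain ⟨t, ht, ht2⟩ := SplitCase.exists_inv E hss
      exact typeL4_of_dbl (SplitCase.change E (SplitCase.T0_le E ht)) hT ht2
    · right
      have ha : ∃ a ∈ T, a ∉ T0 := by
        by_contra hcon
        push Not at hcon
        exact hT hcon
      obtain ⟨s', hs', hs'T, hs's, a, ha, ha0, haa, has⟩ :=
        SplitCase.main_of_simple h.exists_not_comm S E hnc ha hR hss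
      have h1 := SplitCase.change E (E.S_form s' hs' hs'T)
      rw [mul_inv_cancel_left] at h1
      exact typeSp4_of_dbl h1 hs's ha ha0 haa has
  · exact absurd hss (fun hss => CyclicCase.cyclicCase h.nonComm S E hnc hR χ hχ
      (fun t ht => (hχT t ht).symm) hss)

/-- From the frame. -/
theorem type_of_frame (h : Hyp G) (ho : AllOdd G) {A : Type*} [Group A] {x : G} {K T D Q : Subgroup G} {d : ℕ}
    {r c : G} {o1 : G → ℤˣ} {o2 : G → A} (hK : Comp2 x K) (F : Frame x K T D Q d r c o1 o2)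
    (S : Sylow 2 G) (hTS : T ≤ S) : TypeL4 S ∨ TypeSp4 S := by
  by_cases hne : T = S
  · exact absurd (caseTwo h.simple h.exists_not_comm F S hne.symm) id
  · obtain ⟨s, T0, E, hT0⟩ := CaseOne.dbl F S.isPGroup' hTS hne
    exact type_of_dbl h ho S E hK o1 F.o1_mul hT0

/-- **THE THEOREM** for `m_2(Q) = 1`, `|Q| ≥ 4`: every Sylow 2-subgroup of `G` is of type `PSL₄(q)` or `PSp₄(q)`. -/
theorem main (h : Hyp G) (ho : AllOdd G) {x : G} {K T : Subgroup G} (c : Comp2 x K)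
    (hL : IsL2odd (STop K) ∨ IsAlt 7 (STop K)) (hT : SylIn 2 T (centralizer ({x} : Set G)))
    (hQ1 : ∀ q ∈ T ⊓ fix K, q * q = 1 → q = 1 ∨ q = x) (h4 : 4 ≤ Nat.card ↥(T ⊓ fix K))
    (S : Sylow 2 G) : TypeL4 S ∨ TypeSp4 S := by
  obtain ⟨A, _, d, r, c', o1, o2, F⟩ := Inst.exists_frame h ho c hL hT hQ1 h4
  obtain ⟨P, hTP⟩ := hT.isPGroup.exists_le_sylow
  rcases type_of_frame h ho c F P hTP with h1 | h1
  · exact Or.inl (h1.congr (Sylow.equiv P S))
  · exact Or.inr (h1.congr (Sylow.equiv P S))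

/-- The form `LeafB` of `GH/L2Main`. -/
theorem exists_sType (h : Hyp G) (ho : AllOdd G) {x : G} {K T : Subgroup G} (c : Comp2 x K)
    (hL : IsL2odd (STop K) ∨ IsAlt 7 (STop K)) (hT : SylIn 2 T (centralizer ({x} : Set G)))
    (hQ1 : ∀ q ∈ T ⊓ fix K, q * q = 1 → q = 1 ∨ q = x) (h4 : 4 ≤ Nat.card ↥(T ⊓ fix K)) :
    ∃ S : Sylow 2 G, SType ↥(S : Subgroup G) := by
  obtain ⟨S⟩ : Nonempty (Sylow 2 G) := inferInstance
  refine ⟨S, ?_⟩
  rcases main h ho c hL hT hQ1 h4 S with h1 | h1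
  · unfold SType; tauto
  · unfold SType; tauto

/-- The form needed for the assembly. -/
theorem gType (h : Hyp G) (ho : AllOdd G) {x : G} {K T : Subgroup G} (c : Comp2 x K)
    (hL : IsL2odd (STop K) ∨ IsAlt 7 (STop K)) (hT : SylIn 2 T (centralizer ({x} : Set G)))
    (hQ1 : ∀ q ∈ T ⊓ fix K, q * q = 1 → q = 1 ∨ q = x) (h4 : 4 ≤ Nat.card ↥(T ⊓ fix K)) : GType G := by
  obtain ⟨S⟩ : Nonempty (Sylow 2 G) := inferInstance
  refine Or.inl ⟨S, ?_⟩
  rcases main h ho c hL hT hQ1 h4 S with h1 | h1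
  · unfold SType; tauto
  · unfold SType; tauto

end Cfsg.Agent.GH.L2One.Main
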