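import Cfsg.Agent.GH.L2One.AutData
import Cfsg.Agent.GH.L2FrameComp

/-!
# GH-L2: the frame of a 2-component from the data of its simple quotient

`AutData.frame`: `L2Frame.Frame (C x) K T` and `AutData (STop K)` give `L2One.Frame x K T (T ⊓ K) (T ⊓ fix K)`.
-/

set_option autoImplicit false

open Cfsg Subgroup
open Cfsg.Agent.SignalizersComponents
open Cfsg.Agent.Intrinsic.Basic Cfsg.Agent.GH.Defs Cfsg.Agent.GH.Comp
open Cfsg.Agent.Walter.SylowIn Cfsg.Agent.GH.L2Frame

namespace Cfsg.Agent.GH.L2One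

variable {G : Type*} [Group G]

open Classical in
/-- A homomorphism on `Aut(K/O(K))` as a function on `G`. -/
noncomputable def outFun {M : Type*} [Group M] (K : Subgroup G) (p : MulAut (STop K) →* M)
    (g : G) : M :=
  if h : g ∈ normalizer (K : Set G) then p (act K ⟨g, h⟩) else 1

theorem outFun_of_mem {M : Type*} [Group M] {K : Subgroup G} (p : MulAut (STop K) →* M) {g : G}
    (h : g ∈ normalizer (K : Set G)) : outFun K p g = p (act K ⟨g, h⟩) := dif_pos h

theorem outFun_mul {M : Type*} [Group M] {K : Subgroup G} (p : MulAut (STop K) →* M) {g h : G}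
    (hg : g ∈ normalizer (K : Set G)) (hh : h ∈ normalizer (K : Set G)) :
    outFun K p (g * h) = outFun K p g * outFun K p h := by
  rw [outFun_of_mem p hg, outFun_of_mem p hh, outFun_of_mem p (mul_mem hg hh), ← map_mul,
    ← map_mul]
  rfl

variable [Finite G]

/-- Two involutions which agree modulo the kernel of `K → STop K` are `K`-conjugate. -/
theorem exists_conj_of_ker {K : Subgroup G} (hodd : ¬ EvenCenter K) {u v : G} (hu : u * u = 1)
    (hv : v * v = 1) (hK : u * v ∈ K) (h : (⟨u * v, hK⟩ : K) ∈ (topMap K).ker) :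
    ∃ t ∈ K, t * v * t⁻¹ = u := by
  have h1 : Odd (orderOf (u * v)) := by
    have h2 : orderOf (⟨⟨u * v, hK⟩, h⟩ : (topMap K).ker) ∣ Nat.card (topMap K).ker :=
      orderOf_dvd_natCard _
    rw [Subgroup.orderOf_mk, Subgroup.orderOf_mk] at h2
    exact (odd_card_ker hodd).of_dvd_nat h2
  obtain ⟨t, ht, h2⟩ := exists_conj_of_odd hu hv h1
  exact ⟨t, (zpowers_le.2 hK) ht, h2⟩

/-- A Sylow 2-subgroup of `STop K` fixed by `y` lifts to a Sylow 2-subgroup of `K` fixed by `y`. -/
theorem exists_conj_comm {H K T : Subgroup G} (F : L2Frame.Frame H K T) {y : G} (hy : y ∈ T)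
    {S' : Subgroup (STop K)} (hS : Nat.card S' = Nat.card F.dTop.range)
    (hS2 : IsPGroup 2 S') (hfix : ∀ s ∈ S', F.rho ⟨y, hy⟩ s = s) :
    ∃ g ∈ K, ∀ e ∈ T ⊓ K, g * y * g⁻¹ * e = e * (g * y * g⁻¹) := by
  have : Fact (Nat.Prime 2) := ⟨Nat.prime_two⟩
  have hyN : y ∈ normalizer (K : Set G) := F.norm hy
  have hP2 : IsPGroup 2 (zpowers y) := F.two.to_le (zpowers_le.2 hy)
  have hPK : zpowers y ≤ normalizer (K : Set G) := zpowers_le.2 hyN
  -- `S'` is contained in the fixed points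
  have hSM : S' ≤ fixedTop K (zpowers y) := by
    intro s hs
    rw [mem_fixedTop]
    rintro ⟨p, hp⟩ hpy
    obtain ⟨k, hk⟩ := mem_zpowers_iff.1 hpy
    have h1 : (⟨p, hp⟩ : normalizer (K : Set G)) = ⟨y, hyN⟩ ^ k := Subtype.ext hk.symm
    rw [h1, map_zpow]
    have h2 : act K ⟨y, hyN⟩ ∈ MulAction.stabilizer (MulAut (STop K)) s := hfix s hs
    exact (zpow_mem h2 k : _)
  -- the map of the centralizer
  let C : Subgroup K := (centralizer (zpowers y : Set G)).subgroupOf K
  have hCM : ∀ k : C, topMap K k ∈ fixedTop K (zpowers y) := fun k =>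
    topMap_mem_fixedTop (mem_subgroupOf.1 k.2)
  let f : C →* fixedTop K (zpowers y) :=
    ((topMap K).comp C.subtype).codRestrict _ hCM
  have hf : Function.Surjective f := by
    rintro ⟨l, hl⟩
    obtain ⟨k, hk, hkl⟩ := exists_of_mem_fixedTop F.odd hP2 hPK hl
    exact ⟨⟨k, mem_subgroupOf.2 hk⟩, Subtype.ext hkl⟩
  let P₀ : Sylow 2 C := default
  let Q₀ : Sylow 2 (fixedTop K (zpowers y)) := P₀.mapSurjective hf
  have hQ : SylIn 2 ((Q₀ : Subgroup _).map (fixedTop K (zpowers y)).subtype)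
      (fixedTop K (zpowers y)) := ⟨Q₀, rfl⟩
  have h1 : Nat.card S' ≤ Nat.card P₀ := by
    have h2 := hQ.card_le hSM hS2
    rw [card_map_of_injective (subtype_injective _)] at h2
    refine h2.trans ?_
    rw [Sylow.coe_mapSurjective]
    exact Nat.card_le_card_of_surjective _ (MonoidHom.subgroupMap_surjective f P₀)
  let P : Subgroup G := ((P₀ : Subgroup C).map C.subtype).map K.subtype
  have hPK' : P ≤ K := map_subtype_le _
  have hPy : ∀ p ∈ P, p * y = y * p := by
    rintro _ ⟨_, ⟨p, -, rfl⟩, rfl⟩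
    exact ((mem_centralizer_iff.1 (mem_subgroupOf.1 p.2)) y (mem_zpowers y)).symm
  have hPc : Nat.card P = Nat.card P₀ := by
    rw [card_map_of_injective (subtype_injective _), card_map_of_injective (subtype_injective _)]
  have hP2' : IsPGroup 2 P := (P₀.2.map _).map _
  have hD : Nat.card ↥(T ⊓ K) = Nat.card F.dTop.range := by
    exact Nat.card_congr (Equiv.ofInjective _ F.dTop_injective)
  have hsyl : SylIn 2 P K := sylIn_of_card_le F.sylD hPK' hP2' (by rw [hPc, hD, ← hS]; exact h1)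
  obtain ⟨g, hg, h3⟩ := hsyl.exists_conj F.sylD
  refine ⟨g, hg, fun e he => ?_⟩
  rw [← h3] at he
  obtain ⟨p, hp, rfl⟩ := he
  have h4 := hPy p hp
  change g * y * g⁻¹ * (g * p * g⁻¹) = g * p * g⁻¹ * (g * y * g⁻¹)
  calc g * y * g⁻¹ * (g * p * g⁻¹) = g * (y * p) * g⁻¹ := by group
    _ = g * (p * y) * g⁻¹ := by rw [h4]
    _ = g * p * g⁻¹ * (g * y * g⁻¹) := by group

omit [Finite G] in
theorem mem_cent {x g : G} : g ∈ centralizer ({x} : Set G) ↔ x * g = g * x := by
  rw [mem_centralizer_iff]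
  exact ⟨fun h => h x rfl, fun h y hy => by rw [Set.mem_singleton_iff.1 hy]; exact h⟩

omit [Finite G] in
theorem outFun_rho {M : Type*} [Group M] {H K T : Subgroup G} (F : L2Frame.Frame H K T)
    (p : MulAut (STop K) →* M) {t : G} (ht : t ∈ T) : outFun K p t = p (F.rho ⟨t, ht⟩) :=
  outFun_of_mem p (F.norm ht)

/-- **The frame**. -/
theorem AutData.frame {A : Type*} [Group A] {x : G} {K T : Subgroup G} (hx : x * x = 1)
    (hx1 : x ≠ 1) (F : L2Frame.Frame (centralizer ({x} : Set G)) K T)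
    (hn : centralizer ({x} : Set G) ≤ normalizer (K : Set G)) {d : ℕ} {r c : STop K}
    {p1 : MulAut (STop K) →* ℤˣ} {p2 : MulAut (STop K) →* A}
    (E : AutData F.dTop.range d r c p1 p2)
    (hQ1 : ∀ q ∈ T ⊓ fix K, q * q = 1 → q = 1 ∨ q = x) (hQ4 : ∃ q ∈ T ⊓ fix K, q * q = x) :
    ∃ r' c' : ↥(T ⊓ K), F.dTop r' = r ∧ F.dTop c' = c ∧
      L2One.Frame x K T (T ⊓ K) (T ⊓ fix K) d (r' : G) (c' : G) (outFun K p1) (outFun K p2) := by
  have : Fact (Nat.Prime 2) := ⟨Nat.prime_two⟩
  obtain ⟨r', hr'⟩ := E.r_mem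
  obtain ⟨c', hc'⟩ := E.c_mem
  have hinj := F.dTop_injective
  have hN : ∀ {g : G}, x * g = g * x → g ∈ normalizer (K : Set G) := fun h => hn (mem_cent.2 h)
  have hTx : ∀ t ∈ T, x * t = t * x := fun t ht => mem_cent.1 (F.le ht)
  have hKx : ∀ k ∈ K, x * k = k * x := fun k hk => mem_cent.1 (F.comp.le hk)
  have hsyl : ∀ P : Subgroup G, IsPGroup 2 P → (∀ p ∈ P, x * p = p * x) →
      ∃ g, x * g = g * x ∧ ∀ p ∈ P, g * p * g⁻¹ ∈ T := by
    intro P hP hPx
    obtain ⟨g, hg, h1⟩ := F.syl.conj_le (fun p hp => mem_cent.2 (hPx p hp)) hP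
    exact ⟨g, mem_cent.1 hg, h1⟩
  have hxT : x ∈ T := by
    have h1 : IsPGroup 2 (zpowers x) := by
      rintro ⟨y, hy⟩
      obtain ⟨k, rfl⟩ := mem_zpowers_iff.1 hy
      refine ⟨1, Subtype.ext ?_⟩
      change (x ^ k) ^ 2 ^ 1 = 1
      rw [pow_one, ← zpow_natCast, ← zpow_mul, mul_comm, zpow_mul, zpow_natCast, _root_.sq, hx, one_zpow]
    obtain ⟨g, hg, h2⟩ := hsyl (zpowers x) h1 (by
      rintro p hp
      obtain ⟨k, rfl⟩ := mem_zpowers_iff.1 hp
      exact ((Commute.refl x).zpow_right k).eq)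
    have h3 := h2 x (mem_zpowers x)
    rwa [← hg, mul_inv_cancel_right] at h3
  have hxf : x ∈ fix K := by
    rw [mem_fix]
    refine ⟨hN rfl, fun y hy => ?_⟩
    rw [commutatorElement_eq_one_iff_mul_comm.2 (hKx y hy)]
    exact one_mem _
  have hmap : ∀ {t : G} (ht : t ∈ T), ∀ s ∈ F.dTop.range, F.rho ⟨t, ht⟩ s ∈ F.dTop.range := by
    rintro t ht _ ⟨s, rfl⟩
    rw [F.rho_dTop]
    exact ⟨_, rfl⟩
  have hpow : ∀ {t : G} (ht : t ∈ T), ∃ n : ℕ, F.rho ⟨t, ht⟩ ^ 2 ^ n = 1 := by
    intro t ht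
    obtain ⟨n, hn'⟩ := F.exists_pow ht
    refine ⟨n, ?_⟩
    rw [← map_pow]
    have h1 : (⟨t, ht⟩ : T) ^ 2 ^ n = 1 := Subtype.ext hn'
    rw [h1, map_one]
  have hfix : ∀ {t : G} (ht : t ∈ T), (∀ s ∈ F.dTop.range, F.rho ⟨t, ht⟩ s = s) ↔
      ∀ e ∈ T ⊓ K, t * e = e * t := by
    intro t ht
    constructor
    · intro h e he
      exact (F.comm_iff ⟨t, ht⟩ ⟨e, he⟩).2 (h _ ⟨_, rfl⟩)
    · rintro h _ ⟨e, rfl⟩
      exact (F.comm_iff ⟨t, ht⟩ e).1 (h e e.2)
  have hsq : ∀ {t : G} (ht : t ∈ T), t * t = 1 → F.rho ⟨t, ht⟩ * F.rho ⟨t, ht⟩ = 1 := by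
    intro t ht h
    rw [← map_mul]
    have h1 : (⟨t, ht⟩ : T) * ⟨t, ht⟩ = 1 := Subtype.ext h
    rw [h1, map_one]
  have hrhofix : ∀ {t : G} (ht : t ∈ T), F.rho ⟨t, ht⟩ = 1 ↔ t ∈ fix K :=
    fun ht => F.rho_eq_one_iff ⟨_, ht⟩
  refine ⟨r', c', hr', hc', ?_⟩
  exact
    { xx := hx
      x_ne := hx1
      K_comm := hKx
      K_norm := fun g hg k hk => L2Frame.conj_mem (hN hg) hk
      T_comm := hTx
      T_two := F.two
      T_syl := hsyl
      mem_D := fun g => mem_inf
      Q_le := inf_le_left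
      Q_norm := fun t ht q hq => F.conj_mem_Q ht hq
      x_mem := ⟨hxT, hxf⟩
      Q_inv := hQ1
      Q_four := hQ4
      QD := fun g hg hgQ => F.eq_one hg hgQ.2
      d_ge := E.d_ge
      r_mem := r'.2
      c_mem := c'.2
      cc := by
        have h1 : c' * c' = 1 := hinj (by rw [map_mul, hc', E.cc, map_one])
        exact congrArg Subtype.val h1
      crc := by
        have h1 : c' * r' * c'⁻¹ = r'⁻¹ := hinj (by
          rw [map_mul, map_mul, map_inv, map_inv, hc', hr', E.crc])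
        exact congrArg Subtype.val h1
      or_eq := by
        rw [Subgroup.orderOf_coe, ← orderOf_injective F.dTop hinj, hr', E.or_eq]
      c_not := by
        intro k h
        apply E.c_not k
        have h1 : c' = r' ^ k := Subtype.ext h
        rw [← hc', h1, map_zpow, hr']
      D_form := by
        intro g hg
        obtain ⟨k, hk | hk⟩ := E.S_form (F.dTop ⟨g, hg⟩) ⟨_, rfl⟩
        · refine ⟨k, Or.inl ?_⟩
          have h1 : (⟨g, hg⟩ : ↥(T ⊓ K)) = r' ^ k := hinj (by rw [hk, map_zpow, hr'])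
          exact congrArg Subtype.val h1
        · refine ⟨k, Or.inr ?_⟩
          have h1 : (⟨g, hg⟩ : ↥(T ⊓ K)) = r' ^ k * c' := hinj (by
            rw [hk, map_mul, map_zpow, hr', hc'])
          exact congrArg Subtype.val h1
      inv_conj := by
        intro a ha b hb haa ha1 hbb hb1
        have haa' : (⟨a, ha⟩ : ↥(T ⊓ K)) * ⟨a, ha⟩ = 1 := Subtype.ext haa
        have hbb' : (⟨b, hb⟩ : ↥(T ⊓ K)) * ⟨b, hb⟩ = 1 := Subtype.ext hbb
        obtain ⟨l, hl⟩ := E.inv_conj (F.dTop ⟨a, ha⟩) (F.dTop ⟨b, hb⟩)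
          (by rw [← map_mul, haa', map_one])
          (fun h => ha1 (congrArg Subtype.val (hinj (h.trans (map_one _).symm))))
          (by rw [← map_mul, hbb', map_one])
          (fun h => hb1 (congrArg Subtype.val (hinj (h.trans (map_one _).symm))))
        obtain ⟨k, rfl⟩ := topMap_surjective K l
        have hmem : (k : G) * a * (k : G)⁻¹ * b ∈ K :=
          mul_mem (mul_mem (mul_mem k.2 ha.2) (inv_mem k.2)) hb.2
        obtain ⟨t, ht, h1⟩ := exists_conj_of_ker (K := K) F.odd (u := (k : G) * a * (k : G)⁻¹)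
          (v := b) (by
            calc (k : G) * a * (k : G)⁻¹ * ((k : G) * a * (k : G)⁻¹) = k * (a * a) * (k : G)⁻¹ := by
                  group
              _ = 1 := by rw [haa, mul_one, mul_inv_cancel]) hbb hmem (by
            rw [MonoidHom.mem_ker]
            have e1 : (⟨(k : G) * a * (k : G)⁻¹ * b, hmem⟩ : K) =
                k * ⟨a, ha.2⟩ * k⁻¹ * ⟨b, hb.2⟩ := rfl
            have e2 : topMap K k * topMap K ⟨a, ha.2⟩ * (topMap K k)⁻¹ = topMap K ⟨b, hb.2⟩ := hl
            have e3 : (⟨b, hb.2⟩ : K) * ⟨b, hb.2⟩ = 1 := Subtype.ext hbb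
            rw [e1, map_mul, map_mul, map_mul, map_inv, e2, ← map_mul, e3, map_one])
        refine ⟨t⁻¹ * k, mul_mem (inv_mem ht) k.2, ?_⟩
        calc t⁻¹ * k * a * (t⁻¹ * k)⁻¹ = t⁻¹ * (k * a * (k : G)⁻¹) * t := by group
          _ = t⁻¹ * (t * b * t⁻¹) * t := by rw [h1]
          _ = b := by group
      o1_mul := fun g h hg hh => outFun_mul p1 (hN hg) (hN hh)
      o2_mul := fun g h hg hh => outFun_mul p2 (hN hg) (hN hh)
      A_inv := E.A_inv
      o1_Q := fun q hq => by rw [outFun_rho F p1 hq.1, (hrhofix hq.1).2 hq.2, map_one]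
      o2_Q := fun q hq => by rw [outFun_rho F p2 hq.1, (hrhofix hq.1).2 hq.2, map_one]
      o1_K := fun k hk => by
        rw [outFun_of_mem p1 (le_normalizer hk), act_of_mem ⟨k, hk⟩]
        exact E.inn1 _
      o2_K := fun k hk => by
        rw [outFun_of_mem p2 (le_normalizer hk), act_of_mem ⟨k, hk⟩]
        exact E.inn2 _
      ker := by
        intro t ht h1 h2
        rw [outFun_rho F p1 ht] at h1
        rw [outFun_rho F p2 ht] at h2
        obtain ⟨l, hl⟩ := E.ker _ h1 h2
        obtain ⟨y, hy, a, h3, -⟩ := F.exists_mul hl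
        exact ⟨y, hy, a, a.2, h3⟩
      swap := by
        intro hd t ht k hk
        rw [outFun_rho F p1 ht]
        apply E.swap hd _ (hmap ht) k
        rw [← hc', F.rho_dTop, ← hr', ← map_zpow, ← map_mul]
        congr 1
        exact Subtype.ext hk
      small := by
        intro hd t ht
        obtain ⟨h1, h2⟩ := E.small hd _ (hpow ht) (hmap ht)
        rw [outFun_rho F p1 ht, outFun_rho F p2 ht, ← hfix ht]
        exact ⟨h1, h2⟩
      sq_mem := by
        intro g hg h
        have h1 := E.sq _ (hpow hg) ((hfix hg).2 h)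
        rw [← map_mul] at h1
        exact ⟨mul_mem hg hg, (hrhofix (mul_mem hg hg)).1 h1⟩
      no_mixed := by
        intro y hy h
        rw [outFun_rho F p1 hy, outFun_rho F p2 hy]
        exact E.no_mixed _ (hsq hy h)
      field_cent := by
        intro y hy h h2
        rw [outFun_rho F p2 hy] at h2
        obtain ⟨l, hl⟩ := E.field_cent _ (hsq hy h) h2
        refine exists_conj_comm F hy
          (S' := F.dTop.range.map (MulAut.conj l⁻¹).toMonoidHom)
          (card_map_of_injective (MulAut.conj l⁻¹).injective) ?_ ?_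
        · obtain ⟨S, hS⟩ := F.exists_sylow
          rw [← hS]
          exact S.2.map _
        · rintro _ ⟨s, hs, rfl⟩
          have h3 := hl s hs
          rw [← map_inv, MulAut.mul_apply, MulAut.mul_apply] at h3
          have h4 := congrArg (MulAut.conj l⁻¹) h3
          rw [map_inv MulAut.conj l, MulAut.inv_apply_self, ← map_inv MulAut.conj l] at h4
          exact h4
      field_conj := by
        intro y hy h h2 h3
        rw [outFun_rho F p2 hy] at h2
        obtain ⟨_, ⟨e, rfl⟩, he1, hee, l, hl⟩ := E.field_conj _ (hsq hy h) h2 ((hfix hy).2 h3)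
        have hee' : (e : G) * e = 1 := by
          have h5 : e * e = 1 := hinj (by rw [map_mul, hee, map_one])
          exact congrArg Subtype.val h5
        obtain ⟨k, rfl⟩ := topMap_surjective K l
        refine ⟨e, e.2, fun h5 => he1 (by rw [show e = 1 from Subtype.ext h5, map_one]), hee', ?_⟩
        have hye : y * e = e * y := h3 e e.2
        have hmem : (k : G) * y * (k : G)⁻¹ * (e * y) ∈ K := by
          have e1 : (k : G) * y * (k : G)⁻¹ * (e * y) = k * (y * (k : G)⁻¹ * y⁻¹) * e := by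
            calc (k : G) * y * (k : G)⁻¹ * (e * y) = k * y * (k : G)⁻¹ * (y * e) := by rw [hye]
              _ = k * (y * (k : G)⁻¹ * y) * e := by group
              _ = k * (y * (k : G)⁻¹ * y⁻¹) * e := by rw [inv_eq_of_mul_eq_one_right h]
          rw [e1]
          exact mul_mem (mul_mem k.2 (L2Frame.conj_mem (F.norm hy) (inv_mem k.2))) e.2.2
        obtain ⟨t, ht, h5⟩ := exists_conj_of_ker (K := K) F.odd (u := (k : G) * y * (k : G)⁻¹)
          (v := e * y) (by
            calc (k : G) * y * (k : G)⁻¹ * ((k : G) * y * (k : G)⁻¹) = k * (y * y) * (k : G)⁻¹ := by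
                  group
              _ = 1 := by rw [h, mul_one, mul_inv_cancel]) (by
            calc (e : G) * y * (e * y) = e * (y * e) * y := by group
              _ = (e * e) * (y * y) := by rw [hye]; group
              _ = 1 := by rw [hee', h, one_mul]) hmem (by
            rw [mem_ker_iff, mem_fix, ← act_eq_one_iff (quasisimple F.comp) (le_normalizer hmem)]
            have hkN : (k : G) ∈ normalizer (K : Set G) := le_normalizer k.2
            have heN : (e : G) ∈ normalizer (K : Set G) := le_normalizer e.2.2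
            have hyN : y ∈ normalizer (K : Set G) := F.norm hy
            have e1 : (⟨(k : G) * y * (k : G)⁻¹ * (e * y), le_normalizer hmem⟩ :
                normalizer (K : Set G)) = ⟨k, hkN⟩ * ⟨y, hyN⟩ * ⟨k, hkN⟩⁻¹ * (⟨e, heN⟩ * ⟨y, hyN⟩) :=
              rfl
            rw [e1, map_mul, map_mul, map_mul, map_mul, map_inv]
            have e2 : act K ⟨k, hkN⟩ = MulAut.conj (topMap K k) := act_of_mem k
            have e3 : act K ⟨(e : G), heN⟩ = MulAut.conj (F.dTop e) := act_of_mem ⟨(e : G), e.2.2⟩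
            have e4 : act K ⟨y, hyN⟩ = F.rho ⟨y, hy⟩ := rfl
            rw [e2, e3, e4, hl]
            have e5 : F.rho ⟨y, hy⟩ * MulAut.conj (F.dTop e) =
                MulAut.conj (F.dTop e) * F.rho ⟨y, hy⟩ := by
              rw [← F.rho_of_mem, ← map_mul, ← map_mul]
              congr 1
              exact Subtype.ext hye
            rw [mul_assoc, ← mul_assoc (F.rho ⟨y, hy⟩), e5, mul_assoc, hsq hy h, mul_one,
              ← map_mul, hee, map_one])
        refine ⟨t⁻¹ * k, mul_mem (inv_mem ht) k.2, ?_⟩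
        calc t⁻¹ * k * y * (t⁻¹ * k)⁻¹ = t⁻¹ * (k * y * (k : G)⁻¹) * t := by group
          _ = t⁻¹ * (t * (e * y) * t⁻¹) * t := by rw [h5]
          _ = e * y := by group
      field_o1 := by
        intro y hy h h2 g hg hgy
        rw [outFun_rho F p2 hy] at h2
        rw [outFun_rho F p1 hg]
        refine E.field_o1 _ (hsq hy h) h2 _ ?_
        have h3 := (hrhofix hgy.1).2 hgy.2
        have e1 : (⟨g * y * g⁻¹ * y⁻¹, hgy.1⟩ : T) =
            ⟨g, hg⟩ * ⟨y, hy⟩ * ⟨g, hg⟩⁻¹ * ⟨y, hy⟩⁻¹ := rfl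
        rw [e1, map_mul, map_mul, map_mul, map_inv, map_inv] at h3
        exact mul_inv_eq_one.1 h3 }

end Cfsg.Agent.GH.L2One
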