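import Mathlib

/-!
# Dihedral subgroups `{r^i, r^i c}` of order `2^(n+1)`, `n ≥ 2`
-/

set_option autoImplicit false

open Subgroup

namespace Cfsg.Agent.GH.L2One.DihD

variable {G : Type*} [Group G]

/-- `D` is dihedral of order `2^(n+1) ≥ 8` with rotation `r` and reflection `c`. -/
structure Dih (D : Subgroup G) (r c : G) (n : ℕ) : Prop where
  two_le : 2 ≤ n
  ord : orderOf r = 2 ^ n
  cc : c * c = 1
  crc : c * r * c = r⁻¹
  ncz : c ∉ zpowers r
  mem : ∀ g, g ∈ D ↔ (∃ i : ℤ, g = r ^ i) ∨ ∃ i : ℤ, g = r ^ i * c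

/-- the central involution -/
def zz (r : G) (n : ℕ) : G := r ^ 2 ^ (n - 1)

namespace Dih

variable {D : Subgroup G} {r c : G} {n : ℕ}

theorem r_mem (h : Dih D r c n) : r ∈ D := (h.mem r).2 (Or.inl ⟨1, (zpow_one r).symm⟩)

theorem c_mem (h : Dih D r c n) : c ∈ D := (h.mem c).2 (Or.inr ⟨0, by simp⟩)

theorem rpow_mem (h : Dih D r c n) (i : ℤ) : r ^ i ∈ D := zpow_mem h.r_mem i

theorem c_inv (h : Dih D r c n) : c⁻¹ = c := inv_eq_of_mul_eq_one_left h.cc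

theorem c_rpow (h : Dih D r c n) (i : ℤ) : c * r ^ i = r ^ (-i) * c := by
  have h1 : c * r * c⁻¹ = r⁻¹ := by rw [h.c_inv]; exact h.crc
  have h2 : c * r ^ i * c⁻¹ = r ^ (-i) := by
    rw [← conj_zpow, h1, inv_zpow, zpow_neg]
  rw [← h2]; group

theorem refl_sq (h : Dih D r c n) (i : ℤ) : (r ^ i * c) * (r ^ i * c) = 1 := by
  rw [mul_assoc, ← mul_assoc c, h.c_rpow, mul_assoc, h.cc, mul_one, ← zpow_add]
  simp

theorem rpow_eq_one (h : Dih D r c n) {i : ℤ} : r ^ i = 1 ↔ (2 : ℤ) ^ n ∣ i := by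
  rw [← orderOf_dvd_iff_zpow_eq_one, h.ord]
  push_cast
  rfl

theorem rpow_eq (h : Dih D r c n) {i j : ℤ} : r ^ i = r ^ j ↔ (2 : ℤ) ^ n ∣ i - j := by
  rw [← h.rpow_eq_one, zpow_sub, mul_inv_eq_one]

theorem zz_eq (r : G) (n : ℕ) : zz r n = r ^ ((2 : ℤ) ^ (n - 1)) := by
  rw [zz, ← zpow_natCast]
  push_cast
  rfl

theorem two_pow (h : Dih D r c n) : (2 : ℤ) ^ n = 2 * 2 ^ (n - 1) := by
  obtain ⟨m, rfl⟩ : ∃ m, n = m + 1 := ⟨n - 1, by have := h.two_le; omega⟩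
  rw [Nat.add_sub_cancel, pow_succ]; ring

theorem two_pow' (h : Dih D r c n) : (2 : ℤ) ^ (n - 1) = 2 * 2 ^ (n - 2) := by
  obtain ⟨m, rfl⟩ : ∃ m, n = m + 2 := ⟨n - 2, by have := h.two_le; omega⟩
  have : m + 2 - 1 = m + 1 := by omega
  rw [this, Nat.add_sub_cancel, pow_succ]; ring

theorem z_mem (h : Dih D r c n) : zz r n ∈ D := by rw [zz_eq]; exact h.rpow_mem _

theorem z_ne_one (h : Dih D r c n) : zz r n ≠ 1 := by
  rw [zz_eq, ne_eq, h.rpow_eq_one, h.two_pow]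
  intro h1
  have h2 : (0 : ℤ) < 2 ^ (n - 1) := by positivity
  have h3 := Int.le_of_dvd h2 h1
  omega

theorem z_sq (h : Dih D r c n) : zz r n * zz r n = 1 := by
  rw [zz_eq, ← zpow_add, h.rpow_eq_one, h.two_pow]
  exact ⟨1, by ring⟩

theorem z_inv (h : Dih D r c n) : (zz r n)⁻¹ = zz r n := inv_eq_of_mul_eq_one_left h.z_sq

theorem z_comm_r (_h : Dih D r c n) (i : ℤ) : r ^ i * zz r n = zz r n * r ^ i := by
  rw [zz_eq, ← zpow_add, ← zpow_add, add_comm]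

theorem z_comm_c (h : Dih D r c n) : c * zz r n = zz r n * c := by
  have h1 : c * zz r n = (zz r n)⁻¹ * c := by
    rw [zz_eq, h.c_rpow, zpow_neg]
  rw [h1, h.z_inv]

theorem z_comm (h : Dih D r c n) {g : G} (hg : g ∈ D) : g * zz r n = zz r n * g := by
  rcases (h.mem g).1 hg with ⟨i, rfl⟩ | ⟨i, rfl⟩
  · exact h.z_comm_r i
  · rw [mul_assoc, h.z_comm_c, ← mul_assoc, h.z_comm_r, mul_assoc]

/-- A rotation with square one is `1` or `z`. -/
theorem rot_sq (h : Dih D r c n) {i : ℤ} (hi : r ^ i * r ^ i = 1) : r ^ i = 1 ∨ r ^ i = zz r n := by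
  rw [← zpow_add, h.rpow_eq_one, h.two_pow] at hi
  have h1 : (2 : ℤ) ^ (n - 1) ∣ i := by
    obtain ⟨k, hk⟩ := hi
    exact ⟨k, by
      have : 2 * i = 2 * (2 ^ (n - 1) * k) := by linarith
      linarith⟩
  obtain ⟨k, rfl⟩ := h1
  rcases Int.even_or_odd' k with ⟨m, rfl | rfl⟩
  · left
    rw [h.rpow_eq_one, h.two_pow]
    exact ⟨m, by ring⟩
  · right
    rw [zz_eq, h.rpow_eq, h.two_pow]
    exact ⟨m, by ring⟩

theorem ne_refl (h : Dih D r c n) (i j : ℤ) : r ^ i ≠ r ^ j * c := by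
  intro h1
  apply h.ncz
  have : c = r ^ (-j + i) := by
    rw [zpow_add, h1, ← mul_assoc, ← zpow_add]; simp
  rw [this]
  exact zpow_mem (mem_zpowers r) _

/-- An element of `D` is a rotation or a reflection. -/
theorem cases (h : Dih D r c n) {g : G} (hg : g ∈ D) :
    (∃ i : ℤ, g = r ^ i) ∨ (∃ i : ℤ, g = r ^ i * c) := (h.mem g).1 hg

/-- An element of `D` of square one is `1`, `z` or a reflection. -/
theorem sq_one (h : Dih D r c n) {g : G} (hg : g ∈ D) (hgg : g * g = 1) :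
    g = 1 ∨ g = zz r n ∨ ∃ i : ℤ, g = r ^ i * c := by
  rcases h.cases hg with ⟨i, rfl⟩ | ⟨i, rfl⟩
  · rcases h.rot_sq hgg with h1 | h1
    · exact Or.inl h1
    · exact Or.inr (Or.inl h1)
  · exact Or.inr (Or.inr ⟨i, rfl⟩)

/-- odd powers of `r` are not `1`, `z`; moreover their squares are not `1`. -/
theorem odd_sq (h : Dih D r c n) {k : ℤ} (hk : Odd k) : r ^ k * r ^ k ≠ 1 := by
  rw [← zpow_add, ne_eq, h.rpow_eq_one, h.two_pow, h.two_pow']
  rintro ⟨m, hm⟩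
  obtain ⟨l, rfl⟩ := hk
  have : 2 * l + 1 = 2 * (2 ^ (n - 2) * m) := by linarith
  omega

theorem odd_ne_one (h : Dih D r c n) {k : ℤ} (hk : Odd k) : r ^ k ≠ 1 := by
  intro h1
  exact h.odd_sq hk (by rw [h1, mul_one])

theorem odd_ne_z (h : Dih D r c n) {k : ℤ} (hk : Odd k) : r ^ k ≠ zz r n := by
  intro h1
  exact h.odd_sq hk (by rw [h1, h.z_sq])

theorem r_ne_one (h : Dih D r c n) : r ≠ 1 := by
  have := h.odd_ne_one (k := 1) (by decide)
  simpa using this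

theorem c_ne_one (h : Dih D r c n) : c ≠ 1 := by
  intro h1
  exact h.ncz (h1 ▸ one_mem _)

theorem c_ne_z (h : Dih D r c n) : c ≠ zz r n := by
  intro h1
  apply h.ncz
  rw [h1, zz_eq]
  exact zpow_mem (mem_zpowers r) _

theorem refl_ne_z (h : Dih D r c n) (i : ℤ) : r ^ i * c ≠ zz r n := by
  intro h1
  rw [zz_eq] at h1
  exact h.ne_refl _ _ h1.symm

theorem refl_ne_one (h : Dih D r c n) (i : ℤ) : r ^ i * c ≠ 1 := by
  intro h1
  exact h.ne_refl 0 i (by rw [zpow_zero]; exact h1.symm)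

/-- the centre of `D` -/
theorem center (h : Dih D r c n) {g : G} (hg : g ∈ D) (h1 : g * r = r * g) (h2 : g * c = c * g) :
    g = 1 ∨ g = zz r n := by
  rcases h.cases hg with ⟨i, rfl⟩ | ⟨i, rfl⟩
  · apply h.rot_sq
    rw [h.c_rpow, mul_left_inj] at h2
    calc r ^ i * r ^ i = r ^ (-i) * r ^ i := by rw [← h2]
      _ = 1 := by rw [← zpow_add]; simp
  · exfalso
    have h3 : r ^ i * c * r = r ^ (i - 1) * c := by
      have := h.c_rpow 1
      rw [zpow_one] at this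
      rw [mul_assoc, this, ← mul_assoc, ← zpow_add]
      rfl
    have h4 : r * (r ^ i * c) = r ^ (i + 1) * c := by
      rw [← mul_assoc, add_comm, zpow_add, zpow_one]
    rw [h3, h4, mul_left_inj, h.rpow_eq, h.two_pow, h.two_pow'] at h1
    obtain ⟨m, hm⟩ := h1
    have h5 : (-1 : ℤ) = 2 * (2 ^ (n - 2) * m) := by linarith
    omega

theorem center_of_comm (h : Dih D r c n) {g : G} (hg : g ∈ D) (h1 : ∀ d ∈ D, g * d = d * g) :
    g = 1 ∨ g = zz r n := h.center hg (h1 r h.r_mem) (h1 c h.c_mem)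

/-- `2^(n-1)`-th powers lie in `⟨z⟩` -/
theorem pow_mem (h : Dih D r c n) {g : G} (hg : g ∈ D) :
    g ^ 2 ^ (n - 1) = 1 ∨ g ^ 2 ^ (n - 1) = zz r n := by
  rcases h.cases hg with ⟨i, rfl⟩ | ⟨i, rfl⟩
  · have h1 : (r ^ i) ^ 2 ^ (n - 1) = r ^ (i * 2 ^ (n - 1)) := by
      rw [← zpow_natCast, ← zpow_mul]
      push_cast
      rfl
    rw [h1]
    apply h.rot_sq
    rw [← zpow_add, h.rpow_eq_one, h.two_pow]
    exact ⟨i, by ring⟩
  · left
    obtain ⟨m, hm⟩ : ∃ m, 2 ^ (n - 1) = 2 * m := by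
      refine ⟨2 ^ (n - 2), ?_⟩
      have := h.two_le
      obtain ⟨m, rfl⟩ : ∃ m, n = m + 2 := ⟨n - 2, by omega⟩
      have : m + 2 - 1 = m + 1 := by omega
      rw [this, Nat.add_sub_cancel, pow_succ]; ring
    rw [hm, pow_mul, pow_two, h.refl_sq, one_pow]

/-- `2^n`-th powers are trivial -/
theorem pow_eq_one (h : Dih D r c n) {g : G} (hg : g ∈ D) : g ^ 2 ^ n = 1 := by
  have h1 : 2 ^ n = 2 ^ (n - 1) * 2 := by
    have := h.two_le
    obtain ⟨m, rfl⟩ : ∃ m, n = m + 1 := ⟨n - 1, by omega⟩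
    rw [Nat.add_sub_cancel, pow_succ]
  rw [h1, pow_mul]
  rcases h.pow_mem hg with h2 | h2
  · rw [h2, one_pow]
  · rw [h2, pow_two, h.z_sq]

/-- squares are rotations by an even power -/
theorem sq_eq (h : Dih D r c n) {g : G} (hg : g ∈ D) : ∃ i : ℤ, g * g = r ^ (2 * i) := by
  rcases h.cases hg with ⟨i, rfl⟩ | ⟨i, rfl⟩
  · exact ⟨i, by rw [← zpow_add, two_mul]⟩
  · exact ⟨0, by rw [h.refl_sq]; simp⟩

/-- two reflections whose product is an odd power of `r` do not commute -/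
theorem refl_not_comm (h : Dih D r c n) {i k : ℤ} (hk : Odd k) :
    (r ^ i * c) * (r ^ (i + k) * c) ≠ (r ^ (i + k) * c) * (r ^ i * c) := by
  intro h1
  have h2 : ∀ a b : ℤ, (r ^ a * c) * (r ^ b * c) = r ^ (a - b) := by
    intro a b
    rw [mul_assoc, ← mul_assoc c, h.c_rpow, mul_assoc, h.cc, mul_one, ← zpow_add]
    rfl
  rw [h2, h2] at h1
  have h3 : i - (i + k) = -k := by ring
  have h4 : i + k - i = k := by ring
  rw [h3, h4] at h1
  apply h.odd_sq hk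
  calc r ^ k * r ^ k = r ^ (-k) * r ^ k := by rw [h1]
    _ = 1 := by rw [← zpow_add]; simp

theorem refl_mul (h : Dih D r c n) (a b : ℤ) : (r ^ a * c) * (r ^ b * c) = r ^ (a - b) := by
  rw [mul_assoc, ← mul_assoc c, h.c_rpow, mul_assoc, h.cc, mul_one, ← zpow_add]
  rfl

theorem conj_refl (h : Dih D r c n) (a b : ℤ) :
    (r ^ a * c) * r ^ b * (r ^ a * c)⁻¹ = r ^ (-b) := by
  have h1 : (r ^ a * c)⁻¹ = r ^ a * c := inv_eq_of_mul_eq_one_left (h.refl_sq a)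
  rw [h1]
  calc r ^ a * c * r ^ b * (r ^ a * c) = r ^ a * (c * r ^ b) * (r ^ a * c) := by group
    _ = r ^ a * (r ^ (-b) * c) * (r ^ a * c) := by rw [h.c_rpow]
    _ = r ^ (a - b) * c * (r ^ a * c) := by
      rw [← mul_assoc (r ^ a) (r ^ (-b)), ← zpow_add]; rfl
    _ = r ^ (-b) := by rw [h.refl_mul]; congr 1; ring

end Dih

end Cfsg.Agent.GH.L2One.DihD
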