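import Cfsg.Agent.GH.L2One.Dbl
import Cfsg.Agent.SignalizersComponents.PConstrained
import Cfsg.Agent.PLocal.ZJReduction

/-!
# GH-L2: `CoreH` from `2`-constraint of `C(c₀)`

`S` a Sylow 2-subgroup, `c₀` an involution in `Z(S)` whose centralizer has no 2-component, `x ∈ S` with
`[S, x] ≤ ⟨c₀⟩`: then `x ∈ O_{2',2}(C(c₀))`, and every `C(c₀)`-conjugate of `x` is congruent modulo
`O(C(c₀))` to some `y ∈ R = S ∩ O_{2',2}(C(c₀))` with `[R, y] ≤ ⟨c₀⟩`.
-/

set_option autoImplicit false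

open Subgroup Cfsg

namespace Cfsg.Agent.GH.L2One.CoreHOf

section Abstract

variable {Q : Type*} [Group Q] {c : Q}

/-- The elements acting on `R` with commutators in `⟨c⟩`, `c` a central involution. -/
def LL (R : Subgroup Q) (c : Q) (hc : ∀ g, g * c = c * g) (hcc : c * c = 1) : Subgroup Q where
  carrier := {g | ∀ r ∈ R, g * r * g⁻¹ = r ∨ g * r * g⁻¹ = c * r}
  one_mem' := by intro r _; left; simp
  mul_mem' := by
    intro a b ha hb r hr
    have e : a * b * r * (a * b)⁻¹ = a * (b * r * b⁻¹) * a⁻¹ := by group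
    rcases hb r hr with h | h
    · rw [e, h]
      exact ha r hr
    · rw [e, h]
      have e2 : a * (c * r) * a⁻¹ = c * (a * r * a⁻¹) := by
        rw [← mul_assoc a, hc a]; group
      rcases ha r hr with h2 | h2
      · right; rw [e2, h2]
      · left; rw [e2, h2, ← mul_assoc, hcc, one_mul]
  inv_mem' := by
    intro a ha r hr
    rcases ha r hr with h | h
    · left
      calc a⁻¹ * r * a⁻¹⁻¹ = a⁻¹ * (a * r * a⁻¹) * a := by rw [h]; group
        _ = r := by group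
    · right
      have h1 : c * (a * r * a⁻¹) = r := by rw [h, ← mul_assoc, hcc, one_mul]
      calc a⁻¹ * r * a⁻¹⁻¹ = a⁻¹ * (c * (a * r * a⁻¹)) * a := by rw [h1]; group
        _ = a⁻¹ * (c * a) * r := by group
        _ = a⁻¹ * (a * c) * r := by rw [hc a]
        _ = c * r := by group

variable {R : Subgroup Q} (hc : ∀ g, g * c = c * g) (hcc : c * c = 1)

theorem LL_normal (hR : R.Normal) : (LL R c hc hcc).Normal := by
  refine ⟨fun a ha g r hr => ?_⟩
  have h1 : g⁻¹ * r * g ∈ R := by simpa using hR.conj_mem r hr g⁻¹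
  have e : g * a * g⁻¹ * r * (g * a * g⁻¹)⁻¹ = g * (a * (g⁻¹ * r * g) * a⁻¹) * g⁻¹ := by group
  rcases ha _ h1 with h | h
  · left; rw [e, h]; group
  · right
    rw [e, h]
    calc g * (c * (g⁻¹ * r * g)) * g⁻¹ = (g * c) * g⁻¹ * r := by group
      _ = (c * g) * g⁻¹ * r := by rw [hc g]
      _ = c * r := by group

theorem LL_two (hR : IsPGroup 2 R) (hcent : centralizer (R : Set Q) ≤ R) :
    IsPGroup 2 (LL R c hc hcc) := by
  rintro ⟨a, ha⟩
  have h1 : a * a ∈ centralizer (R : Set Q) := by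
    rw [mem_centralizer_iff]
    intro r hr
    have h2 : a * a * r * (a * a)⁻¹ = r := by
      have e : a * a * r * (a * a)⁻¹ = a * (a * r * a⁻¹) * a⁻¹ := by group
      rcases ha r hr with h | h
      · rw [e, h, h]
      · rw [e, h]
        calc a * (c * r) * a⁻¹ = (a * c) * r * a⁻¹ := by group
          _ = (c * a) * r * a⁻¹ := by rw [hc a]
          _ = c * (a * r * a⁻¹) := by group
          _ = r := by rw [h, ← mul_assoc, hcc, one_mul]
    rw [mul_inv_eq_iff_eq_mul] at h2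
    exact h2.symm
  obtain ⟨k, hk⟩ := hR ⟨a * a, hcent h1⟩
  refine ⟨k + 1, ?_⟩
  apply Subtype.ext
  have h2 : (a * a) ^ 2 ^ k = 1 := congrArg Subtype.val hk
  change a ^ 2 ^ (k + 1) = 1
  rw [pow_succ, mul_comm (2 ^ k) 2, pow_mul, pow_two]
  exact h2

end Abstract

variable {G : Type*} [Group G] [Finite G]

/-- **Construction of `CoreH`.** -/
theorem exists_coreH {S : Sylow 2 G} {x c₀ : G} (hcS : c₀ ∈ S) (hcc : c₀ * c₀ = 1)
    (hcen : ∀ s ∈ S, c₀ * s = s * c₀)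
    (hcon : IsPConstrained 2 ↥(centralizer ({c₀} : Set G))) (hx : x ∈ S)
    (hxS : ∀ s ∈ S, s * x * s⁻¹ * x⁻¹ = 1 ∨ s * x * s⁻¹ * x⁻¹ = c₀) :
    ∃ N R : Subgroup G, CoreH (S : Subgroup G) N R x c₀ := by
  have : Fact (Nat.Prime 2) := ⟨Nat.prime_two⟩
  set H : Subgroup G := centralizer ({c₀} : Set G) with hH
  have memH : ∀ {g : G}, g ∈ H ↔ c₀ * g = g * c₀ := by
    intro g
    rw [hH, mem_centralizer_singleton_iff]
    exact eq_comm
  have hSH : (S : Subgroup G) ≤ H := fun s hs => memH.2 (hcen s hs)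
  set O : Subgroup H := pPrimeCore 2 H with hO
  set π : H →* H ⧸ O := QuotientGroup.mk' O with hπ
  set Rt : Subgroup (H ⧸ O) := pCore 2 (H ⧸ O) with hRt
  have hcon' : centralizer (Rt : Set (H ⧸ O)) ≤ Rt :=
    (SignalizersComponents.PConstrained.isPConstrained_iff_quotient 2).1 hcon
  have hRtn : Rt.Normal := Lib.Cores.pCore_normal 2
  have hRt2 : IsPGroup 2 Rt := Lib.Cores.pCore_isPGroup 2
  have hOn : O.Normal := Lib.Cores.pPrimeCore_normal 2
  have hOodd : Odd (Nat.card O) := by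
    have := Lib.Cores.pPrimeCore_coprime (G := H) 2
    exact Nat.coprime_two_right.1 this
  -- `S ∩ O = 1`
  have hSO : ∀ g : H, (g : G) ∈ S → g ∈ O → g = 1 := by
    intro g hgS hgO
    obtain ⟨k, hk⟩ := S.isPGroup' ⟨g, hgS⟩
    have h1 : orderOf g ∣ 2 ^ k := by
      apply orderOf_dvd_of_pow_eq_one
      apply Subtype.ext
      have := congrArg Subtype.val hk
      simpa using this
    have h2 : orderOf g ∣ Nat.card O := by
      have := orderOf_dvd_natCard (⟨g, hgO⟩ : O)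
      rwa [← Subgroup.orderOf_coe] at this
    have h3 : Nat.Coprime (2 ^ k) (Nat.card O) :=
      Nat.Coprime.pow_left k (Nat.coprime_two_left.2 hOodd)
    exact orderOf_eq_one_iff.1 (Nat.eq_one_of_dvd_coprimes h3 h1 h2)
  let SH : Sylow 2 H := S.subtype hSH
  have hSHmem : ∀ g : H, g ∈ (SH : Subgroup H) ↔ (g : G) ∈ S := fun g => by
    change g ∈ (S : Subgroup G).subgroupOf H ↔ _
    exact mem_subgroupOf
  set RH : Subgroup H := (SH : Subgroup H) ⊓ Rt.comap π with hRH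
  have hmap : RH.map π = Rt := PLocal.ZJReduction.map_inf_comap O hRtn hRt2 SH
  set c : H ⧸ O := π ⟨c₀, memH.2 rfl⟩ with hcdef
  have hcq : ∀ g, g * c = c * g := by
    intro g
    obtain ⟨g, rfl⟩ := QuotientGroup.mk'_surjective O g
    rw [hcdef, ← map_mul, ← map_mul]
    congr 1
    exact Subtype.ext (memH.1 g.2).symm
  have hccq : c * c = 1 := by
    rw [hcdef, ← map_mul]
    have : (⟨c₀, memH.2 rfl⟩ * ⟨c₀, memH.2 rfl⟩ : H) = 1 := Subtype.ext hcc
    rw [this, map_one]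
  have hLn := LL_normal (R := Rt) hcq hccq hRtn
  have hL2 := LL_two (R := Rt) hcq hccq hRt2 hcon'
  have hLle : LL Rt c hcq hccq ≤ Rt := Lib.Cores.le_pCore hLn hL2
  have hxH : x ∈ H := hSH hx
  have hxL : π ⟨x, hxH⟩ ∈ Rt := by
    apply hLle
    intro r hr
    rw [← hmap] at hr
    obtain ⟨w, hw, rfl⟩ := hr
    have hwS : (w : G) ∈ S := (hSHmem w).1 hw.1
    rcases hxS w hwS with h | h
    · left
      rw [← map_mul, ← map_inv, ← map_mul]
      congr 1
      apply Subtype.ext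
      change x * w * x⁻¹ = w
      have h1 : (w : G) * x = x * w := by
        rw [mul_inv_eq_one, mul_inv_eq_iff_eq_mul] at h
        exact h
      rw [← h1]; group
    · right
      rw [← map_mul, ← map_inv, ← map_mul, hcdef, ← map_mul]
      congr 1
      apply Subtype.ext
      change x * w * x⁻¹ = c₀ * w
      have h1 : (w : G) * x = c₀ * (x * w) := by
        rw [mul_inv_eq_iff_eq_mul, mul_inv_eq_iff_eq_mul] at h
        rw [h, mul_assoc]
      have h2 : x * w = c₀ * (w * x) := by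
        rw [h1, ← mul_assoc, hcc, one_mul]
      rw [h2]; group
  refine ⟨O.map H.subtype, RH.map H.subtype, ?_, ?_, ?_, ?_, ?_, ?_, ?_⟩
  · rintro _ ⟨n, -, rfl⟩
    exact memH.1 n.2
  · rintro h hh _ ⟨n, hn, rfl⟩
    refine ⟨⟨h, memH.2 hh⟩ * n * ⟨h, memH.2 hh⟩⁻¹, hOn.conj_mem n hn _, ?_⟩
    simp
  · rw [Nat.card_congr (O.equivMapOfInjective H.subtype H.subtype_injective).toEquiv.symm]
    exact hOodd
  · rintro _ ⟨r, hr, rfl⟩
    exact (hSHmem r).1 hr.1
  · rintro s hs _ ⟨r, hr, rfl⟩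
    refine ⟨⟨s, hSH hs⟩ * r * ⟨s, hSH hs⟩⁻¹, ⟨?_, ?_⟩, by simp⟩
    · apply (hSHmem _).2
      exact mul_mem (mul_mem hs ((hSHmem r).1 hr.1)) (inv_mem hs)
    · change π _ ∈ Rt
      rw [map_mul, map_mul, map_inv]
      exact hRtn.conj_mem _ hr.2 _
  · exact ⟨⟨x, hxH⟩, ⟨(hSHmem _).2 hx, hxL⟩, rfl⟩
  · intro h hh
    have hhH : h ∈ H := memH.2 hh
    have h1 : π (⟨h, hhH⟩ * ⟨x, hxH⟩ * ⟨h, hhH⟩⁻¹) ∈ Rt := by
      rw [map_mul, map_mul, map_inv]
      exact hRtn.conj_mem _ hxL _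
    rw [← hmap] at h1
    obtain ⟨y, hy, hyx⟩ := h1
    refine ⟨y, ⟨y, hy, rfl⟩, ⟨y⁻¹ * (⟨h, hhH⟩ * ⟨x, hxH⟩ * ⟨h, hhH⟩⁻¹), ?_, by simp [mul_assoc]⟩, ?_⟩
    · apply (QuotientGroup.eq_one_iff _).1
      change π _ = 1
      rw [map_mul, map_inv, hyx, inv_mul_cancel]
    · rintro _ ⟨w, hw, rfl⟩
      -- `w' ∈ RH` with the same image as `h⁻¹ w h`
      have h2 : π (⟨h, hhH⟩⁻¹ * w * ⟨h, hhH⟩) ∈ Rt := by
        have := hRtn.conj_mem _ hw.2 (π ⟨h, hhH⟩⁻¹)
        rw [map_mul, map_mul]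
        simpa using this
      rw [← hmap] at h2
      obtain ⟨w', hw', hww⟩ := h2
      have hw'S : (w' : G) ∈ S := (hSHmem w').1 hw'.1
      have hcomm : π (w * y * w⁻¹ * y⁻¹) = π ⟨h, hhH⟩ * π (w' * ⟨x, hxH⟩ * w'⁻¹ * ⟨x, hxH⟩⁻¹) * (π ⟨h, hhH⟩)⁻¹ := by
        have e1 : π w = π ⟨h, hhH⟩ * π w' * (π ⟨h, hhH⟩)⁻¹ := by
          rw [hww, map_mul, map_mul, map_inv]; group
        have e2 : π y = π ⟨h, hhH⟩ * π ⟨x, hxH⟩ * (π ⟨h, hhH⟩)⁻¹ := by
          rw [hyx, map_mul, map_mul, map_inv]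
        rw [map_mul, map_mul, map_mul, map_inv, map_inv, e1, e2, map_mul, map_mul, map_mul, map_inv, map_inv]
        group
      have hwS : (w : G) ∈ S := (hSHmem w).1 hw.1
      have hyS : (y : G) ∈ S := (hSHmem y).1 hy.1
      have hcommS : ((w * y * w⁻¹ * y⁻¹ : H) : G) ∈ S :=
        mul_mem (mul_mem (mul_mem hwS hyS) (inv_mem hwS)) (inv_mem hyS)
      rcases hxS w' hw'S with h3 | h3
      · left
        have h4 : (w' * ⟨x, hxH⟩ * w'⁻¹ * ⟨x, hxH⟩⁻¹ : H) = 1 := Subtype.ext h3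
        rw [h4, map_one, mul_one, mul_inv_cancel] at hcomm
        have h5 : (w * y * w⁻¹ * y⁻¹ : H) ∈ O := (QuotientGroup.eq_one_iff _).1 hcomm
        have h6 := hSO _ hcommS h5
        exact congrArg Subtype.val h6
      · right
        have h4 : (w' * ⟨x, hxH⟩ * w'⁻¹ * ⟨x, hxH⟩⁻¹ : H) = ⟨c₀, memH.2 rfl⟩ := Subtype.ext h3
        rw [h4, ← hcdef, hcq (π ⟨h, hhH⟩), mul_assoc c, mul_inv_cancel, mul_one] at hcomm
        have h5 : (w * y * w⁻¹ * y⁻¹ * ⟨c₀, memH.2 rfl⟩ : H) ∈ O := by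
          apply (QuotientGroup.eq_one_iff _).1
          change π _ = 1
          rw [map_mul, hcomm, ← hcdef, hccq]
        have h6 := hSO _ (mul_mem hcommS hcS) h5
        have h7 := congrArg Subtype.val h6
        change (w : G) * y * (w : G)⁻¹ * (y : G)⁻¹ * c₀ = 1 at h7
        have h8 : c₀⁻¹ = c₀ := inv_eq_of_mul_eq_one_left hcc
        change (w : G) * y * (w : G)⁻¹ * (y : G)⁻¹ = c₀
        rw [← h8]
        exact eq_inv_of_mul_eq_one_left h7

/-- No 2-component in `C(c₀)`. -/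
theorem exists_coreH_of_pLayer {S : Sylow 2 G} {x c₀ : G} (hcS : c₀ ∈ S) (hcc : c₀ * c₀ = 1)
    (hcen : ∀ s ∈ S, c₀ * s = s * c₀)
    (hL : pLayer 2 ↥(centralizer ({c₀} : Set G)) = ⊥) (hx : x ∈ S)
    (hxS : ∀ s ∈ S, s * x * s⁻¹ * x⁻¹ = 1 ∨ s * x * s⁻¹ * x⁻¹ = c₀) :
    ∃ N R : Subgroup G, CoreH (S : Subgroup G) N R x c₀ :=
  exists_coreH hcS hcc hcen
    ((SignalizersComponents.PConstrained.isPConstrained_iff_pLayer_eq_bot 2).2 hL) hx hxS

end Cfsg.Agent.GH.L2One.CoreHOf
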