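import Cfsg.Agent.GH.L2One.Frame
import Cfsg.Agent.GH.L2Frame

/-!
# GH-L2: the facts of the frame for a simple group `L` and its automorphisms

`AutData L S d r c p1 p2`: the facts of `L2One.Frame`, stated for `L = K/O(K)` (simple, `L ≅ L₂(q)` or `A₇`), a Sylow
2-subgroup `S = ⟨r, c⟩` of `L` and homomorphisms `p1 : Aut(L) → {±1}`, `p2 : Aut(L) → A`.

`AutData.conj`, `AutData.map`: transport along inner automorphisms and isomorphisms.

`AutData.frame`: the frame `L2One.Frame` from `L2Frame.Frame (C x) K T` and `AutData (STop K)`.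
-/

set_option autoImplicit false

open Subgroup

namespace Cfsg.Agent.GH.L2One

/-- The facts of the frame for a group `L` and its automorphisms. -/
structure AutData {L A : Type*} [Group L] [Group A] (S : Subgroup L) (d : ℕ) (r c : L)
    (p1 : MulAut L →* ℤˣ) (p2 : MulAut L →* A) : Prop where
  inn1 : ∀ l, p1 (MulAut.conj l) = 1
  inn2 : ∀ l, p2 (MulAut.conj l) = 1
  ker : ∀ α, p1 α = 1 → p2 α = 1 → ∃ l, α = MulAut.conj l
  A_inv : ∀ a b : A, a * a = 1 → a ≠ 1 → b * b = 1 → b ≠ 1 → a = b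
  inv_conj : ∀ a b : L, a * a = 1 → a ≠ 1 → b * b = 1 → b ≠ 1 → ∃ k, k * a * k⁻¹ = b
  d_ge : 2 ≤ d
  r_mem : r ∈ S
  c_mem : c ∈ S
  cc : c * c = 1
  crc : c * r * c⁻¹ = r⁻¹
  or_eq : orderOf r = 2 ^ (d - 1)
  c_not : ∀ k : ℤ, c ≠ r ^ k
  S_form : ∀ g ∈ S, ∃ k : ℤ, g = r ^ k ∨ g = r ^ k * c
  swap : 3 ≤ d → ∀ α : MulAut L, (∀ s ∈ S, α s ∈ S) → ∀ k : ℤ, α c = r ^ k * c →
    (p1 α = 1 ↔ Even k)
  small : d = 2 → ∀ α : MulAut L, (∃ n : ℕ, α ^ 2 ^ n = 1) → (∀ s ∈ S, α s ∈ S) →
    p2 α = 1 ∧ (p1 α = 1 ↔ ∀ s ∈ S, α s = s)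
  sq : ∀ α : MulAut L, (∃ n : ℕ, α ^ 2 ^ n = 1) → (∀ s ∈ S, α s = s) → α * α = 1
  no_mixed : ∀ α : MulAut L, α * α = 1 → p1 α = 1 ∨ p2 α = 1
  field_cent : ∀ α : MulAut L, α * α = 1 → p2 α ≠ 1 → ∃ l, ∀ s ∈ S,
    (MulAut.conj l * α * (MulAut.conj l)⁻¹ : MulAut L) s = s
  field_conj : ∀ α : MulAut L, α * α = 1 → p2 α ≠ 1 → (∀ s ∈ S, α s = s) →
    ∃ e ∈ S, e ≠ 1 ∧ e * e = 1 ∧ ∃ l, MulAut.conj l * α * (MulAut.conj l)⁻¹ = MulAut.conj e * α
  field_o1 : ∀ α : MulAut L, α * α = 1 → p2 α ≠ 1 → ∀ β : MulAut L, β * α * β⁻¹ = α → p1 β = 1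

namespace AutData

section transport

variable {L A : Type*} [Group L] [Group A] {S : Subgroup L} {d : ℕ} {r c : L}
  {p1 : MulAut L →* ℤˣ} {p2 : MulAut L →* A}

/-- Transport along an isomorphism. -/
theorem map {L' : Type*} [Group L'] (F : AutData S d r c p1 p2) (e : L ≃* L') :
    AutData (S.map e.toMonoidHom) d (e r) (e c)
      (p1.comp (MulAut.congr e.symm).toMonoidHom) (p2.comp (MulAut.congr e.symm).toMonoidHom) := by
  have hcong : ∀ (α : MulAut L') (y : L), MulAut.congr e.symm α y = e.symm (α (e y)) :=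
    fun α y => rfl
  have hconj : ∀ l : L', MulAut.congr e.symm (MulAut.conj l) = MulAut.conj (e.symm l) := by
    intro l
    ext y
    rw [hcong]
    simp only [MulAut.conj_apply, map_mul, map_inv, MulEquiv.symm_apply_apply]
  have hinj : Function.Injective (MulAut.congr e.symm) := (MulAut.congr e.symm).injective
  have hmem : ∀ {y : L}, y ∈ S → e y ∈ S.map e.toMonoidHom := fun hy => ⟨_, hy, rfl⟩
  have hmem' : ∀ {y : L'}, y ∈ S.map e.toMonoidHom → e.symm y ∈ S := by
    rintro _ ⟨y, hy, rfl⟩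
    change e.symm (e y) ∈ S
    rw [MulEquiv.symm_apply_apply]; exact hy
  have hpow : ∀ {α : MulAut L'}, (∃ n : ℕ, α ^ 2 ^ n = 1) →
      ∃ n : ℕ, (MulAut.congr e.symm α) ^ 2 ^ n = 1 := by
    rintro α ⟨n, hn⟩
    exact ⟨n, by rw [← map_pow, hn, map_one]⟩
  have hsq : ∀ {α : MulAut L'}, α * α = 1 →
      (MulAut.congr e.symm α) * (MulAut.congr e.symm α) = 1 := by
    intro α h
    rw [← map_mul, h, map_one]
  have hstab : ∀ {α : MulAut L'}, (∀ s ∈ S.map e.toMonoidHom, α s ∈ S.map e.toMonoidHom) →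
      ∀ s ∈ S, MulAut.congr e.symm α s ∈ S := by
    intro α h s hs
    rw [hcong]
    exact hmem' (h _ (hmem hs))
  have hfix : ∀ {α : MulAut L'}, (∀ s ∈ S.map e.toMonoidHom, α s = s) ↔
      ∀ s ∈ S, MulAut.congr e.symm α s = s := by
    intro α
    constructor
    · intro h s hs
      rw [hcong, h _ (hmem hs), MulEquiv.symm_apply_apply]
    · rintro h _ ⟨s, hs, rfl⟩
      have h1 := h s hs
      rw [hcong] at h1
      have h2 := congrArg e h1
      rwa [MulEquiv.apply_symm_apply] at h2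
  exact
    { inn1 := fun l => by
        change p1 (MulAut.congr e.symm (MulAut.conj l)) = 1
        rw [hconj]; exact F.inn1 _
      inn2 := fun l => by
        change p2 (MulAut.congr e.symm (MulAut.conj l)) = 1
        rw [hconj]; exact F.inn2 _
      ker := by
        intro α h1 h2
        obtain ⟨l, hl⟩ := F.ker _ h1 h2
        refine ⟨e l, hinj ?_⟩
        rw [hconj, MulEquiv.symm_apply_apply]
        exact hl
      A_inv := F.A_inv
      inv_conj := by
        intro a b ha ha1 hb hb1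
        obtain ⟨k, hk⟩ := F.inv_conj (e.symm a) (e.symm b) (by rw [← map_mul, ha, map_one])
          (fun h => ha1 (e.symm.injective (by rw [h, map_one])))
          (by rw [← map_mul, hb, map_one])
          (fun h => hb1 (e.symm.injective (by rw [h, map_one])))
        refine ⟨e k, e.symm.injective ?_⟩
        rw [map_mul, map_mul, map_inv, MulEquiv.symm_apply_apply, hk]
      d_ge := F.d_ge
      r_mem := hmem F.r_mem
      c_mem := hmem F.c_mem
      cc := by rw [← map_mul, F.cc, map_one]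
      crc := by rw [← map_mul, ← map_inv, ← map_mul, F.crc, map_inv]
      or_eq := by rw [e.orderOf_eq]; exact F.or_eq
      c_not := by
        intro k h
        apply F.c_not k
        apply e.injective
        rw [h, map_zpow]
      S_form := by
        rintro _ ⟨g, hg, rfl⟩
        obtain ⟨k, hk | hk⟩ := F.S_form g hg
        · exact ⟨k, Or.inl (by rw [← map_zpow, ← hk]; rfl)⟩
        · exact ⟨k, Or.inr (by rw [← map_zpow, ← map_mul, ← hk]; rfl)⟩
      swap := by
        intro hd α h k hk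
        apply F.swap hd _ (hstab h) k
        rw [hcong, hk, map_mul, map_zpow, MulEquiv.symm_apply_apply, MulEquiv.symm_apply_apply]
      small := by
        intro hd α hα h
        obtain ⟨h1, h2⟩ := F.small hd _ (hpow hα) (hstab h)
        exact ⟨h1, h2.trans hfix.symm⟩
      sq := by
        intro α hα h
        apply hinj
        rw [map_mul, map_one]
        exact F.sq _ (hpow hα) (hfix.1 h)
      no_mixed := fun α h => F.no_mixed _ (hsq h)
      field_cent := by
        intro α h h1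
        obtain ⟨l, hl⟩ := F.field_cent _ (hsq h) h1
        refine ⟨e l, hfix.2 ?_⟩
        rw [map_mul, map_mul, map_inv, hconj, MulEquiv.symm_apply_apply]
        exact hl
      field_conj := by
        intro α h h1 h2
        obtain ⟨x, hx, hx1, hxx, l, hl⟩ := F.field_conj _ (hsq h) h1 (hfix.1 h2)
        refine ⟨e x, hmem hx, fun h3 => hx1 (e.injective (by rw [h3, map_one])),
          by rw [← map_mul, hxx, map_one], e l, hinj ?_⟩
        rw [map_mul, map_mul, map_mul, map_inv, hconj, hconj, MulEquiv.symm_apply_apply,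
          MulEquiv.symm_apply_apply]
        exact hl
      field_o1 := by
        intro α h h1 β hβ
        refine F.field_o1 _ (hsq h) h1 (MulAut.congr e.symm β) ?_
        rw [← map_mul, ← map_inv, ← map_mul, hβ] }

/-- Transport along an inner automorphism. -/
theorem conj (F : AutData S d r c p1 p2) (g : L) :
    AutData (S.map (MulAut.conj g).toMonoidHom) d (g * r * g⁻¹) (g * c * g⁻¹) p1 p2 := by
  have h := F.map (MulAut.conj g)
  have e1 : ∀ α : MulAut L, MulAut.congr (MulAut.conj g).symm α =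
      (MulAut.conj g)⁻¹ * α * MulAut.conj g := fun α => rfl
  have hp1 : p1.comp (MulAut.congr (MulAut.conj g).symm).toMonoidHom = p1 := by
    ext α
    change ((p1 (MulAut.congr (MulAut.conj g).symm α) : ℤˣ) : ℤ) = _
    rw [e1, map_mul, map_mul, map_inv, F.inn1, inv_one, one_mul, mul_one]
  have hp2 : p2.comp (MulAut.congr (MulAut.conj g).symm).toMonoidHom = p2 := by
    ext α
    change p2 (MulAut.congr (MulAut.conj g).symm α) = _
    rw [e1, map_mul, map_mul, map_inv, F.inn2, inv_one, one_mul, mul_one]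
  rw [hp1, hp2] at h
  exact h

/-- The data for one Sylow 2-subgroup give the data for every Sylow 2-subgroup. -/
theorem of_sylow [Finite L] {P : Sylow 2 L} (F : AutData (P : Subgroup L) d r c p1 p2)
    (P' : Sylow 2 L) : ∃ r' c' : L, AutData (P' : Subgroup L) d r' c' p1 p2 := by
  have : Fact (Nat.Prime 2) := ⟨Nat.prime_two⟩
  obtain ⟨g, hg⟩ := MulAction.exists_smul_eq L P P'
  refine ⟨g * r * g⁻¹, g * c * g⁻¹, ?_⟩
  have h1 : (P' : Subgroup L) = (P : Subgroup L).map (MulAut.conj g).toMonoidHom := by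
    rw [← hg]; rfl
  rw [h1]
  exact F.conj g

end transport

end AutData

/-- Two involutions with product of odd order are conjugate by a power of the product. -/
theorem exists_conj_of_odd {G : Type*} [Group G] {u v : G} (hu : u * u = 1) (hv : v * v = 1)
    (h : Odd (orderOf (u * v))) : ∃ t ∈ zpowers (u * v), t * v * t⁻¹ = u := by
  obtain ⟨m, hm⟩ := h
  obtain ⟨w, hw⟩ : ∃ w, w = u * v := ⟨_, rfl⟩
  rw [← hw] at hm ⊢
  have huw : u = w * v := by rw [hw, mul_assoc, hv, mul_one]
  have hvi : v⁻¹ = v := inv_eq_of_mul_eq_one_right hv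
  have hui : u⁻¹ = u := inv_eq_of_mul_eq_one_right hu
  have hvw : v * w * v⁻¹ = w⁻¹ := by
    rw [hvi, hw, mul_inv_rev, hvi, hui, ← mul_assoc, mul_assoc, hv, mul_one]
  have hvk : ∀ k : ℕ, v * w ^ k * v⁻¹ = (w ^ k)⁻¹ := by
    intro k
    rw [← conj_pow, hvw, inv_pow]
  refine ⟨w ^ (m + 1), pow_mem (mem_zpowers w) _, ?_⟩
  have h1 : w ^ (m + 1) * w ^ (m + 1) = w := by
    rw [← pow_add]
    have : m + 1 + (m + 1) = orderOf w + 1 := by omega
    rw [this, pow_add, pow_orderOf_eq_one, one_mul, pow_one]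
  have h2 : v * (w ^ (m + 1))⁻¹ = w ^ (m + 1) * v := by
    have h3 := hvk (m + 1)
    rw [mul_inv_eq_iff_eq_mul] at h3
    -- v w^k = w^{-k} v
    have h4 : w ^ (m + 1) * (v * w ^ (m + 1)) = v := by rw [h3, mul_inv_cancel_left]
    have h5 : w ^ (m + 1) * v = v * (w ^ (m + 1))⁻¹ := by
      rw [eq_mul_inv_iff_mul_eq, mul_assoc, h4]
    exact h5.symm
  rw [mul_assoc, h2, ← mul_assoc, h1, ← huw]

end Cfsg.Agent.GH.L2One
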