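import Cfsg.Agent.GH.L2AutOut
import Cfsg.Agent.GH.L2One.AutData

/-!
# `o1` and the two classes of reflections of a Sylow 2-subgroup

`L ≅ PSL(2,F)`, `S = ⟨r, c⟩` a Sylow 2-subgroup of `L`, dihedral of order `2^d` (`Dih`).
* `swap`: `3 ≤ d`, `α S = S`, `α c = r^k c`: `R.o1 α = 1 ↔ k` even;
* `small`: `d = 2`, `α` a 2-element with `α S = S`: `fld α = 1`, and `R.o1 α = 1` iff `α` is trivial on `S`.
-/

set_option autoImplicit false
set_option linter.style.haveILetI false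

open Subgroup

namespace Cfsg.Agent.GH.L2One.AutSwap

open Cfsg.Agent.GH.L2Aut

/-- `S = ⟨r, c⟩` dihedral of order `2^d` -/
structure Dih {L : Type*} [Group L] (S : Subgroup L) (d : ℕ) (r c : L) : Prop where
  d_ge : 2 ≤ d
  r_mem : r ∈ S
  c_mem : c ∈ S
  cc : c * c = 1
  crc : c * r * c⁻¹ = r⁻¹
  or_eq : orderOf r = 2 ^ (d - 1)
  c_not : ∀ k : ℤ, c ≠ r ^ k
  form : ∀ g ∈ S, ∃ k : ℤ, g = r ^ k ∨ g = r ^ k * c

namespace Dih

variable {L : Type*} [Group L] {S : Subgroup L} {d : ℕ} {r c : L}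

theorem c_inv (h : Dih S d r c) : c⁻¹ = c := inv_eq_of_mul_eq_one_right h.cc

theorem c_ne (h : Dih S d r c) : c ≠ 1 := by simpa using h.c_not 0

theorem crk (h : Dih S d r c) (k : ℤ) : c * r ^ k * c⁻¹ = r ^ (-k) := by
  rw [← conj_zpow, h.crc, inv_zpow, zpow_neg]

theorem c_rk (h : Dih S d r c) (k : ℤ) : c * r ^ k = r ^ (-k) * c := by
  rw [← h.crk k, inv_mul_cancel_right]

theorem rk_one (h : Dih S d r c) (k : ℤ) : r ^ k = 1 ↔ (2 : ℤ) ^ (d - 1) ∣ k := by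
  rw [← orderOf_dvd_iff_zpow_eq_one, h.or_eq]
  push_cast
  rfl

theorem refl_ne (h : Dih S d r c) (k l : ℤ) : r ^ k * c ≠ r ^ l := by
  intro h1
  apply h.c_not (-k + l)
  rw [zpow_add, ← h1, zpow_neg, inv_mul_cancel_left]

/-- the central involution -/
theorem z_ne (h : Dih S d r c) : r ^ (2 ^ (d - 2) : ℤ) ≠ 1 := by
  rw [Ne, h.rk_one]
  intro h1
  have h2 := Int.le_of_dvd (by positivity) h1
  have h3 : (2 : ℤ) ^ (d - 2) < 2 ^ (d - 1) :=
    pow_lt_pow_right₀ (by norm_num) (by have := h.d_ge; omega)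
  omega

theorem z_sq (h : Dih S d r c) : r ^ (2 ^ (d - 2) : ℤ) * r ^ (2 ^ (d - 2) : ℤ) = 1 := by
  rw [← zpow_add, h.rk_one]
  have : (2 : ℤ) ^ (d - 1) = 2 ^ (d - 2) + 2 ^ (d - 2) := by
    have h1 : d - 1 = d - 2 + 1 := by have := h.d_ge; omega
    rw [h1, pow_succ]; ring
  rw [this]

theorem z_comm (h : Dih S d r c) {g : L} (hg : g ∈ S) :
    r ^ (2 ^ (d - 2) : ℤ) * g = g * r ^ (2 ^ (d - 2) : ℤ) := by
  obtain ⟨k, rfl | rfl⟩ := h.form g hg
  · rw [← zpow_add, ← zpow_add, add_comm]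
  · have h1 : r ^ (-(2 ^ (d - 2)) : ℤ) = r ^ (2 ^ (d - 2) : ℤ) := by
      rw [zpow_neg]
      exact inv_eq_of_mul_eq_one_right h.z_sq
    rw [mul_assoc (r ^ k), h.c_rk, h1, ← mul_assoc, ← mul_assoc, ← zpow_add, ← zpow_add, add_comm]

theorem z_mem (h : Dih S d r c) : r ^ (2 ^ (d - 2) : ℤ) ∈ S := S.zpow_mem h.r_mem _

/-- a central involution of `S` is `z` (if `d ≥ 3`) -/
theorem eq_z (h : Dih S d r c) (hd : 3 ≤ d) {g : L} (hg : g ∈ S) (h1 : g ≠ 1)
    (hr : g * r = r * g) (hc : g * c = c * g) : g = r ^ (2 ^ (d - 2) : ℤ) := by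
  obtain ⟨k, rfl | rfl⟩ := h.form g hg
  · rw [h.c_rk] at hc
    have h2 : r ^ k = r ^ (-k) := mul_right_cancel hc
    have h3 : r ^ (2 * k) = 1 := by rw [two_mul, zpow_add]; nth_rw 2 [h2]; rw [zpow_neg, mul_inv_cancel]
    rw [h.rk_one] at h3
    have h4 : (2 : ℤ) ^ (d - 1) = 2 * 2 ^ (d - 2) := by
      have h5 : d - 1 = d - 2 + 1 := by omega
      rw [h5, pow_succ]; ring
    rw [h4] at h3
    obtain ⟨m, hm⟩ := Int.dvd_of_mul_dvd_mul_left two_ne_zero h3
    rcases Int.even_or_odd m with ⟨n, hn⟩ | ⟨n, hn⟩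
    · exfalso
      apply h1
      rw [h.rk_one, h4, hm, hn]
      exact ⟨n, by ring⟩
    · have h6 : k = 2 ^ (d - 2) + 2 ^ (d - 1) * n := by rw [hm, hn, h4]; ring
      have h7 : r ^ (2 ^ (d - 1) * n : ℤ) = 1 := by rw [h.rk_one]; exact Dvd.intro n rfl
      rw [h6, zpow_add, h7, mul_one]
  · exfalso
    have h2 : c * r = r⁻¹ * c := by simpa using h.c_rk 1
    have h3 : r ^ k * (r⁻¹ * c) = r ^ k * (r * c) := by
      rw [← h2, ← mul_assoc, hr, ← mul_assoc, ← mul_assoc, ← zpow_one_add, ← zpow_add_one, add_comm]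
    have h4 := mul_right_cancel (mul_left_cancel h3)
    have h5 : r ^ (2 : ℤ) = 1 := by
      rw [zpow_two]
      nth_rw 1 [← h4]
      rw [inv_mul_cancel]
    rw [h.rk_one] at h5
    have h6 := Int.le_of_dvd (by norm_num) h5
    have h7 : (2 : ℤ) ^ 2 ≤ 2 ^ (d - 1) := pow_le_pow_right₀ (by norm_num) (by omega)
    omega

/-- two reflections differ by an even power of `r` iff they are conjugate by a power of `r` -/
theorem conj_refl (h : Dih S d r c) (m : ℤ) : r ^ m * c * (r ^ m)⁻¹ = r ^ (m + m) * c := by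
  rw [← zpow_neg, mul_assoc, h.c_rk, neg_neg, ← mul_assoc, ← zpow_add]

theorem mem_iff {A : Type*} [Group A] [Finite A] {S : Subgroup A} {α : MulAut A}
    (hα : ∀ g ∈ S, α g ∈ S) (g : A) : α g ∈ S ↔ g ∈ S := by
  have h1 : S.map α.toMonoidHom = S := by
    apply Subgroup.eq_of_le_of_card_ge
    · rintro _ ⟨y, hy, rfl⟩
      exact hα y hy
    · rw [Subgroup.card_map_of_injective (f := α.toMonoidHom) α.injective]
  constructor
  · intro hg
    rw [← h1] at hg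
    obtain ⟨y, hy, hyg⟩ := hg
    rwa [← α.injective hyg]
  · exact hα g

theorem aut_z [Finite L] (h : Dih S d r c) (hd : 3 ≤ d) {α : MulAut L} (hα : ∀ g ∈ S, α g ∈ S) :
    α (r ^ (2 ^ (d - 2) : ℤ)) = r ^ (2 ^ (d - 2) : ℤ) := by
  have key : ∀ g ∈ S, α (r ^ (2 ^ (d - 2) : ℤ)) * g = g * α (r ^ (2 ^ (d - 2) : ℤ)) := by
    intro g hg
    have h1 : α (α⁻¹ g) = g := MulAut.apply_inv_self L α g
    have h2 : α⁻¹ g ∈ S := (mem_iff hα _).1 (by rw [h1]; exact hg)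
    rw [← h1, ← map_mul, ← map_mul, h.z_comm h2]
  apply h.eq_z hd (hα _ h.z_mem)
  · intro h1
    apply h.z_ne
    exact α.injective (by rw [h1, map_one])
  · exact key r h.r_mem
  · exact key c h.c_mem

theorem four (h : Dih S d r c) : Four (r ^ (2 ^ (d - 2) : ℤ)) c where
  aa := h.z_sq
  bb := h.cc
  a1 := h.z_ne
  b1 := h.c_ne
  ne := fun h1 => h.c_not _ h1.symm
  comm := h.z_comm h.c_mem

end Dih

variable {F : Type*} [Field F] [Finite F] {L : Type*} [Group L] (R : L2Aut.Rep F L)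
  {S : Subgroup L} {d : ℕ} {r c : L}

/-- An automorphism fixing two distinct commuting involutions is in the kernel of `o1`. -/
theorem o1_of_fix {a b : L} (h : Four a b) {α : MulAut L} (ha : α a = a) (hb : α b = b) :
    R.o1 α = 1 := by
  obtain ⟨Φ, y, δ, -, -, -, -, -, -, -, -, -, -, -, -, -, h1, g, hg⟩ := R.exists_frame h
  obtain ⟨u, -, hu⟩ := h1 α ha hb
  rw [hu, map_mul, R.o1_conj, one_mul, hg, R.o1_conj_eq, R.o1_fa]

include R in
theorem exists_nonsquare : ∃ c : F, c ≠ 0 ∧ ¬ IsSquare c := by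
  letI := Fintype.ofFinite F
  have h2 : ringChar F ≠ 2 := by
    intro h
    have : CharP F 2 := by rw [← h]; infer_instance
    exact R.two (CharP.cast_eq_zero F 2)
  obtain ⟨c, hc⟩ := FiniteField.exists_nonsquare h2
  exact ⟨c, fun h0 => hc (h0 ▸ IsSquare.zero), hc⟩

theorem exists_o1_neg : ∃ γ : MulAut L, R.fld γ = 1 ∧ R.o1 γ = -1 := by
  obtain ⟨c, hc0, hc⟩ := exists_nonsquare R
  have hd : (!![c, 0; 0, 1] : Matrix (Fin 2) (Fin 2) F).det = c := by
    rw [Matrix.det_fin_two_of]; ring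
  refine ⟨R.gl (toGL' !![c, 0; 0, 1] (by rw [hd]; exact hc0)), R.fld_gl _, ?_⟩
  rcases Int.units_eq_one_or (R.o1 (R.gl (toGL' !![c, 0; 0, 1] (by rw [hd]; exact hc0)))) with h | h
  · rw [R.o1_gl_eq_one_iff, toGL'_val, hd] at h
    exact absurd h hc
  · exact h

theorem o1_of_even [Finite L] (h : Dih S d r c) (hd : 3 ≤ d) {α : MulAut L} (hα : ∀ g ∈ S, α g ∈ S)
    {k : ℤ} (hk : α c = r ^ k * c) (hev : Even k) : R.o1 α = 1 := by
  obtain ⟨m, hm⟩ := hev
  have h1 : R.o1 (MulAut.conj ((r ^ m)⁻¹) * α) = 1 := by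
    apply o1_of_fix R h.four
    · rw [MulAut.mul_apply, h.aut_z hd hα, MulAut.conj_apply, inv_inv]
      have := h.z_comm (S.zpow_mem h.r_mem m)
      rw [mul_assoc, this, inv_mul_cancel_left]
    · rw [MulAut.mul_apply, hk, hm, ← h.conj_refl, MulAut.conj_apply]
      group
  rw [map_mul, R.o1_conj, one_mul] at h1
  exact h1

/-- the order of the image of `r` -/
theorem exists_odd [Finite L] (h : Dih S d r c) (hd : 3 ≤ d) {α : MulAut L} (hα : ∀ g ∈ S, α g ∈ S) :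
    ∃ i : ℤ, Odd i ∧ α r = r ^ i := by
  obtain ⟨i, hi | hi⟩ := h.form _ (hα r h.r_mem)
  · refine ⟨i, ?_, hi⟩
    by_contra hodd
    rw [Int.not_odd_iff_even] at hodd
    obtain ⟨m, hm⟩ := hodd
    have h1 : α (r ^ (2 ^ (d - 2) : ℤ)) = 1 := by
      rw [map_zpow, hi, ← zpow_mul, h.rk_one, hm]
      have h2 : (2 : ℤ) ^ (d - 1) = 2 * 2 ^ (d - 2) := by
        have h5 : d - 1 = d - 2 + 1 := by omega
        rw [h5, pow_succ]; ring
      rw [h2]
      exact ⟨m, by ring⟩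
    exact h.z_ne (α.injective (by rw [h1, map_one]))
  · exfalso
    have h1 : α (r ^ (2 : ℤ)) = 1 := by
      rw [map_zpow, hi, zpow_two]
      calc r ^ i * c * (r ^ i * c) = r ^ i * (c * r ^ i * c⁻¹) * (c * c) := by
            rw [h.c_inv]; simp only [mul_assoc]
            rw [← mul_assoc c c, h.cc, one_mul]
        _ = 1 := by rw [h.crk, h.cc, mul_one, ← zpow_add, add_neg_cancel, zpow_zero]
    have h5 : r ^ (2 : ℤ) = 1 := α.injective (by rw [h1, map_one])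
    rw [h.rk_one] at h5
    have h6 := Int.le_of_dvd (by norm_num) h5
    have h7 : (2 : ℤ) ^ 2 ≤ 2 ^ (d - 1) := pow_le_pow_right₀ (by norm_num) (by omega)
    omega

/-- the image of `c` -/
theorem exists_refl [Finite L] (h : Dih S d r c) (hd : 3 ≤ d) {α : MulAut L} (hα : ∀ g ∈ S, α g ∈ S) :
    ∃ k : ℤ, α c = r ^ k * c := by
  obtain ⟨k, hk | hk⟩ := h.form _ (hα c h.c_mem)
  · exfalso
    obtain ⟨i, -, hi⟩ := exists_odd h hd hα
    have h1 : α c * α r = α r * α c := by rw [hk, hi, ← zpow_add, ← zpow_add, add_comm]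
    rw [← map_mul, ← map_mul] at h1
    have h2 := α.injective h1
    have h3 : c * r * c⁻¹ = r := by rw [h2, mul_inv_cancel_right]
    rw [h.crc] at h3
    have h5 : r ^ (2 : ℤ) = 1 := by
      rw [zpow_two]
      nth_rw 1 [← h3]
      rw [inv_mul_cancel]
    rw [h.rk_one] at h5
    have h6 := Int.le_of_dvd (by norm_num) h5
    have h7 : (2 : ℤ) ^ 2 ≤ 2 ^ (d - 1) := pow_le_pow_right₀ (by norm_num) (by omega)
    omega
  · exact ⟨k, hk⟩

/-- an automorphism with `dg = -1` normalising `S` -/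
theorem exists_o1_neg_norm [Finite L] (P : Sylow 2 L) :
    ∃ γ : MulAut L, R.o1 γ = -1 ∧ R.fld γ = 1 ∧ ∀ g ∈ (P : Subgroup L), γ g ∈ (P : Subgroup L) := by
  obtain ⟨γ, hf, hγ⟩ := exists_o1_neg R
  let P' : Sylow 2 L := P.mapSurjective (f := γ.toMonoidHom) γ.surjective
  have : Fact (Nat.Prime 2) := ⟨Nat.prime_two⟩
  obtain ⟨l, hl⟩ := MulAction.exists_smul_eq L P' P
  refine ⟨MulAut.conj l * γ, ?_, ?_, ?_⟩
  · rw [map_mul, R.o1_conj, one_mul, hγ]
  · rw [map_mul, hf, mul_one]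
    exact R.mem_PGL_iff_fld.1 (R.conj_mem_PGL l)
  · intro g hg
    rw [← hl]
    have h1 : γ g ∈ (P' : Subgroup L) := ⟨g, hg, rfl⟩
    change _ ∈ ((l • P' : Sylow 2 L) : Subgroup L)
    rw [Sylow.coe_subgroup_smul]
    exact ⟨γ g, h1, rfl⟩

/-- **swap** -/
theorem swap [Finite L] (P : Sylow 2 L) (h : Dih (P : Subgroup L) d r c) (hd : 3 ≤ d) {α : MulAut L}
    (hα : ∀ g ∈ (P : Subgroup L), α g ∈ (P : Subgroup L)) {k : ℤ} (hk : α c = r ^ k * c) :
    R.o1 α = 1 ↔ Even k := by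
  refine ⟨fun h1 => ?_, fun h1 => o1_of_even R h hd hα hk h1⟩
  by_contra hodd
  rw [Int.not_even_iff_odd] at hodd
  obtain ⟨γ, hγ, -, hγP⟩ := exists_o1_neg_norm R P
  obtain ⟨j, hj⟩ := exists_refl h hd hγP
  obtain ⟨i, hi, hir⟩ := exists_odd h hd hγP
  have hne : ¬ Even j := by
    intro hev
    rw [o1_of_even R h hd hγP hj hev] at hγ
    exact absurd hγ (by decide)
  rw [Int.not_even_iff_odd] at hne
  have h2 : R.o1 (γ * α) = 1 := by
    apply o1_of_even R h hd (α := γ * α) (k := i * k + j)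
    · intro g hg
      exact hγP _ (hα g hg)
    · rw [MulAut.mul_apply, hk, map_mul, map_zpow, hir, hj, ← zpow_mul, ← mul_assoc, ← zpow_add]
    · exact (hi.mul hodd).add_odd hne
  rw [map_mul, h1, mul_one, hγ] at h2
  exact absurd h2 (by decide)

end Cfsg.Agent.GH.L2One.AutSwap
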