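import Cfsg.Agent.GH.L2One.HasData
import Cfsg.Agent.GH.XSet

/-!
# GH-L2: facts for `|D| = 4`

* `AutData.card_S : |S| = 2^d`;
* `card_D_eq` : `|T ⊓ K|` is the 2-part of `|K / O(K)|`;
* `fixes_of_small` : `|T ⊓ K| = 4`: an element of `T` centralizing `T ⊓ K` is in `(T ⊓ fix K) (T ⊓ K)`;
* `small_facts` : the form used in `L2T2End.t2_small`.
-/

set_option autoImplicit false

open Cfsg Subgroup
open Cfsg.Agent.SignalizersComponents
open Cfsg.Agent.Intrinsic.Basic Cfsg.Agent.GH.Defs Cfsg.Agent.GH.Comp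
open Cfsg.Agent.Walter.SylowIn Cfsg.Agent.GH.L2Frame

namespace Cfsg.Agent.GH.L2One

theorem AutData.card_S {L A : Type*} [Group L] [Group A] {S : Subgroup L} {d : ℕ} {r c : L}
    {p1 : MulAut L →* ℤˣ} {p2 : MulAut L →* A} (F : AutData S d r c p1 p2) :
    Nat.card S = 2 ^ d := by
  have hle : zpowers r ≤ S := zpowers_le.2 F.r_mem
  have h1 : (zpowers r).relIndex S = 2 := by
    rw [relIndex_eq_two_iff]
    refine ⟨c, F.c_mem, fun b hb => ?_⟩
    obtain ⟨k, rfl | rfl⟩ := F.S_form b hb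
    · refine Or.inr ⟨zpow_mem (mem_zpowers r) k, fun h2 => ?_⟩
      obtain ⟨j, hj⟩ := mem_zpowers_iff.1 h2
      apply F.c_not (-k + j)
      rw [zpow_add, hj, zpow_neg, inv_mul_cancel_left]
    · refine Or.inl ⟨?_, fun h2 => ?_⟩
      · rw [mul_assoc, F.cc, mul_one]
        exact zpow_mem (mem_zpowers r) k
      · obtain ⟨j, hj⟩ := mem_zpowers_iff.1 h2
        apply F.c_not (-k + j)
        rw [zpow_add, hj, zpow_neg, inv_mul_cancel_left]
  have h2 := relIndex_mul_relIndex (⊥ : Subgroup L) (zpowers r) S bot_le hle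
  rw [relIndex_bot_left, relIndex_bot_left, h1, Nat.card_zpowers, F.or_eq] at h2
  rw [← h2, ← pow_succ]
  congr 1
  have := F.d_ge
  omega

variable {G : Type*} [Group G] [Finite G]

theorem card_D {H K T : Subgroup G} (F : L2Frame.Frame H K T) :
    Nat.card ↥(T ⊓ K) = Nat.card F.dTop.range :=
  Nat.card_congr (Equiv.ofInjective _ F.dTop_injective)

/-- `|T ⊓ K| · odd = |K / O(K)|`. -/
theorem card_D_eq {H K T : Subgroup G} (F : L2Frame.Frame H K T) :
    ∃ m : ℕ, Odd m ∧ Nat.card (Bar K) = Nat.card ↥(T ⊓ K) * m := by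
  have : Fact (Nat.Prime 2) := ⟨Nat.prime_two⟩
  obtain ⟨S, hS⟩ := F.exists_sylow
  have h1 : Odd (S : Subgroup (STop K)).index := by
    rw [← Nat.not_even_iff_odd, even_iff_two_dvd]
    exact S.not_dvd_index
  have h2 : Odd (Nat.card (center (Bar K))) := L2FourOC.center_card_odd F.odd
  have h3 : Nat.card (Bar K) = Nat.card (STop K) * Nat.card (center (Bar K)) :=
    Subgroup.card_eq_card_quotient_mul_card_subgroup _
  refine ⟨(S : Subgroup (STop K)).index * Nat.card (center (Bar K)), h1.mul h2, ?_⟩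
  rw [h3, ← Subgroup.card_mul_index (S : Subgroup (STop K)), card_D F, hS, mul_assoc]

/-- If `|T ⊓ K| = 4`, then `C_T(T ⊓ K) = (T ⊓ fix K) (T ⊓ K)`. -/
theorem fixes_of_small {H K T : Subgroup G} (F : L2Frame.Frame H K T) (h : HasData (STop K))
    (h4 : Nat.card ↥(T ⊓ K) = 4) {g : G} (hg : g ∈ T) (hc : ∀ d ∈ T ⊓ K, g * d = d * g) :
    ∃ d ∈ T ⊓ K, Fixes (g * d) K := by
  obtain ⟨S, hS⟩ := F.exists_sylow
  obtain ⟨A, _, d, r, c, p1, p2, E⟩ := h S
  have hd : d = 2 := by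
    have h1 := E.card_S
    rw [hS, ← card_D F, h4] at h1
    have h2 : 2 ^ 2 = 2 ^ d := h1
    exact (Nat.pow_right_injective (le_refl 2) h2).symm
  subst hd
  rw [hS] at E
  have hpow : ∃ n : ℕ, F.rho ⟨g, hg⟩ ^ 2 ^ n = 1 := by
    obtain ⟨n, hn⟩ := F.exists_pow hg
    refine ⟨n, ?_⟩
    rw [← map_pow]
    have h1 : (⟨g, hg⟩ : T) ^ 2 ^ n = 1 := Subtype.ext hn
    rw [h1, map_one]
  have hfix : ∀ s ∈ F.dTop.range, F.rho ⟨g, hg⟩ s = s := by
    rintro _ ⟨e, rfl⟩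
    exact (F.comm_iff ⟨g, hg⟩ e).1 (hc e e.2)
  obtain ⟨h1, h2⟩ := E.small rfl _ hpow (fun s hs => by rw [hfix s hs]; exact hs)
  obtain ⟨l, hl⟩ := E.ker _ (h2.2 hfix) h1
  obtain ⟨y, hy, a, h3, -⟩ := F.exists_mul hl
  refine ⟨a⁻¹, inv_mem a.2, ?_⟩
  have h4 : g * (a : G)⁻¹ = y := by
    have h5 : g = y * (a : G) := h3
    rw [h5, mul_inv_cancel_right]
  rw [h4]
  exact mem_fix.1 hy.2

open Cfsg.Agent.GH.XSet in
/-- The hypothesis `hk` of `L2T2End.t2_small`. -/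
theorem small_facts {X : Set G} {N : ℕ} (h : XSet.XSet X N) (hodd : ∀ y ∈ X, ¬ EvenCenter (KK y))
    (hd : ∀ y ∈ X, HasData (STop (KK y))) (h4 : 4 ∣ N) (h8 : ¬ 8 ∣ N) :
    ∀ y ∈ X, ∀ T : Subgroup G, SylIn 2 T (centralizer ({y} : Set G)) →
      Nat.card (T ⊓ KK y : Subgroup G) = 4 ∧
      ∀ g ∈ T, (∀ d ∈ T ⊓ KK y, g * d = d * g) → ∃ d ∈ T ⊓ KK y, Fixes (g * d) (KK y) := by
  intro y hy T hT
  have F : L2Frame.Frame (centralizer ({y} : Set G)) (KK y) T :=
    { comp := h.comp y hy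
      odd := hodd y hy
      norm := fun t ht => h.mem_normalizer hy (mem_centralizer_singleton_iff.1 (hT.le ht))
      syl := hT }
  have h1 : Nat.card ↥(T ⊓ KK y) = 4 := by
    obtain ⟨m, hm, hm'⟩ := card_D_eq F
    rw [h.card y hy] at hm'
    obtain ⟨k, hk⟩ := (F.two.to_le (inf_le_left (b := KK y))).exists_card_eq
    rw [hk] at hm' ⊢
    have hk2 : 2 ≤ k := by
      by_contra hlt
      obtain ⟨i, hi⟩ := hm
      have : k = 0 ∨ k = 1 := by omega
      rcases this with rfl | rfl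
      · rw [hm', hi] at h4
        omega
      · rw [hm', hi] at h4
        omega
    have hk3 : k ≤ 2 := by
      by_contra hlt
      apply h8
      rw [hm']
      exact (pow_dvd_pow 2 (by omega : 3 ≤ k)).trans (dvd_mul_right _ _)
    have : k = 2 := le_antisymm hk3 hk2
    rw [this]
    norm_num
  exact ⟨h1, fun g hg hc => fixes_of_small F (hd y hy) h1 hg hc⟩

end Cfsg.Agent.GH.L2One
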