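import Cfsg.Agent.GH.L2One.AutConj
import Cfsg.Agent.GH.L2AutField

/-!
# `AutData` for `PSL(2,F)`: the final statement
-/

set_option autoImplicit false

open Subgroup

namespace Cfsg.Agent.GH.L2One.AutPslMain

open Cfsg.Agent.GH.L2Aut

/-- **`AutData` for `PSL(2,F)`**, `F` a finite field of odd order. -/
theorem autData {F : Type*} [Field F] [Finite F] {L : Type*} [Group L] (R : L2Aut.Rep F L)
    (P : Sylow 2 L) : ∃ d r c, AutData (P : Subgroup L) d r c R.o1 R.fld := by
  have hfin : Finite L := R.finite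
  obtain ⟨d, r, c, h⟩ := AutPsl.exists_dih R P
  refine ⟨d, r, c, AutPsl.autData_of R P h ?_ ?_ ?_⟩
  · intro α hα hP
    exact L2AutField.sq_eq_one R hα P hP
  · intro α hα hσ
    exact L2AutField.exists_fix_sylow R hα hσ P
  · intro α hα hσ hP
    exact AutConj.field_conj R P hα hσ hP

end Cfsg.Agent.GH.L2One.AutPslMain
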