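import Cfsg.Agent.GH.L2One.AutPsl
import Cfsg.Agent.GH.L2AutFix

/-!
# `field_conj` for `PSL(2,F)`

`α ∈ Aut(L)` an involution, not in `PGL`, trivial on the Sylow 2-subgroup `P`: `conj e * α` is conjugate to `α` under
`L` for some involution `e ∈ P`.
-/

set_option autoImplicit false

open Subgroup

namespace Cfsg.Agent.GH.L2One.AutConj

open Cfsg.Agent.GH.L2Aut

variable {F : Type*} [Field F] [Finite F] {L : Type*} [Group L] (R : L2Aut.Rep F L)

include R in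
theorem exists_twist {α : MulAut L} (h : α * α = 1) (hσ : R.fld α ≠ 1) : ∃ d, Twist α d := by
  have hσ2 : R.fld α * R.fld α = 1 := by rw [← map_mul, h, map_one]
  have hord : orderOf (R.fld α) = 2 := orderOf_eq_prime (by rw [sq, hσ2]) hσ
  obtain ⟨g, hg⟩ := R.exists_field α (by rw [hord, sq, h])
  obtain ⟨d, hd⟩ := R.exists_twist hσ2 hσ
  rw [hg]
  exact ⟨_, hd.conj (R.gl g)⟩

include R in
theorem field_conj (P : Sylow 2 L) {α : MulAut L} (h : α * α = 1) (hσ : R.fld α ≠ 1)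
    (hP : ∀ s ∈ (P : Subgroup L), α s = s) :
    ∃ e ∈ (P : Subgroup L), e ≠ 1 ∧ e * e = 1 ∧ ∃ l,
      MulAut.conj l * α * (MulAut.conj l)⁻¹ = MulAut.conj e * α := by
  have hfin : Finite L := R.finite
  have : Fact (Nat.Prime 2) := ⟨Nat.prime_two⟩
  obtain ⟨d, hd⟩ := exists_twist R h hσ
  have hle : (P : Subgroup L) ≤ fixSub α := fun s hs => hP s hs
  let P' : Sylow 2 (fixSub α) := P.subtype hle
  have hd2 : IsPGroup 2 (zpowers (⟨d, hd.2.2.1⟩ : fixSub α)) :=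
    isPGroup_zpowers ⟨1, by
      rw [pow_one, sq]
      exact Subtype.ext hd.1⟩
  obtain ⟨Q, hQ⟩ := hd2.exists_le_sylow
  obtain ⟨c, hc⟩ := MulAction.exists_smul_eq (fixSub α) Q P'
  have h1 : c * ⟨d, hd.2.2.1⟩ * c⁻¹ ∈ P' := conj_mem_syl hc (hQ (mem_zpowers _))
  have h2 : (c : L) * d * (c : L)⁻¹ ∈ (P : Subgroup L) := h1
  have hcα : α (c : L) = c := c.2
  have hcc : MulAut.conj (c : L) * α * (MulAut.conj (c : L))⁻¹ = α := by
    rw [mul_inv_eq_iff_eq_mul]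
    ext y
    simp only [MulAut.mul_apply, MulAut.conj_apply, map_mul, map_inv, hcα]
  have h3 := hd.conj (MulAut.conj (c : L))
  rw [hcc, MulAut.conj_apply] at h3
  obtain ⟨h4, h5, -, l, hl⟩ := h3
  refine ⟨_, h2, h5, h4, l⁻¹, ?_⟩
  rw [map_inv, inv_inv]
  nth_rw 1 [← hl]
  group

end Cfsg.Agent.GH.L2One.AutConj
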