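import Cfsg.Agent.GH.L2One.AutSwap
import Cfsg.Agent.GH.L2AutSyl
import Cfsg.Agent.LieRecognition.FieldSemilinear

/-!
# `AutData` for `PSL(2,F)`

`autData (R : Rep F L) (P : Sylow 2 L) : ∃ d r c, AutData P d r c R.o1 R.fld`.
-/

set_option autoImplicit false
set_option linter.style.haveILetI false

open Subgroup

namespace Cfsg.Agent.GH.L2One.AutPsl

open Cfsg.Agent.GH.L2Aut Cfsg.Agent.GH.L2One.AutSwap

/-- at most one involution in `Aut F` -/
theorem aut_inv {F : Type*} [Field F] [Finite F] {a b : F ≃+* F} (ha : a * a = 1) (ha1 : a ≠ 1)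
    (hb : b * b = 1) (hb1 : b ≠ 1) : a = b := by
  classical
  have hc : IsCyclic (F ≃+* F) := LieRecognition.FieldSemilinear.isCyclic_ringAut F
  have : Finite (F ≃+* F) :=
    Finite.of_injective (fun σ : F ≃+* F => (σ : F → F)) DFunLike.coe_injective
  have : Fintype (F ≃+* F) := Fintype.ofFinite _
  by_contra hne
  have h1 := IsCyclic.card_pow_eq_one_le (α := F ≃+* F) (n := 2) (by norm_num)
  have h2 : ({1, a, b} : Finset (F ≃+* F)) ⊆ Finset.univ.filter (fun x => x ^ 2 = 1) := by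
    intro x hx
    rw [Finset.mem_filter]
    refine ⟨Finset.mem_univ _, ?_⟩
    rw [Finset.mem_insert, Finset.mem_insert, Finset.mem_singleton] at hx
    rcases hx with rfl | rfl | rfl
    · exact one_pow 2
    · rw [sq, ha]
    · rw [sq, hb]
  have h3 := Finset.card_le_card h2
  rw [Finset.card_insert_of_notMem (by simp [Ne.symm ha1, Ne.symm hb1]),
    Finset.card_insert_of_notMem (by simpa using hne), Finset.card_singleton] at h3
  omega

section

variable {F : Type*} [Field F] [Finite F] {L : Type*} [Group L] (R : L2Aut.Rep F L)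

include R in
theorem exists_dih (P : Sylow 2 L) : ∃ d r c, AutSwap.Dih (P : Subgroup L) d r c := by
  have hfin : Finite L := R.finite
  obtain ⟨e, c, h⟩ := R.exists_dih P
  obtain ⟨n, hn, -, -⟩ := h.exists_z P.2
  refine ⟨n + 2, e, c, by omega, h.d_mem, h.r_mem, h.rr, h.rd, ?_, ?_, ?_⟩
  · rw [hn]; rfl
  · intro k hk
    exact h.r_not (hk ▸ zpow_mem (mem_zpowers e) k)
  · intro g hg
    rcases h.cov g hg with h1 | ⟨k, hk⟩
    · obtain ⟨k, rfl⟩ := mem_zpowers_iff.1 h1
      exact ⟨k, Or.inl rfl⟩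
    · exact ⟨k, Or.inr hk⟩

theorem sq_of_small {L : Type*} [Group L] {P : Subgroup L} {r c : L} (h : AutSwap.Dih P 2 r c)
    {g : L} (hg : g ∈ P) : g * g = 1 := by
  obtain ⟨k, rfl | rfl⟩ := h.form g hg
  · rw [← zpow_add, h.rk_one]
    exact ⟨k, by ring⟩
  · calc r ^ k * c * (r ^ k * c) = r ^ k * (c * r ^ k) * c := by simp only [mul_assoc]
      _ = r ^ k * r ^ (-k) * (c * c) := by rw [h.c_rk]; simp only [mul_assoc]
      _ = 1 := by rw [h.cc, mul_one, ← zpow_add, add_neg_cancel, zpow_zero]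

theorem comm_of_small {L : Type*} [Group L] {P : Subgroup L} {r c : L} (h : AutSwap.Dih P 2 r c) {g k : L}
    (hg : g ∈ P) (hk : k ∈ P) : g * k = k * g := by
  have h1 := inv_eq_of_mul_eq_one_right (sq_of_small h hg)
  have h2 := inv_eq_of_mul_eq_one_right (sq_of_small h hk)
  have h3 := inv_eq_of_mul_eq_one_right (sq_of_small h (mul_mem hg hk))
  rw [← h3, mul_inv_rev, h1, h2]

theorem four_of_small {L : Type*} [Group L] {P : Subgroup L} {r c : L} (h : AutSwap.Dih P 2 r c) :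
    Four r c := by
  have := h.four
  simpa using this

include R in
theorem not_isSquare_two (P : Sylow 2 L) {r c : L} (h : AutSwap.Dih (P : Subgroup L) 2 r c) :
    ¬ IsSquare (2 : F) := by
  intro h2
  have hfin : Finite L := R.finite
  have hf := four_of_small h
  obtain ⟨-, -, δ, -, -, -, -, -, -, -, -, hδ, h1, h3, -, h4, -⟩ := R.exists_frame hf
  obtain ⟨l, rfl⟩ := h4.2 h2
  rw [MulAut.conj_apply] at h1 h3
  have hl2 : MulAut.conj (l * l) ∈ R.PGL := R.conj_mem_PGL _
  have hr : MulAut.conj (l * l) r = r := by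
    rw [MulAut.conj_apply]
    calc l * l * r * (l * l)⁻¹ = l * (l * r * l⁻¹) * l⁻¹ := by group
      _ = r := by rw [h1, h3]
  have hc : MulAut.conj (l * l) c = c := by
    rw [MulAut.conj_apply]
    calc l * l * c * (l * l)⁻¹ = l * (l * c * l⁻¹) * l⁻¹ := by group
      _ = c := by rw [h3, h1]
  have hmem : l * l ∈ (P : Subgroup L) := by
    rcases R.fix_four hf hl2 hr hc with h5 | h5 | h5 | h5
    · have h6 : l * l = 1 := R.conj_injective (by rw [h5, map_one])
      rw [h6]; exact one_mem _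
    · rw [R.conj_injective h5]; exact h.r_mem
    · rw [R.conj_injective h5]; exact h.c_mem
    · rw [R.conj_injective h5]; exact mul_mem h.r_mem h.c_mem
  have hl4 : l ^ 2 ^ 2 = 1 := by
    have h7 := sq_of_small h hmem
    rw [show (2 : ℕ) ^ 2 = 2 + 2 from rfl, pow_add, pow_two, h7]
  have hrn : ∀ k : ℤ, l * r ^ k * l⁻¹ = c ^ k := fun k => by rw [← conj_zpow, h1]
  have hlP : l ∈ P := by
    apply mem_syl_of_norm P ⟨2, hl4⟩
    intro s hs
    obtain ⟨k, rfl | rfl⟩ := h.form s hs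
    · rw [hrn]
      exact zpow_mem h.c_mem k
    · have h5 : l * (r ^ k * c) * l⁻¹ = (l * r ^ k * l⁻¹) * (l * c * l⁻¹) := by group
      rw [h5, hrn, h3]
      exact mul_mem (zpow_mem h.c_mem k) h.r_mem
  have h6 := comm_of_small h hlP h.r_mem
  rw [h6, mul_inv_cancel_right] at h1
  exact hf.ne h1

theorem fld_of_small (P : Sylow 2 L) {r c : L} (h : AutSwap.Dih (P : Subgroup L) 2 r c)
    {α : MulAut L} (hα : ∃ n : ℕ, α ^ 2 ^ n = 1) : R.fld α = 1 := by
  obtain ⟨n, hn⟩ := hα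
  have h1 : (R.fld α) ^ 2 ^ n = 1 := by rw [← map_pow, hn, map_one]
  have h2 : ∀ m, (R.fld α) ^ 2 ^ m = 1 → R.fld α = 1 := by
    intro m
    induction m with
    | zero => intro h3; simpa using h3
    | succ m ih =>
      intro h3
      apply ih
      by_contra hne
      have h4 : (R.fld α) ^ 2 ^ m * (R.fld α) ^ 2 ^ m = 1 := by
        rw [← pow_add, ← two_mul, ← pow_succ', h3]
      exact not_isSquare_two R P h (L2Aut.Rep.isSquare_of_fixed R.two h4 hne (map_ofNat _ 2))
  exact h2 n h1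

theorem small (P : Sylow 2 L) {r c : L} (h : AutSwap.Dih (P : Subgroup L) 2 r c)
    {α : MulAut L} (hα : ∃ n : ℕ, α ^ 2 ^ n = 1) (hP : ∀ s ∈ (P : Subgroup L), α s ∈ (P : Subgroup L)) :
    R.fld α = 1 ∧ (R.o1 α = 1 ↔ ∀ s ∈ (P : Subgroup L), α s = s) := by
  have hfin : Finite L := R.finite
  have h1 := fld_of_small R P h hα
  refine ⟨h1, fun h2 => ?_, fun h2 => ?_⟩
  · obtain ⟨l, rfl⟩ := R.mem_inn_iff.2 ⟨h1, h2⟩
    obtain ⟨n, hn⟩ := hα
    have hlP : l ∈ P := by
      apply mem_syl_of_norm P ⟨n, ?_⟩ hP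
      apply R.conj_injective
      rw [map_pow, hn, map_one]
    intro s hs
    rw [MulAut.conj_apply, comm_of_small h hlP hs, mul_inv_cancel_right]
  · exact o1_of_fix R (four_of_small h) (h2 r h.r_mem) (h2 c h.c_mem)

/-- `AutData` for `PSL(2,F)`, up to three facts. -/
theorem autData_of (P : Sylow 2 L) {d : ℕ} {r c : L} (h : AutSwap.Dih (P : Subgroup L) d r c)
    (sq : ∀ α : MulAut L, (∃ n : ℕ, α ^ 2 ^ n = 1) → (∀ s ∈ (P : Subgroup L), α s = s) → α * α = 1)
    (field_cent : ∀ α : MulAut L, α * α = 1 → R.fld α ≠ 1 → ∃ l, ∀ s ∈ (P : Subgroup L),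
      (MulAut.conj l * α * (MulAut.conj l)⁻¹ : MulAut L) s = s)
    (field_conj : ∀ α : MulAut L, α * α = 1 → R.fld α ≠ 1 → (∀ s ∈ (P : Subgroup L), α s = s) →
      ∃ e ∈ (P : Subgroup L), e ≠ 1 ∧ e * e = 1 ∧ ∃ l,
        MulAut.conj l * α * (MulAut.conj l)⁻¹ = MulAut.conj e * α) :
    AutData (P : Subgroup L) d r c R.o1 R.fld where
  inn1 := R.o1_conj
  inn2 := fun l => R.mem_PGL_iff_fld.1 (R.conj_mem_PGL l)
  ker := by
    intro α h1 h2
    obtain ⟨l, hl⟩ := R.mem_inn_iff.2 ⟨h2, h1⟩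
    exact ⟨l, hl.symm⟩
  A_inv := fun a b ha ha1 hb hb1 => aut_inv ha ha1 hb hb1
  inv_conj := fun a b ha ha1 hb hb1 => R.inv_conj ha ha1 hb hb1
  d_ge := h.d_ge
  r_mem := h.r_mem
  c_mem := h.c_mem
  cc := h.cc
  crc := h.crc
  or_eq := h.or_eq
  c_not := h.c_not
  S_form := h.form
  swap := by
    have hfin : Finite L := R.finite
    intro hd α hα k hk
    exact AutSwap.swap R P h hd hα hk
  small := by
    rintro rfl α hα hP
    exact small R P h hα hP
  sq := sq
  no_mixed := by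
    intro α hα
    by_cases h1 : R.fld α = 1
    · exact Or.inr h1
    · exact Or.inl (R.o1_of_sq hα h1)
  field_cent := field_cent
  field_conj := field_conj
  field_o1 := by
    intro α hα h1 β hβ
    exact R.o1_of_comm hα h1 (mul_inv_eq_iff_eq_mul.1 hβ)

end

end Cfsg.Agent.GH.L2One.AutPsl
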