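import Cfsg.Agent.GH.L2One.DihD
import Cfsg.Agent.GH.ESuzMain

/-!
# GH-L2, `m₂(Q) = 1`, `|Q| ≥ 4`, case I: the swap configuration

`S` a 2-group, `T < S`, `T = C_S(z)`, `D` dihedral and normal in `T`, `s ∈ S` normalises `T`,
`[D, D^s] = 1`, `T0 = D D^s` has index at most 2 in `T`.
-/

set_option autoImplicit false

open Subgroup
open Cfsg.Agent.GH.L2One.DihD

namespace Cfsg.Agent.GH.L2One.Swap

variable {G : Type*} [Group G]

/-- membership in `T0 = D (s D s⁻¹)` -/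
def InT0 (D : Subgroup G) (s g : G) : Prop := ∃ a ∈ D, ∃ b ∈ D, g = a * (s * b * s⁻¹)

/-- The swap configuration. -/
structure Sw (S T D : Subgroup G) (s r c : G) (n : ℕ) : Prop where
  dih : Dih D r c n
  pS : IsPGroup 2 S
  DT : D ≤ T
  TS : T ≤ S
  Dn : ∀ t ∈ T, ∀ d ∈ D, t * d * t⁻¹ ∈ D
  sS : s ∈ S
  sT : s ∉ T
  nT : ∀ t ∈ T, s * t * s⁻¹ ∈ T
  nT' : ∀ t ∈ T, s⁻¹ * t * s ∈ T
  comm : ∀ a ∈ D, ∀ b ∈ D, a * (s * b * s⁻¹) = s * b * s⁻¹ * a
  disj : ∀ a ∈ D, s * a * s⁻¹ ∈ D → a = 1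
  cenT : ∀ g ∈ S, g * zz r n = zz r n * g → g ∈ T
  swap : s * (s * zz r n * s⁻¹) * s⁻¹ = zz r n
  idx : ∀ a ∈ T, ∀ b ∈ T, ¬ InT0 D s a → ¬ InT0 D s b → InT0 D s (a * b)
  cls : ∀ a ∈ T, ¬ InT0 D s a → ∃ k : ℤ, Odd k ∧ a * c * a⁻¹ = r ^ k * c
  cenD : ∀ g ∈ T, (∀ d ∈ D, g * d = d * g) →
    ∃ b ∈ D, g = s * b * s⁻¹ ∨ g = zz r n * (s * b * s⁻¹)

namespace Sw

variable {S T D : Subgroup G} {s r c : G} {n : ℕ}

/-- the element `x` -/
def xx (s r : G) (n : ℕ) : G := s * zz r n * s⁻¹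

theorem ss_mem (h : Sw S T D s r c n) : s * s ∈ T := by
  apply h.cenT _ (mul_mem h.sS h.sS)
  have h1 := h.swap
  calc s * s * zz r n = (s * (s * zz r n * s⁻¹) * s⁻¹) * s * s := by group
    _ = zz r n * (s * s) := by rw [h1]; group

theorem ss_mem' (h : Sw S T D s r c n) : s⁻¹ * s⁻¹ ∈ T := by
  rw [← mul_inv_rev]; exact inv_mem h.ss_mem

theorem Dn' (h : Sw S T D s r c n) {t d : G} (ht : t ∈ T) (hd : d ∈ D) : t⁻¹ * d * t ∈ D := by
  have := h.Dn t⁻¹ (inv_mem ht) d hd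
  rwa [inv_inv] at this

theorem ssD (h : Sw S T D s r c n) {d : G} (hd : d ∈ D) : s * (s * d * s⁻¹) * s⁻¹ ∈ D := by
  have h1 := h.Dn (s * s) h.ss_mem d hd
  have : s * (s * d * s⁻¹) * s⁻¹ = (s * s) * d * (s * s)⁻¹ := by group
  rw [this]; exact h1

theorem ssD' (h : Sw S T D s r c n) {d : G} (hd : d ∈ D) : s⁻¹ * (s⁻¹ * d * s) * s ∈ D := by
  have h1 := h.Dn' h.ss_mem hd
  have : s⁻¹ * (s⁻¹ * d * s) * s = (s * s)⁻¹ * d * (s * s) := by group
  rw [this]; exact h1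

/-- an element of `D` conjugated by `s⁻¹` lies in `s D s⁻¹` -/
theorem inv_conj (h : Sw S T D s r c n) {d : G} (hd : d ∈ D) :
    ∃ e ∈ D, s⁻¹ * d * s = s * e * s⁻¹ :=
  ⟨_, h.ssD' hd, by group⟩

theorem D2_T (h : Sw S T D s r c n) {d : G} (hd : d ∈ D) : s * d * s⁻¹ ∈ T := h.nT d (h.DT hd)

/-- uniqueness of the decomposition -/
theorem unique (h : Sw S T D s r c n) {a b a' b' : G} (ha : a ∈ D) (hb : b ∈ D) (ha' : a' ∈ D)
    (hb' : b' ∈ D) (he : a * (s * b * s⁻¹) = a' * (s * b' * s⁻¹)) : a = a' ∧ b = b' := by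
  have h1 : a'⁻¹ * a = s * (b' * b⁻¹) * s⁻¹ := by
    have : s * (b' * b⁻¹) * s⁻¹ = (s * b' * s⁻¹) * (s * b * s⁻¹)⁻¹ := by group
    rw [this, eq_mul_inv_iff_mul_eq, mul_assoc, he]
    group
  have h2 : b' * b⁻¹ = 1 := h.disj _ (mul_mem hb' (inv_mem hb)) (h1 ▸ mul_mem (inv_mem ha') ha)
  rw [h2] at h1
  constructor
  · have : a'⁻¹ * a = 1 := by rw [h1]; group
    exact (inv_mul_eq_one.1 this).symm
  · exact (mul_inv_eq_one.1 h2).symm

theorem inT0_T (h : Sw S T D s r c n) {g : G} (hg : InT0 D s g) : g ∈ T := by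
  obtain ⟨a, ha, b, hb, rfl⟩ := hg
  exact mul_mem (h.DT ha) (h.D2_T hb)

theorem inT0_D {d : G} (hd : d ∈ D) : InT0 D s d := ⟨d, hd, 1, one_mem _, by group⟩

theorem inT0_D2 {d : G} (hd : d ∈ D) : InT0 D s (s * d * s⁻¹) := ⟨1, one_mem _, d, hd, by group⟩

theorem inT0_one : InT0 D s (1 : G) := inT0_D (one_mem _)

theorem mul_form (h : Sw S T D s r c n) {a b a' b' : G} (hb : b ∈ D) (ha' : a' ∈ D) :
    (a * (s * b * s⁻¹)) * (a' * (s * b' * s⁻¹)) = (a * a') * (s * (b * b') * s⁻¹) := by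
  have h1 := h.comm a' ha' b hb
  calc (a * (s * b * s⁻¹)) * (a' * (s * b' * s⁻¹)) = a * (s * b * s⁻¹ * a') * (s * b' * s⁻¹) := by
        group
    _ = a * (a' * (s * b * s⁻¹)) * (s * b' * s⁻¹) := by rw [h1]
    _ = (a * a') * (s * (b * b') * s⁻¹) := by group

theorem inT0_mul (h : Sw S T D s r c n) {g k : G} (hg : InT0 D s g) (hk : InT0 D s k) :
    InT0 D s (g * k) := by
  obtain ⟨a, ha, b, hb, rfl⟩ := hg
  obtain ⟨a', ha', b', hb', rfl⟩ := hk
  exact ⟨a * a', mul_mem ha ha', b * b', mul_mem hb hb', h.mul_form hb ha'⟩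

theorem inT0_inv (h : Sw S T D s r c n) {g : G} (hg : InT0 D s g) : InT0 D s g⁻¹ := by
  obtain ⟨a, ha, b, hb, rfl⟩ := hg
  refine ⟨a⁻¹, inv_mem ha, b⁻¹, inv_mem hb, ?_⟩
  have := h.comm a ha b hb
  calc (a * (s * b * s⁻¹))⁻¹ = (s * b * s⁻¹ * a)⁻¹ := by rw [this]
    _ = a⁻¹ * (s * b⁻¹ * s⁻¹) := by group

/-- `T0` as a subgroup -/
def T0 (h : Sw S T D s r c n) : Subgroup G where
  carrier := {g | InT0 D s g}
  mul_mem' := h.inT0_mul
  one_mem' := inT0_one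
  inv_mem' := h.inT0_inv

theorem mem_T0 (h : Sw S T D s r c n) {g : G} : g ∈ h.T0 ↔ InT0 D s g := Iff.rfl

theorem T0_le (h : Sw S T D s r c n) : h.T0 ≤ T := fun _ => h.inT0_T

/-- conjugation by `T` preserves `s D s⁻¹` -/
theorem conjD2 (h : Sw S T D s r c n) {t d : G} (ht : t ∈ T) (hd : d ∈ D) :
    ∃ e ∈ D, t * (s * d * s⁻¹) * t⁻¹ = s * e * s⁻¹ := by
  refine ⟨(s⁻¹ * t * s) * d * (s⁻¹ * t * s)⁻¹, h.Dn _ (h.nT' t ht) d hd, ?_⟩
  group

theorem inT0_conj (h : Sw S T D s r c n) {t g : G} (ht : t ∈ T) (hg : InT0 D s g) :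
    InT0 D s (t * g * t⁻¹) := by
  obtain ⟨a, ha, b, hb, rfl⟩ := hg
  obtain ⟨e, he, h1⟩ := h.conjD2 ht hb
  refine ⟨t * a * t⁻¹, h.Dn t ht a ha, e, he, ?_⟩
  rw [← h1]; group

theorem inT0_conj_s (h : Sw S T D s r c n) {g : G} (hg : InT0 D s g) :
    InT0 D s (s * g * s⁻¹) := by
  obtain ⟨a, ha, b, hb, rfl⟩ := hg
  refine ⟨s * (s * b * s⁻¹) * s⁻¹, h.ssD hb, a, ha, ?_⟩
  rw [h.comm _ (h.ssD hb) _ ha]; group

theorem inT0_conj_s' (h : Sw S T D s r c n) {g : G} (hg : InT0 D s g) :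
    InT0 D s (s⁻¹ * g * s) := by
  have h1 := h.inT0_conj_s hg
  have h2 := h.inT0_conj (inv_mem h.ss_mem) h1
  have : (s * s)⁻¹ * (s * g * s⁻¹) * (s * s)⁻¹⁻¹ = s⁻¹ * g * s := by group
  rwa [this] at h2

theorem x_mem (h : Sw S T D s r c n) : xx s r n ∈ T := h.D2_T h.dih.z_mem

theorem z_mem (h : Sw S T D s r c n) : zz r n ∈ T := h.DT h.dih.z_mem

theorem x_T0 (h : Sw S T D s r c n) : InT0 D s (xx s r n) := inT0_D2 h.dih.z_mem

theorem z_T0 (h : Sw S T D s r c n) : InT0 D s (zz r n) := inT0_D h.dih.z_mem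

theorem x_sq (h : Sw S T D s r c n) : xx s r n * xx s r n = 1 := by
  have : xx s r n * xx s r n = s * (zz r n * zz r n) * s⁻¹ := by rw [xx]; group
  rw [this, h.dih.z_sq]; group

theorem x_ne_one (h : Sw S T D s r c n) : xx s r n ≠ 1 := by
  intro h1
  apply h.dih.z_ne_one
  have : zz r n = s⁻¹ * xx s r n * s := by rw [xx]; group
  rw [this, h1]; group

theorem x_notMem_D (h : Sw S T D s r c n) : xx s r n ∉ D := fun h1 =>
  h.dih.z_ne_one (h.disj _ h.dih.z_mem h1)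

theorem x_ne_z (h : Sw S T D s r c n) : xx s r n ≠ zz r n := fun h1 =>
  h.x_notMem_D (h1 ▸ h.dih.z_mem)

theorem sx (_h : Sw S T D s r c n) : s * zz r n * s⁻¹ = xx s r n := rfl

theorem sz (h : Sw S T D s r c n) : s * xx s r n * s⁻¹ = zz r n := h.swap

theorem sx' (h : Sw S T D s r c n) : s⁻¹ * zz r n * s = xx s r n := by
  rw [← h.sz]; group

theorem sz' (_h : Sw S T D s r c n) : s⁻¹ * xx s r n * s = zz r n := by
  rw [xx]; group

/-- `z` is centralized by `T` -/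
theorem T_z (h : Sw S T D s r c n) {t : G} (ht : t ∈ T) : t * zz r n = zz r n * t := by
  have h1 : t * zz r n * t⁻¹ ∈ D := h.Dn t ht _ h.dih.z_mem
  have h2 : ∀ d ∈ D, (t * zz r n * t⁻¹) * d = d * (t * zz r n * t⁻¹) := by
    intro d hd
    have h3 := h.dih.z_comm (h.Dn' ht hd)
    calc (t * zz r n * t⁻¹) * d = t * (zz r n * (t⁻¹ * d * t)) * t⁻¹ := by group
      _ = t * ((t⁻¹ * d * t) * zz r n) * t⁻¹ := by rw [h3]
      _ = d * (t * zz r n * t⁻¹) := by group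
  rcases h.dih.center_of_comm h1 h2 with h3 | h3
  · exfalso
    apply h.dih.z_ne_one
    have : zz r n = t⁻¹ * (t * zz r n * t⁻¹) * t := by group
    rw [this, h3]; group
  · rwa [mul_inv_eq_iff_eq_mul] at h3

theorem T_x (h : Sw S T D s r c n) {t : G} (ht : t ∈ T) : t * xx s r n = xx s r n * t := by
  have h1 := h.T_z (h.nT' t ht)
  calc t * xx s r n = s * ((s⁻¹ * t * s) * zz r n) * s⁻¹ := by rw [xx]; group
    _ = s * (zz r n * (s⁻¹ * t * s)) * s⁻¹ := by rw [h1]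
    _ = xx s r n * t := by rw [xx]; group

theorem cenTx (h : Sw S T D s r c n) {g : G} (hg : g ∈ S) (hgx : g * xx s r n = xx s r n * g) :
    g ∈ T := by
  have h1 : s⁻¹ * g * s ∈ T := by
    apply h.cenT _ (mul_mem (mul_mem (inv_mem h.sS) hg) h.sS)
    calc s⁻¹ * g * s * zz r n = s⁻¹ * (g * xx s r n) * s := by rw [xx]; group
      _ = s⁻¹ * (xx s r n * g) * s := by rw [hgx]
      _ = zz r n * (s⁻¹ * g * s) := by rw [xx]; group
  have h2 := h.nT _ h1
  have : s * (s⁻¹ * g * s) * s⁻¹ = g := by group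
  rwa [this] at h2

/-- the centralizer of `T0` in `T` -/
theorem cenT0 (h : Sw S T D s r c n) {g : G} (hg : g ∈ T) (h1 : ∀ d ∈ D, g * d = d * g)
    (h2 : ∀ d ∈ D, g * (s * d * s⁻¹) = s * d * s⁻¹ * g) :
    g = 1 ∨ g = zz r n ∨ g = xx s r n ∨ g = zz r n * xx s r n := by
  have key : ∀ b ∈ D, (∀ d ∈ D, (s * b * s⁻¹) * (s * d * s⁻¹) = (s * d * s⁻¹) * (s * b * s⁻¹)) →
      s * b * s⁻¹ = 1 ∨ s * b * s⁻¹ = xx s r n := by
    intro b hb h3
    have h4 : ∀ d ∈ D, b * d = d * b := by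
      intro d hd
      have h5 := h3 d hd
      have h6 : s * (b * d) * s⁻¹ = s * (d * b) * s⁻¹ := by
        calc s * (b * d) * s⁻¹ = (s * b * s⁻¹) * (s * d * s⁻¹) := by group
          _ = (s * d * s⁻¹) * (s * b * s⁻¹) := h5
          _ = s * (d * b) * s⁻¹ := by group
      exact mul_left_cancel (mul_right_cancel h6)
    rcases h.dih.center_of_comm hb h4 with h5 | h5
    · left; rw [h5]; group
    · right; rw [h5]; rfl
  obtain ⟨b, hb, h3 | h3⟩ := h.cenD g hg h1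
  · rw [h3] at h2
    rcases key b hb h2 with h4 | h4
    · left; rw [h3, h4]
    · right; right; left; rw [h3, h4]
  · have h4 : ∀ d ∈ D, (s * b * s⁻¹) * (s * d * s⁻¹) = (s * d * s⁻¹) * (s * b * s⁻¹) := by
      intro d hd
      have h5 := h2 d hd
      have h6 := h.comm _ h.dih.z_mem d hd
      rw [h3] at h5
      have h7 : zz r n * ((s * b * s⁻¹) * (s * d * s⁻¹)) =
          zz r n * ((s * d * s⁻¹) * (s * b * s⁻¹)) := by
        calc zz r n * ((s * b * s⁻¹) * (s * d * s⁻¹)) = zz r n * (s * b * s⁻¹) * (s * d * s⁻¹) := by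
              group
          _ = s * d * s⁻¹ * (zz r n * (s * b * s⁻¹)) := h5
          _ = (s * d * s⁻¹ * zz r n) * (s * b * s⁻¹) := by group
          _ = zz r n * (s * d * s⁻¹) * (s * b * s⁻¹) := by rw [← h6]
          _ = zz r n * ((s * d * s⁻¹) * (s * b * s⁻¹)) := by group
      exact mul_left_cancel h7
    rcases key b hb h4 with h5 | h5
    · right; left; rw [h3, h5, mul_one]
    · right; right; right; rw [h3, h5]

/-- `z` and `x` commute -/
theorem zx_comm (h : Sw S T D s r c n) : zz r n * xx s r n = xx s r n * zz r n := h.T_x h.z_mem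

/-- `N = T ∪ sT` -/
def NN (h : Sw S T D s r c n) : Subgroup G where
  carrier := {g | g ∈ T ∨ s⁻¹ * g ∈ T}
  one_mem' := Or.inl (one_mem _)
  mul_mem' := by
    intro a b ha hb
    rcases ha with ha | ha
    · rcases hb with hb | hb
      · exact Or.inl (mul_mem ha hb)
      · right
        have h1 := mul_mem (h.nT' a ha) hb
        have : s⁻¹ * a * s * (s⁻¹ * b) = s⁻¹ * (a * b) := by group
        rwa [this] at h1
    · rcases hb with hb | hb
      · right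
        have h1 := mul_mem ha hb
        rwa [mul_assoc] at h1
      · left
        have h1 := mul_mem (mul_mem h.ss_mem (h.nT' _ ha)) hb
        have : s * s * (s⁻¹ * (s⁻¹ * a) * s) * (s⁻¹ * b) = a * b := by group
        rwa [this] at h1
  inv_mem' := by
    intro a ha
    rcases ha with ha | ha
    · exact Or.inl (inv_mem ha)
    · right
      have h1 := mul_mem (h.nT' _ (inv_mem ha)) h.ss_mem'
      have : s⁻¹ * (s⁻¹ * a)⁻¹ * s * (s⁻¹ * s⁻¹) = s⁻¹ * a⁻¹ := by group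
      rwa [this] at h1

theorem mem_NN (h : Sw S T D s r c n) {g : G} : g ∈ h.NN ↔ g ∈ T ∨ s⁻¹ * g ∈ T := Iff.rfl

theorem NN_le (h : Sw S T D s r c n) : h.NN ≤ S := by
  intro g hg
  rcases hg with hg | hg
  · exact h.TS hg
  · have := mul_mem h.sS (h.TS hg)
    rwa [mul_inv_cancel_left] at this

theorem s_NN (h : Sw S T D s r c n) : s ∈ h.NN := Or.inr (by rw [inv_mul_cancel]; exact one_mem _)

theorem conj_x_NN (h : Sw S T D s r c n) {g : G} (hg : g ∈ h.NN) :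
    (g * xx s r n * g⁻¹ = xx s r n ∧ g * zz r n * g⁻¹ = zz r n) ∨
      (g * xx s r n * g⁻¹ = zz r n ∧ g * zz r n * g⁻¹ = xx s r n) := by
  rcases hg with hg | hg
  · left
    exact ⟨by rw [h.T_x hg, mul_inv_cancel_right], by rw [h.T_z hg, mul_inv_cancel_right]⟩
  · right
    obtain ⟨u, hu, rfl⟩ : ∃ u ∈ T, g = s * u := ⟨_, hg, by group⟩
    constructor
    · calc s * u * xx s r n * (s * u)⁻¹ = s * (u * xx s r n) * u⁻¹ * s⁻¹ := by group
        _ = s * (xx s r n * u) * u⁻¹ * s⁻¹ := by rw [h.T_x hu]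
        _ = s * xx s r n * s⁻¹ := by group
        _ = zz r n := h.sz
    · calc s * u * zz r n * (s * u)⁻¹ = s * (u * zz r n) * u⁻¹ * s⁻¹ := by group
        _ = s * (zz r n * u) * u⁻¹ * s⁻¹ := by rw [h.T_z hu]
        _ = xx s r n := by rw [xx]; group

/-- **(7)** `N` is self-normalizing in `S`. -/
theorem normalizer_NN (h : Sw S T D s r c n) {t : G} (htS : t ∈ S)
    (ht : ∀ g ∈ h.NN, t * g * t⁻¹ ∈ h.NN) (ht' : ∀ g ∈ h.NN, t⁻¹ * g * t ∈ h.NN) : t ∈ h.NN := by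
  obtain ⟨y, hy⟩ : ∃ y, y = t * xx s r n * t⁻¹ := ⟨_, rfl⟩
  obtain ⟨y', hy'⟩ : ∃ y', y' = t * zz r n * t⁻¹ := ⟨_, rfl⟩
  have hyN : y ∈ h.NN := hy ▸ ht _ (Or.inl h.x_mem)
  have hconj : ∀ g ∈ h.NN, g * y * g⁻¹ = y ∨ g * y * g⁻¹ = y' := by
    intro g hg
    have e : g * y * g⁻¹ = t * ((t⁻¹ * g * t) * xx s r n * (t⁻¹ * g * t)⁻¹) * t⁻¹ := by
      rw [hy]; group
    rcases h.conj_x_NN (ht' g hg) with ⟨h1, -⟩ | ⟨h1, -⟩
    · left; rw [e, h1, hy]
    · right; rw [e, h1, hy']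
  have hyy' : y ≠ y' := by
    intro e
    rw [hy, hy'] at e
    exact h.x_ne_z (mul_left_cancel (mul_right_cancel e))
  have hDN : ∀ d ∈ D, d ∈ h.NN := fun d hd => Or.inl (h.DT hd)
  have hD2N : ∀ d ∈ D, s * d * s⁻¹ ∈ h.NN := fun d hd => Or.inl (h.D2_T hd)
  -- `y ∈ T`
  have hyT : y ∈ T := by
    by_contra hyT
    obtain ⟨u, hu, e⟩ : ∃ u ∈ T, y = s * u :=
      ⟨s⁻¹ * y, hyN.resolve_left hyT, by group⟩
    have key : ∀ d ∈ D, d * y = y * d → d = 1 := by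
      intro d hd h1
      have h2 : d = s * (u * d * u⁻¹) * s⁻¹ := by
        calc d = d * y * y⁻¹ := by group
          _ = y * d * y⁻¹ := by rw [h1]
          _ = s * (u * d * u⁻¹) * s⁻¹ := by rw [e]; group
      have h3 := h.disj _ (h.Dn u hu d hd) (h2 ▸ hd)
      rw [h2, h3]; group
    have hne : ∀ d ∈ D, d ≠ 1 → d * y * d⁻¹ = y' := by
      intro d hd h1
      refine (hconj d (hDN d hd)).resolve_left fun h2 => h1 (key d hd ?_)
      rwa [mul_inv_eq_iff_eq_mul] at h2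
    have h1 := hne c h.dih.c_mem h.dih.c_ne_one
    have h2 := hne r h.dih.r_mem h.dih.r_ne_one
    have h3 : r⁻¹ * c = 1 := by
      apply key _ (mul_mem (inv_mem h.dih.r_mem) h.dih.c_mem)
      have h4 : c * y * c⁻¹ = r * y * r⁻¹ := by rw [h1, h2]
      calc r⁻¹ * c * y = r⁻¹ * (c * y * c⁻¹) * c := by group
        _ = r⁻¹ * (r * y * r⁻¹) * c := by rw [h4]
        _ = y * (r⁻¹ * c) := by group
    apply h.dih.ncz
    have h4 : r = c := inv_mul_eq_one.1 h3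
    rw [← h4]; exact mem_zpowers r
  -- elements of `T` moved by `D` resp. by `s D s⁻¹`
  have hA : ∀ d ∈ D, ¬ y * d = d * y → d * y * d⁻¹ = y' := by
    intro d hd h1
    refine (hconj d (hDN d hd)).resolve_left fun h2 => h1 ?_
    rw [mul_inv_eq_iff_eq_mul] at h2
    exact h2.symm
  have hB : ∀ d ∈ D, ¬ y * (s * d * s⁻¹) = (s * d * s⁻¹) * y →
      (s * d * s⁻¹) * y * (s * d * s⁻¹)⁻¹ = y' := by
    intro d hd h1
    refine (hconj _ (hD2N d hd)).resolve_left fun h2 => h1 ?_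
    rw [mul_inv_eq_iff_eq_mul] at h2
    exact h2.symm
  have hAB : ∀ d ∈ D, ∀ e ∈ D, ¬ y * d = d * y → y * (s * e * s⁻¹) = (s * e * s⁻¹) * y := by
    intro d hd e he h1
    by_contra h2
    have h3 := hA d hd h1
    have h4 := hB e he h2
    have h5 : y⁻¹ * y' ∈ D := by
      rw [← h3]
      have : y⁻¹ * (d * y * d⁻¹) = (y⁻¹ * d * y) * d⁻¹ := by group
      rw [this]
      exact mul_mem (h.Dn' hyT hd) (inv_mem hd)
    have h6 : ∃ f ∈ D, y⁻¹ * y' = s * f * s⁻¹ := by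
      obtain ⟨f, hf, h7⟩ := h.conjD2 (inv_mem hyT) he
      refine ⟨f * e⁻¹, mul_mem hf (inv_mem he), ?_⟩
      rw [← h4]
      calc y⁻¹ * (s * e * s⁻¹ * y * (s * e * s⁻¹)⁻¹) =
          (y⁻¹ * (s * e * s⁻¹) * y⁻¹⁻¹) * (s * e⁻¹ * s⁻¹) := by group
        _ = (s * f * s⁻¹) * (s * e⁻¹ * s⁻¹) := by rw [h7]
        _ = s * (f * e⁻¹) * s⁻¹ := by group
    obtain ⟨f, hf, h7⟩ := h6
    have h8 := h.disj f hf (h7 ▸ h5)
    rw [h8] at h7
    apply hyy'
    have h9 : y⁻¹ * y' = 1 := by rw [h7]; group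
    exact inv_mul_eq_one.1 h9
  -- `y` centralizes `D`
  have hsy := hconj s h.s_NN
  have h1 : ∀ d ∈ D, y * d = d * y := by
    by_contra hcon
    push Not at hcon
    obtain ⟨d, hd, hne⟩ := hcon
    have h2 : ∀ e ∈ D, y * (s * e * s⁻¹) = (s * e * s⁻¹) * y := fun e he => hAB d hd e he hne
    -- `s y s⁻¹` centralizes `D`
    have h3 : ∀ e ∈ D, (s * y * s⁻¹) * e = e * (s * y * s⁻¹) := by
      intro e he
      obtain ⟨f, hf, h4⟩ := h.inv_conj he
      have h5 := h2 f hf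
      rw [← h4] at h5
      calc (s * y * s⁻¹) * e = s * (y * (s⁻¹ * e * s)) * s⁻¹ := by group
        _ = s * ((s⁻¹ * e * s) * y) * s⁻¹ := by rw [h5]
        _ = e * (s * y * s⁻¹) := by group
    rcases hsy with h4 | h4
    · rw [h4] at h3
      exact hne (h3 d hd)
    · rw [h4, ← hA d hd hne] at h3
      have h5 := h3 d hd
      apply hne
      have h6 : d * (y * d) * d⁻¹ = d * (d * y) * d⁻¹ := by
        calc d * (y * d) * d⁻¹ = (d * y * d⁻¹) * d := by group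
          _ = d * (d * y * d⁻¹) := h5
          _ = d * (d * y) * d⁻¹ := by group
      exact mul_left_cancel (mul_right_cancel h6)
  have h2 : ∀ d ∈ D, y * (s * d * s⁻¹) = (s * d * s⁻¹) * y := by
    by_contra hcon
    push Not at hcon
    obtain ⟨d, hd, hne⟩ := hcon
    -- `s y s⁻¹` centralizes `s D s⁻¹`
    have h3 : ∀ e ∈ D, (s * y * s⁻¹) * (s * e * s⁻¹) = (s * e * s⁻¹) * (s * y * s⁻¹) := by
      intro e he
      have h5 := h1 e he
      calc (s * y * s⁻¹) * (s * e * s⁻¹) = s * (y * e) * s⁻¹ := by group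
        _ = s * (e * y) * s⁻¹ := by rw [h5]
        _ = (s * e * s⁻¹) * (s * y * s⁻¹) := by group
    rcases hsy with h4 | h4
    · rw [h4] at h3
      exact hne (h3 d hd)
    · rw [h4, ← hB d hd hne] at h3
      have h5 := h3 d hd
      apply hne
      have h6 : (s * d * s⁻¹) * (y * (s * d * s⁻¹)) * (s * d * s⁻¹)⁻¹ =
          (s * d * s⁻¹) * ((s * d * s⁻¹) * y) * (s * d * s⁻¹)⁻¹ := by
        calc (s * d * s⁻¹) * (y * (s * d * s⁻¹)) * (s * d * s⁻¹)⁻¹ =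
            ((s * d * s⁻¹) * y * (s * d * s⁻¹)⁻¹) * (s * d * s⁻¹) := by group
          _ = (s * d * s⁻¹) * ((s * d * s⁻¹) * y * (s * d * s⁻¹)⁻¹) := h5
          _ = (s * d * s⁻¹) * ((s * d * s⁻¹) * y) * (s * d * s⁻¹)⁻¹ := by group
      exact mul_left_cancel (mul_right_cancel h6)
  have hxy : t * xx s r n * t⁻¹ = xx s r n ∨ t * xx s r n * t⁻¹ = zz r n := by
    rw [← hy]
    rcases h.cenT0 hyT h1 h2 with h3 | h3 | h3 | h3
    · exfalso
      apply h.x_ne_one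
      have : xx s r n = t⁻¹ * y * t := by rw [hy]; group
      rw [this, h3]; group
    · exact Or.inr h3
    · exact Or.inl h3
    · exfalso
      have h4 : s * y * s⁻¹ = y := by
        rw [h3]
        calc s * (zz r n * xx s r n) * s⁻¹ = (s * zz r n * s⁻¹) * (s * xx s r n * s⁻¹) := by group
          _ = xx s r n * zz r n := by rw [h.sx, h.sz]
          _ = zz r n * xx s r n := h.zx_comm.symm
      have h5 : (t * s * t⁻¹) * y * (t * s * t⁻¹)⁻¹ = y' := by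
        rw [hy, hy']
        calc t * s * t⁻¹ * (t * xx s r n * t⁻¹) * (t * s * t⁻¹)⁻¹ =
            t * (s * xx s r n * s⁻¹) * t⁻¹ := by group
          _ = t * zz r n * t⁻¹ := by rw [h.sz]
      have h6 : ∀ g ∈ h.NN, g * y * g⁻¹ = y := by
        intro g hg
        rw [h3]
        rcases h.conj_x_NN hg with ⟨e1, e2⟩ | ⟨e1, e2⟩
        · calc g * (zz r n * xx s r n) * g⁻¹ = (g * zz r n * g⁻¹) * (g * xx s r n * g⁻¹) := by group
            _ = zz r n * xx s r n := by rw [e1, e2]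
        · calc g * (zz r n * xx s r n) * g⁻¹ = (g * zz r n * g⁻¹) * (g * xx s r n * g⁻¹) := by group
            _ = xx s r n * zz r n := by rw [e1, e2]
            _ = zz r n * xx s r n := h.zx_comm.symm
      rw [h6 _ (ht s h.s_NN)] at h5
      exact hyy' h5
  rcases hxy with h3 | h3
  · left
    apply h.cenTx htS
    rwa [mul_inv_eq_iff_eq_mul] at h3
  · have h4 : s * t ∈ T := by
      apply h.cenTx (mul_mem h.sS htS)
      have h5 : (s * t) * xx s r n * (s * t)⁻¹ = xx s r n := by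
        calc (s * t) * xx s r n * (s * t)⁻¹ = s * (t * xx s r n * t⁻¹) * s⁻¹ := by group
          _ = xx s r n := by rw [h3, h.sx]
      rwa [mul_inv_eq_iff_eq_mul] at h5
    have h5 : s * t ∈ h.NN := Or.inl h4
    have h6 := mul_mem (inv_mem h.s_NN) h5
    rwa [inv_mul_cancel_left] at h6

/-- **(7)** `S = N`. -/
theorem eq_NN [Finite G] (h : Sw S T D s r c n) : S = h.NN := by
  by_contra hne
  obtain ⟨y, hy, hyN, h1⟩ := E.exists_mem_normalizer h.pS h.NN_le (fun e => hne e.symm)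
  apply hyN
  refine h.normalizer_NN hy h1 fun g hg => ?_
  -- finiteness: `y` normalizes `N`
  have h2 : (h.NN).map (MulAut.conj y).toMonoidHom = h.NN := by
    apply Subgroup.eq_of_le_of_card_ge
    · rintro _ ⟨g, hg, rfl⟩
      exact h1 g hg
    · rw [Subgroup.card_map_of_injective (MulAut.conj y).injective]
  rw [← h2] at hg
  obtain ⟨k, hk, e⟩ := hg
  have e' : y * k * y⁻¹ = g := e
  have : y⁻¹ * g * y = k := by rw [← e']; group
  rw [this]; exact hk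

theorem mem_S [Finite G] (h : Sw S T D s r c n) {g : G} : g ∈ S ↔ g ∈ T ∨ s⁻¹ * g ∈ T := by
  constructor
  · intro hg
    rw [h.eq_NN] at hg
    exact hg
  · exact fun hg => h.NN_le hg

end Sw

end Cfsg.Agent.GH.L2One.Swap
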