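import Cfsg.Agent.GH.L2One.Dbl
import Cfsg.Agent.GH.L2One.Swap
import Cfsg.Agent.GH.L2FourFrame

/-!
# GH-L2, `m₂(Q) = 1`, `|Q| ≥ 4`, CASE I: steps (6), (7)

`Frame` and `T < P ∈ Syl₂(G)` give `Dbl`.
-/

set_option autoImplicit false

open Subgroup
open Cfsg.Agent.SignalizersComponents
open Cfsg.Agent.SignalizersComponents.IntrinsicBasic
open Cfsg.Agent.GH.L2One.DihD
open Cfsg.Agent.GH.L2One.Swap

namespace Cfsg.Agent.GH.L2One.CaseOne

variable {G A : Type*} [Group G] [Group A] {x : G} {K T D Q : Subgroup G} {d : ℕ} {r c : G}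
  {o1 : G → ℤˣ} {o2 : G → A}

theorem toFour (F : Frame x K T D Q d r c o1 o2) : L2FourFrame.Frame x T D Q where
  pgroup := F.T_two
  QT := F.Q_le
  DT := F.D_le
  Qn := by
    intro t ht
    rw [mem_normalizer_iff]
    intro q
    constructor
    · exact fun hq => F.Q_norm t ht q hq
    · intro hq
      have h1 := F.Q_norm t⁻¹ (inv_mem ht) _ hq
      have : t⁻¹ * (t * q * t⁻¹) * t⁻¹⁻¹ = q := by group
      rwa [this] at h1
  Dn := by
    intro t ht
    rw [mem_normalizer_iff]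
    intro q
    constructor
    · exact fun hq => F.D_norm ht hq
    · intro hq
      have h1 := F.D_norm (inv_mem ht) hq
      have : t⁻¹ * (t * q * t⁻¹) * t⁻¹⁻¹ = q := by group
      rwa [this] at h1
  disj := by
    rw [eq_bot_iff]
    intro y hy
    exact mem_bot.2 (F.QD y (mem_inf.1 hy).2 (mem_inf.1 hy).1)
  xQ := F.x_mem
  x1 := F.x_ne
  xx := F.xx
  uniq := F.Q_inv
  four := F.Q_four
  cent := F.sq_mem

theorem toDih (F : Frame x K T D Q d r c o1 o2) (hd : 3 ≤ d) : Dih D r c (d - 1) where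
  two_le := by omega
  ord := F.or_eq
  cc := F.cc
  crc := by
    have := F.crc
    rwa [F.c_inv] at this
  ncz := by
    intro h
    obtain ⟨k, hk⟩ := mem_zpowers_iff.1 h
    exact F.c_not k hk.symm
  mem := by
    intro g
    constructor
    · intro hg
      obtain ⟨k, hk | hk⟩ := F.D_form g hg
      · exact Or.inl ⟨k, hk⟩
      · exact Or.inr ⟨k, hk⟩
    · rintro (⟨k, rfl⟩ | ⟨k, rfl⟩)
      · exact zpow_mem F.r_mem k
      · exact mul_mem (zpow_mem F.r_mem k) F.c_mem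

/-- `T` is the centralizer of `x` in any 2-group containing `T`. -/
theorem mem_T_of_comm [Finite G] (F : Frame x K T D Q d r c o1 o2) {P : Subgroup G}
    (hP : IsPGroup 2 P) (hTP : T ≤ P) {g : G} (hg : g ∈ P) (hgx : x * g = g * x) : g ∈ T := by
  let P0 : Subgroup G := P ⊓ centralizer {x}
  have h1 : ∀ p ∈ P0, x * p = p * x := fun p hp =>
    (mem_centralizer_singleton_iff.1 (mem_inf.1 hp).2).symm
  obtain ⟨k, -, hk⟩ := F.T_syl P0 (hP.to_le inf_le_left) h1
  have hT : T ≤ P0 := le_inf hTP fun t ht => mem_centralizer_singleton_iff.2 (F.T_comm t ht).symm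
  have h2 : Nat.card P0 ≤ Nat.card T := by
    have h3 : Nat.card P0 = Nat.card (P0.map (MulAut.conj k).toMonoidHom) :=
      (Subgroup.card_map_of_injective (MulAut.conj k).injective).symm
    rw [h3]
    refine Subgroup.card_le_of_le ?_
    rintro _ ⟨p, hp, rfl⟩
    exact hk p hp
  have h3 : T = P0 := Subgroup.eq_of_le_of_card_ge hT h2
  rw [h3]
  exact mem_inf.2 ⟨hg, mem_centralizer_singleton_iff.2 hgx.symm⟩

section swap

variable [Finite G] (F : Frame x K T D Q d r c o1 o2) {s : G} (hs : cj s T = T)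
  (hx : s * x * s⁻¹ ≠ x)

include hs in
omit [Finite G] in
theorem conj_T {t : G} (ht : t ∈ T) : s * t * s⁻¹ ∈ T := by
  have := conj_mem_cj (g := s) ht
  rwa [hs] at this

include hs in
omit [Finite G] in
theorem conj_T' {t : G} (ht : t ∈ T) : s⁻¹ * t * s ∈ T := by
  rw [← hs] at ht
  exact mem_cj.1 ht

include F hs hx

omit [Finite G] hs in
/-- `Q ∩ Q^s = 1` -/
theorem inf_Q {a : G} (h1 : a ∈ Q) (h2 : a ∈ cj s Q) : a = 1 := by
  by_contra hne
  have F' := (toFour F).cj s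
  obtain ⟨m, h3, h4⟩ := L2FourFrame.exists_involution F.T_two (F.Q_le h1) hne
  have h5 := (F.Q_inv _ (pow_mem h1 m) h3).resolve_left h4
  have h6 := (F'.uniq _ (pow_mem h2 m) h3).resolve_left h4
  exact hx (h6.symm.trans h5)

omit [Finite G] in
theorem comm_QQ {a b : G} (h1 : a ∈ Q) (h2 : b ∈ cj s Q) : a * b = b * a := by
  have F' := (toFour F).cj s
  rw [hs] at F'
  have h3 : a * b * a⁻¹ * b⁻¹ = 1 := by
    apply inf_Q F hx
    · have h4 : b * a⁻¹ * b⁻¹ ∈ Q := F.Q_norm b (F'.QT h2) _ (inv_mem h1)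
      have : a * b * a⁻¹ * b⁻¹ = a * (b * a⁻¹ * b⁻¹) := by group
      rw [this]
      exact mul_mem h1 h4
    · have h4 : a * b * a⁻¹ ∈ cj s Q := (mem_normalizer_iff.1 (F'.Qn (F.Q_le h1)) _).1 h2
      exact mul_mem h4 (inv_mem h2)
  rw [mul_inv_eq_one, mul_inv_eq_iff_eq_mul] at h3
  exact h3

omit [Finite G] in
/-- **(2)** `d ≥ 3`. -/
theorem three_le : 3 ≤ d := by
  by_contra hd
  have hd2 : d = 2 := by have := F.d_ge; omega
  have F' := (toFour F).cj s
  rw [hs] at F'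
  obtain ⟨q, hq, hqq⟩ := F.Q_four
  have hyD : s * x * s⁻¹ ∈ D := (toFour F).swap_mem hs hx
  have hvT : ∀ q1 ∈ Q, s * q1 * s⁻¹ ∈ T := fun q1 hq1 => conj_T hs (F.Q_le hq1)
  have hsq : ∀ e ∈ D, e * e = 1 := by
    intro e he
    obtain ⟨k, h1 | h1⟩ := F.D_form e he
    · rw [h1, ← zpow_add, F.rk_one, hd2]
      exact ⟨k, by norm_num; ring⟩
    · rw [h1, F.refl_sq]
  -- elements of `Q^s` in `QD` have square one
  have key : ∀ q1 ∈ Q, o1 (s * q1 * s⁻¹) = 1 → q1 = 1 ∨ q1 = x := by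
    intro q1 hq1 h1
    obtain ⟨q', hq', e, he, h2⟩ := F.ker _ (hvT q1 hq1) h1 (F.small hd2 _ (hvT q1 hq1)).1
    have h3 : (s * q1 * s⁻¹) * (s * q1 * s⁻¹) = q' * q' := by
      rw [h2]
      calc q' * e * (q' * e) = q' * (e * q') * e := by group
        _ = q' * (q' * e) * e := by rw [F.QD_comm hq' he]
        _ = q' * q' * (e * e) := by group
        _ = q' * q' := by rw [hsq e he, mul_one]
    have h4 : (s * q1 * s⁻¹) * (s * q1 * s⁻¹) = 1 := by
      apply inf_Q F hx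
      · rw [h3]; exact mul_mem hq' hq'
      · exact mul_mem (conj_mem_cj hq1) (conj_mem_cj hq1)
    apply F.Q_inv q1 hq1
    have : q1 * q1 = s⁻¹ * ((s * q1 * s⁻¹) * (s * q1 * s⁻¹)) * s := by group
    rw [this, h4]; group
  have hv1 : o1 (s * q * s⁻¹) ≠ 1 := by
    intro h1
    rcases key q hq h1 with h2 | h2
    · rw [h2, mul_one] at hqq
      exact F.x_ne hqq.symm
    · rw [h2, F.xx] at hqq
      exact F.x_ne hqq.symm
  have huu : ∀ a b : ℤˣ, a ≠ 1 → b ≠ 1 → a * b⁻¹ = 1 := by decide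
  -- `q` commutes with `Q`
  have hqQ : ∀ q1 ∈ Q, q * q1 = q1 * q := by
    intro q1 hq1
    by_cases h1 : o1 (s * q1 * s⁻¹) = 1
    · rcases key q1 hq1 h1 with h2 | h2
      · rw [h2, mul_one, one_mul]
      · rw [h2]; exact (F.T_comm q (F.Q_le hq)).symm
    · have h2 : o1 (s * (q1 * q⁻¹) * s⁻¹) = 1 := by
        have : s * (q1 * q⁻¹) * s⁻¹ = (s * q1 * s⁻¹) * (s * q * s⁻¹)⁻¹ := by group
        rw [this, F.o1_mul' (hvT q1 hq1) (inv_mem (hvT q hq)), F.o1_inv (hvT q hq)]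
        exact huu _ _ h1 hv1
      rcases key _ (mul_mem hq1 (inv_mem hq)) h2 with h3 | h3
      · rw [mul_inv_eq_one] at h3
        rw [h3]
      · have h4 : q1 = x * q := by rw [← h3]; group
        rw [h4, ← mul_assoc, (F.T_comm q (F.Q_le hq)).symm]
  -- `q` commutes with `T`
  have hqT : ∀ t ∈ T, q * t = t * q := by
    have h0 : ∀ t ∈ T, o1 t = 1 → q * t = t * q := by
      intro t ht h1
      obtain ⟨q', hq', e, he, h2⟩ := F.ker t ht h1 (F.small hd2 t ht).1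
      rw [h2]
      calc q * (q' * e) = (q * q') * e := by group
        _ = (q' * q) * e := by rw [hqQ q' hq']
        _ = q' * (q * e) := by group
        _ = q' * (e * q) := by rw [F.QD_comm hq he]
        _ = q' * e * q := by group
    intro t ht
    by_cases h1 : o1 t = 1
    · exact h0 t ht h1
    · have h2 : o1 (t * (s * q * s⁻¹)⁻¹) = 1 := by
        rw [F.o1_mul' ht (inv_mem (hvT q hq)), F.o1_inv (hvT q hq)]
        exact huu _ _ h1 hv1
      have h3 := h0 _ (mul_mem ht (inv_mem (hvT q hq))) h2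
      have h4 := comm_QQ F hs hx hq (conj_mem_cj (g := s) hq)
      calc q * t = (q * (t * (s * q * s⁻¹)⁻¹)) * (s * q * s⁻¹) := by group
        _ = (t * (s * q * s⁻¹)⁻¹ * q) * (s * q * s⁻¹) := by rw [h3]
        _ = t * (s * q * s⁻¹)⁻¹ * (q * (s * q * s⁻¹)) := by group
        _ = t * (s * q * s⁻¹)⁻¹ * ((s * q * s⁻¹) * q) := by rw [h4]
        _ = t * q := by group
  apply hv1
  rw [(F.small hd2 _ (hvT q hq)).2]
  intro e he
  have h1 := hqT _ (conj_T' hs (F.D_le he))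
  calc s * q * s⁻¹ * e = s * (q * (s⁻¹ * e * s)) * s⁻¹ := by group
    _ = s * ((s⁻¹ * e * s) * q) * s⁻¹ := by rw [h1]
    _ = e * (s * q * s⁻¹) := by group

omit [Finite G] hs hx in
theorem hz_cond (hd : 3 ≤ d) : ∀ y ∈ D, (∀ t ∈ T, t * y = y * t) →
    y = 1 ∨ y = zz r (d - 1) := by
  intro y hy h
  exact (toDih F hd).center_of_comm hy fun e he => (h e (F.D_le he)).symm

omit [Finite G] in
theorem swap_x : s * x * s⁻¹ = zz r (d - 1) :=
  ((toFour F).swap (hz_cond F (three_le F hs hx)) hs hx).1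

omit [Finite G] in
theorem swap_z : s * zz r (d - 1) * s⁻¹ = x :=
  ((toFour F).swap (hz_cond F (three_le F hs hx)) hs hx).2

theorem disj_D {a : G} (h1 : a ∈ D) (h2 : a ∈ cj s D) : a = 1 := by
  have h3 : a ∈ D ⊓ cj s D := mem_inf.2 ⟨h1, h2⟩
  rwa [(toFour F).inf_eq_bot (hz_cond F (three_le F hs hx)) hs hx, mem_bot] at h3

theorem comm_D {a b : G} (h1 : a ∈ D) (h2 : b ∈ D) :
    a * (s * b * s⁻¹) = s * b * s⁻¹ * a :=
  ((toFour F).comm_cj (hz_cond F (three_le F hs hx)) hs hx (conj_mem_cj h2) h1).symm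

/-- a reflection of `D^s`: `o1 = 1`, `o2 ≠ 1`. -/
theorem refl_o {b : G} (hb : b ∈ D) (hbb : b * b = 1) (hb1 : b ≠ 1) (hbz : b ≠ zz r (d - 1)) :
    o1 (s * b * s⁻¹) = 1 ∧ o2 (s * b * s⁻¹) ≠ 1 ∧ o2 (s * b * s⁻¹) * o2 (s * b * s⁻¹) = 1 := by
  have hd := three_le F hs hx
  have hT : s * b * s⁻¹ ∈ T := conj_T hs (F.D_le hb)
  have h1 : (s * b * s⁻¹) * (s * b * s⁻¹) = 1 := by
    have : (s * b * s⁻¹) * (s * b * s⁻¹) = s * (b * b) * s⁻¹ := by group
    rw [this, hbb]; group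
  have h2 : s * b * s⁻¹ ≠ 1 := by
    intro h
    apply hb1
    have : b = s⁻¹ * (s * b * s⁻¹) * s := by group
    rw [this, h]; group
  have h3 : s * b * s⁻¹ ≠ x := by
    intro h
    rw [← swap_z F hs hx] at h
    exact hbz (mul_left_cancel (mul_right_cancel h))
  have h4 := (toFour F).notMem_sup (hz_cond F hd) hs hx (conj_mem_cj hb) h1 h2 h3
  have h5 : o1 (s * b * s⁻¹) = 1 := by
    have h6 := comm_D F hs hx F.c_mem hb
    have h7 : s * b * s⁻¹ * c * (s * b * s⁻¹)⁻¹ = r ^ (0 : ℤ) * c := by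
      rw [← h6]; group
    exact (F.swap hd _ hT 0 h7).2 (by decide)
  refine ⟨h5, fun h6 => h4 ?_, ?_⟩
  · obtain ⟨q, hq, e, he, h7⟩ := F.ker _ hT h5 h6
    rw [h7]
    exact mul_mem_sup hq he
  · rw [← F.o2_mul' hT hT, h1, F.o2_one]

omit [Finite G] hs hx in
theorem o2_pow {v : G} (hv : v ∈ T) (m : ℕ) : o2 (v ^ m) = o2 v ^ m := by
  induction m with
  | zero => rw [pow_zero, pow_zero, F.o2_one]
  | succ m ih => rw [pow_succ, pow_succ, F.o2_mul' (pow_mem hv m) hv, ih]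

omit [Finite G] hs hx in
theorem o2_zpow {v : G} (hv : v ∈ T) (m : ℤ) : o2 (v ^ m) = o2 v ^ m := by
  obtain ⟨k, rfl | rfl⟩ := m.eq_nat_or_neg
  · rw [zpow_natCast, zpow_natCast, o2_pow F hv]
  · rw [zpow_neg, zpow_neg, F.o2_inv (zpow_mem hv _), zpow_natCast, zpow_natCast, o2_pow F hv]

omit [Finite G] hs hx in
/-- minimal power -/
theorem exists_pow {v : G} (hv : v ∈ T) (h1 : o2 v ≠ 1) :
    ∃ m : ℕ, o2 (v ^ m) ≠ 1 ∧ o2 (v ^ m) * o2 (v ^ m) = 1 := by
  obtain ⟨k, hk⟩ := F.T_two ⟨v, hv⟩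
  have hk' : v ^ 2 ^ k = 1 := by simpa using congrArg Subtype.val hk
  have h2 : o2 v ^ 2 ^ k = 1 := by rw [← o2_pow F hv, hk', F.o2_one]
  have hex : ∃ j, o2 v ^ 2 ^ j = 1 := ⟨k, h2⟩
  classical
  obtain ⟨m, hm, hm'⟩ : ∃ m, o2 v ^ 2 ^ m = 1 ∧ ∀ j, o2 v ^ 2 ^ j = 1 → m ≤ j :=
    ⟨Nat.find hex, Nat.find_spec hex, fun j hj => Nat.find_min' hex hj⟩
  rcases m with _ | m
  · exact absurd (by simpa using hm) h1
  · refine ⟨2 ^ m, ?_, ?_⟩
    · rw [o2_pow F hv]
      intro h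
      have := hm' m h
      omega
    · rw [o2_pow F hv, ← pow_add, ← two_mul, ← pow_succ']
      exact hm

omit [Finite G] hs hx in
/-- minimal power, order four -/
theorem exists_pow_four {v : G} (hv : v ∈ T) (h1 : o2 v * o2 v ≠ 1) :
    ∃ m : ℕ, o2 (v ^ m) * o2 (v ^ m) ≠ 1 ∧
      (o2 (v ^ m) * o2 (v ^ m)) * (o2 (v ^ m) * o2 (v ^ m)) = 1 := by
  have h2 : o2 (v * v) ≠ 1 := by rwa [F.o2_mul' hv hv]
  obtain ⟨m, h3, h4⟩ := exists_pow F (mul_mem hv hv) h2
  refine ⟨m, ?_, ?_⟩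
  · have h5 : (v * v) ^ m = v ^ m * v ^ m := by rw [← pow_two, ← pow_mul, mul_comm, pow_mul, pow_two]
    rw [h5, F.o2_mul' (pow_mem hv m) (pow_mem hv m)] at h3
    exact h3
  · have h5 : (v * v) ^ m = v ^ m * v ^ m := by rw [← pow_two, ← pow_mul, mul_comm, pow_mul, pow_two]
    rw [h5, F.o2_mul' (pow_mem hv m) (pow_mem hv m)] at h4
    exact h4

/-- `s r s⁻¹ = w e`, `w ∈ Q`, `e ∈ {1, z}` -/
theorem exists_rho : ∃ w ∈ Q, ∃ e ∈ D, (e = 1 ∨ e = zz r (d - 1)) ∧ s * r * s⁻¹ = w * e := by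
  have hd := three_le F hs hx
  have hD := toDih F hd
  have h1 := refl_o F hs hx hD.c_mem hD.cc hD.c_ne_one hD.c_ne_z
  have hrc : r * c ∈ D := mul_mem hD.r_mem hD.c_mem
  have h2 := refl_o F hs hx (b := r * c) hrc
    (by have := hD.refl_sq 1; rwa [zpow_one] at this)
    (by have := hD.refl_ne_one 1; rwa [zpow_one] at this)
    (by have := hD.refl_ne_z 1; rwa [zpow_one] at this)
  have h3 : s * r * s⁻¹ = (s * (r * c) * s⁻¹) * (s * c * s⁻¹) := by
    calc s * r * s⁻¹ = s * (r * (c * c)) * s⁻¹ := by rw [hD.cc, mul_one]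
      _ = _ := by group
  have hT1 := conj_T hs (F.D_le hrc)
  have hT2 := conj_T hs (F.D_le hD.c_mem)
  have h4 : o1 (s * r * s⁻¹) = 1 := by
    rw [h3, F.o1_mul' hT1 hT2, h1.1, h2.1, one_mul]
  have h5 : o2 (s * r * s⁻¹) = 1 := by
    rw [h3, F.o2_mul' hT1 hT2, F.A_inv _ _ h2.2.2 h2.2.1 h1.2.2 h1.2.1]
    exact h1.2.2
  obtain ⟨w, hw, e, he, h6⟩ := F.ker _ (conj_T hs (F.D_le hD.r_mem)) h4 h5
  refine ⟨w, hw, e, he, ?_, h6⟩
  apply hD.center_of_comm he
  intro b hb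
  have h7 := comm_D F hs hx hb hD.r_mem
  rw [h6] at h7
  have h8 := F.QD_comm hw hb
  have h9 : w * (e * b) = w * (b * e) := by
    calc w * (e * b) = w * e * b := by group
      _ = b * (w * e) := h7.symm
      _ = (b * w) * e := by group
      _ = w * (b * e) := by rw [← h8]; group
  exact mul_left_cancel h9

/-- `o1 = 1` on `Q^s` -/
theorem o1_Qs {v : G} (hv : v ∈ cj s Q) : o1 v = 1 := by
  have hd := three_le F hs hx
  have hD := toDih F hd
  have h1 := refl_o F hs hx hD.c_mem hD.cc hD.c_ne_one hD.c_ne_z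
  have hT2 := conj_T hs (F.D_le hD.c_mem)
  have hvT : v ∈ T := by rw [← hs]; exact cj_mono F.Q_le hv
  refine F.field_o1 _ hT2 ?_ h1.2.1 v hvT ?_
  · have : (s * c * s⁻¹) * (s * c * s⁻¹) = s * (c * c) * s⁻¹ := by group
    rw [this, hD.cc]; group
  · have h2 := F.QD_comm (mem_cj.1 hv) hD.c_mem
    have h3 : v * (s * c * s⁻¹) * v⁻¹ * (s * c * s⁻¹)⁻¹ = 1 := by
      have e1 : v * (s * c * s⁻¹) = (s * c * s⁻¹) * v := by
        calc v * (s * c * s⁻¹) = s * ((s⁻¹ * v * s) * c) * s⁻¹ := by group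
          _ = s * (c * (s⁻¹ * v * s)) * s⁻¹ := by rw [h2]
          _ = (s * c * s⁻¹) * v := by group
      rw [e1]; group
    rw [h3]
    exact one_mem _

omit [Finite G] in
theorem xs_eq {v : G} (hv : v ∈ cj s Q) (hvv : v * v = 1) : v = 1 ∨ v = zz r (d - 1) := by
  have F' := (toFour F).cj s
  rw [← swap_x F hs hx]
  exact F'.uniq v hv hvv

/-- if `s⁻¹ r s = w e`, `e ∈ {1, z}`, `w ∈ Q`, then `Q = ⟨w⟩`. -/
theorem Q_cyc {w e : G} (hw : w ∈ Q) (he : e = 1 ∨ e = zz r (d - 1)) (hr : s⁻¹ * r * s = w * e)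
    {q : G} (hq : q ∈ Q) : q ∈ zpowers w := by
  have hd := three_le F hs hx
  have hD := toDih F hd
  have F' := (toFour F).cj s
  rw [hs] at F'
  obtain ⟨xe, hxe⟩ : ∃ xe, xe = s * e * s⁻¹ := ⟨_, rfl⟩
  have hxe1 : xe = 1 ∨ xe = x := by
    rcases he with h | h
    · left; rw [hxe, h]; group
    · right; rw [hxe, h, swap_z F hs hx]
  have hxeQ : xe ∈ Q := by
    rcases hxe1 with h | h
    · rw [h]; exact one_mem _
    · rw [h]; exact F.x_mem
  have hxexe : xe * xe = 1 := by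
    rcases hxe1 with h | h
    · rw [h, one_mul]
    · rw [h, F.xx]
  have hxeT : ∀ t ∈ T, xe * t = t * xe := by
    intro t ht
    rcases hxe1 with h | h
    · rw [h, one_mul, mul_one]
    · rw [h]; exact F.T_comm t ht
  obtain ⟨w', hw'⟩ : ∃ w', w' = s * w * s⁻¹ := ⟨_, rfl⟩
  have hw'Q : w' ∈ cj s Q := by rw [hw']; exact conj_mem_cj hw
  have hrw : r = w' * xe := by
    have : r = s * (s⁻¹ * r * s) * s⁻¹ := by group
    rw [this, hr, hw', hxe]; group
  have hw'r : w' = r * xe := by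
    rw [hrw, mul_assoc, hxexe, mul_one]
  have hrT : r ∈ T := F.r_T
  have hw'pow : ∀ i : ℤ, w' ^ i = r ^ i * xe ^ i := by
    intro i
    rw [hw'r]
    exact Commute.mul_zpow (hxeT r hrT).symm i
  have hxepow : ∀ i : ℤ, xe ^ (i + i) = 1 := by
    intro i
    rw [zpow_add, ← Commute.mul_zpow (Commute.refl xe), hxexe, one_zpow]
  have hfT := conj_T hs (F.D_le hD.c_mem)
  have hf := refl_o F hs hx hD.c_mem hD.cc hD.c_ne_one hD.c_ne_z
  obtain ⟨f, hfe⟩ : ∃ f, f = s * c * s⁻¹ := ⟨_, rfl⟩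
  rw [← hfe] at hfT hf
  have hff : f * f = 1 := by
    have : (s * c * s⁻¹) * (s * c * s⁻¹) = s * (c * c) * s⁻¹ := by group
    rw [hfe, this, hD.cc]; group
  have hfinv : f⁻¹ = f := inv_eq_of_mul_eq_one_left hff
  have hfD : ∀ b ∈ D, b * f = f * b := fun b hb => by
    rw [hfe]; exact comm_D F hs hx hb hD.c_mem
  have hsqv : ∀ v ∈ cj s Q, v * v ∈ Q → v = 1 ∨ v = zz r (d - 1) := fun v hv h =>
    xs_eq F hs hx hv (inf_Q F hx h (mul_mem hv hv))
  -- (b)
  have hb : ∀ v ∈ cj s Q, o2 v = 1 → v ∈ zpowers w' := by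
    intro v hv h2
    obtain ⟨q0, hq0, e0, he0, h3⟩ := F.ker v (F'.QT hv) (o1_Qs F hs hx hv) h2
    rcases hD.cases he0 with ⟨i, hi⟩ | ⟨i, hi⟩
    · have h4 : v * (w' ^ i)⁻¹ = 1 := by
        apply inf_Q F hx
        · rw [h3, hi, hw'pow]
          have : q0 * r ^ i * (r ^ i * xe ^ i)⁻¹ =
              q0 * (r ^ i * (xe ^ i)⁻¹ * (r ^ i)⁻¹) := by group
          rw [this]
          exact mul_mem hq0 (F.Q_norm _ (zpow_mem hrT i) _ (inv_mem (zpow_mem hxeQ i)))
        · exact mul_mem hv (inv_mem (zpow_mem hw'Q i))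
      rw [mul_inv_eq_one] at h4
      rw [h4]
      exact zpow_mem (mem_zpowers w') i
    · exfalso
      have h4 : v * v ∈ Q := by
        have : v * v = q0 * q0 * (e0 * e0) := by
          rw [h3]
          calc q0 * e0 * (q0 * e0) = q0 * (e0 * q0) * e0 := by group
            _ = q0 * (q0 * e0) * e0 := by rw [F.QD_comm hq0 he0]
            _ = _ := by group
        rw [this, hi, hD.refl_sq, mul_one]
        exact mul_mem hq0 hq0
      rcases hsqv v hv h4 with h5 | h5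
      · rw [h5] at h3
        have h6 := F.QD_unique hq0 (one_mem _) he0 (one_mem _) (h3.symm.trans (one_mul 1).symm)
        exact hD.refl_ne_one i (hi ▸ h6.2)
      · rw [h5] at h3
        have h6 := F.QD_unique hq0 (one_mem _) he0 hD.z_mem (h3.symm.trans (one_mul _).symm)
        exact hD.refl_ne_z i (hi ▸ h6.2)
  -- (c)
  have hc : ∀ v ∈ cj s Q, o2 v ≠ 1 → o2 v * o2 v = 1 → False := by
    intro v hv h2 h2'
    have hvT := F'.QT hv
    have h3 : o1 (v * f) = 1 := by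
      rw [F.o1_mul' hvT hfT, o1_Qs F hs hx hv, hf.1, one_mul]
    have h4 : o2 (v * f) = 1 := by
      rw [F.o2_mul' hvT hfT, F.A_inv _ _ h2' h2 hf.2.2 hf.2.1]
      exact hf.2.2
    obtain ⟨q0, hq0, e0, he0, h5⟩ := F.ker _ (mul_mem hvT hfT) h3 h4
    have h6 : v = q0 * e0 * f := by
      rw [← h5, mul_assoc, hff, mul_one]
    have hq2 : f * q0 * f ∈ Q := by
      have := F.Q_norm f hfT q0 hq0
      rwa [hfinv] at this
    have h7 : v * v = q0 * (f * q0 * f) * (e0 * e0) := by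
      rw [h6]
      calc q0 * e0 * f * (q0 * e0 * f) = q0 * e0 * (f * q0 * (e0 * f)) := by group
        _ = q0 * e0 * (f * q0 * (f * e0)) := by rw [hfD e0 he0]
        _ = q0 * (e0 * (f * q0 * f)) * e0 := by group
        _ = q0 * ((f * q0 * f) * e0) * e0 := by rw [F.QD_comm hq2 he0]
        _ = q0 * (f * q0 * f) * (e0 * e0) := by group
    rcases hD.cases he0 with ⟨i, hi⟩ | ⟨i, hi⟩
    · have h8 : v * r = r * v := by
        rw [h6, hi]
        have e1 := hfD r F.r_mem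
        have e2 := F.QD_comm hq0 F.r_mem
        calc q0 * r ^ i * f * r = q0 * r ^ i * (r * f) := by rw [e1]; group
          _ = (q0 * r) * r ^ i * f := by group
          _ = (r * q0) * r ^ i * f := by rw [e2]
          _ = r * (q0 * r ^ i * f) := by group
      have h9 : Commute v w' := by
        rw [hw'r]
        change v * (r * xe) = r * xe * v
        calc v * (r * xe) = (v * r) * xe := by group
          _ = (r * v) * xe := by rw [h8]
          _ = r * (v * xe) := by group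
          _ = r * (xe * v) := by rw [hxeT v hvT]
          _ = r * xe * v := by group
      have h10 : (v * (w' ^ i)⁻¹) * (v * (w' ^ i)⁻¹) = q0 * (f * q0 * f) := by
        have e1 : v * (w' ^ i)⁻¹ = (w' ^ i)⁻¹ * v := (h9.zpow_right i).inv_right
        have e2 : w' ^ i * w' ^ i = r ^ i * r ^ i := by
          rw [← zpow_add, hw'pow, hxepow, mul_one, ← zpow_add]
        calc (v * (w' ^ i)⁻¹) * (v * (w' ^ i)⁻¹) = (v * (w' ^ i)⁻¹) * ((w' ^ i)⁻¹ * v) := by
              rw [← e1]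
          _ = v * (w' ^ i * w' ^ i)⁻¹ * v := by group
          _ = v * (r ^ i * r ^ i)⁻¹ * v := by rw [e2]
          _ = (r ^ i * r ^ i)⁻¹ * (v * v) := by
            have e3 : Commute v (r ^ i * r ^ i)⁻¹ :=
              (((show Commute v r from h8).zpow_right i).mul_right
                ((show Commute v r from h8).zpow_right i)).inv_right
            rw [e3.eq]; group
          _ = (r ^ i * r ^ i)⁻¹ * (q0 * (f * q0 * f) * (r ^ i * r ^ i)) := by rw [h7, hi]
          _ = q0 * (f * q0 * f) := by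
            have e4 : q0 * (f * q0 * f) * (r ^ i * r ^ i) =
                (r ^ i * r ^ i) * (q0 * (f * q0 * f)) :=
              F.QD_comm (mul_mem hq0 hq2) (mul_mem (zpow_mem F.r_mem i) (zpow_mem F.r_mem i))
            rw [e4]; group
      have h11 := hsqv (v * (w' ^ i)⁻¹) (mul_mem hv (inv_mem (zpow_mem hw'Q i)))
        (h10 ▸ mul_mem hq0 hq2)
      have h12 : o2 (v * (w' ^ i)⁻¹) = 1 := by
        rcases h11 with h | h
        · rw [h, F.o2_one]
        · rw [h, F.o2_D hD.z_mem]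
      apply h2
      have hw'T : w' ∈ T := F'.QT hw'Q
      have h13 : o2 (w' ^ i) = 1 := by
        rw [o2_zpow F hw'T, hw'r, F.o2_mul' hrT (F.Q_le hxeQ), F.o2_D F.r_mem, F.o2_Q _ hxeQ,
          one_mul, one_zpow]
      have h14 : v = (v * (w' ^ i)⁻¹) * w' ^ i := by group
      rw [h14, F.o2_mul' (mul_mem hvT (inv_mem (zpow_mem hw'T i))) (zpow_mem hw'T i), h12, h13,
        one_mul]
    · rw [hi, hD.refl_sq, mul_one] at h7
      rcases hsqv v hv (h7 ▸ mul_mem hq0 hq2) with h | h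
      · exact h2 (by rw [h, F.o2_one])
      · exact h2 (by rw [h, F.o2_D hD.z_mem])
  -- (d)
  have hd' : ∀ v ∈ cj s Q, v ∈ zpowers w' := by
    intro v hv
    apply hb v hv
    by_contra h2
    obtain ⟨m, h3, h4⟩ := exists_pow F (F'.QT hv) h2
    exact hc _ (pow_mem hv m) h3 h4
  obtain ⟨i, hi⟩ := mem_zpowers_iff.1 (hd' _ (conj_mem_cj (g := s) hq))
  rw [mem_zpowers_iff]
  refine ⟨i, ?_⟩
  have h1 : s * w ^ i * s⁻¹ = s * q * s⁻¹ := by
    rw [← hi, hw', conj_zpow]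
  exact mul_left_cancel (mul_right_cancel h1)

omit [Finite G] [Group A] F in
theorem inv_hyp : cj s⁻¹ T = T ∧ s⁻¹ * x * s⁻¹⁻¹ ≠ x := by
  constructor
  · have := cj_inv_cj s T
    rwa [hs] at this
  · intro h
    apply hx
    have h1 : s * (s⁻¹ * x * s⁻¹⁻¹) * s⁻¹ = s * x * s⁻¹ := by rw [h]
    rw [← h1]; group

/-- data on `Q`: `s r s⁻¹ = w e` and `Q = ⟨w⟩`. -/
theorem exists_w : ∃ w ∈ Q, ∃ e ∈ D, (e = 1 ∨ e = zz r (d - 1)) ∧ s * r * s⁻¹ = w * e ∧
    ∀ q ∈ Q, q ∈ zpowers w := by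
  obtain ⟨w, hw, e, he, he1, h1⟩ := exists_rho F hs hx
  obtain ⟨h2, h3⟩ := inv_hyp hs hx
  refine ⟨w, hw, e, he, he1, h1, fun q hq => ?_⟩
  refine Q_cyc F h2 h3 hw he1 ?_ hq
  rw [← h1, inv_inv]

/-- **(6)** elements of `T` with `o1 = 1` lie in `D D^s`. -/
theorem mem_T0_of {t : G} (ht : t ∈ T) (h1 : o1 t = 1) : InT0 D s t := by
  have hd := three_le F hs hx
  have hD := toDih F hd
  obtain ⟨w, hw, e, he, he1, hwe, hcyc⟩ := exists_w F hs hx
  have hfT := conj_T hs (F.D_le hD.c_mem)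
  have hf := refl_o F hs hx hD.c_mem hD.cc hD.c_ne_one hD.c_ne_z
  obtain ⟨f, hfe⟩ : ∃ f, f = s * c * s⁻¹ := ⟨_, rfl⟩
  rw [← hfe] at hfT hf
  have hff : f * f = 1 := by
    have : (s * c * s⁻¹) * (s * c * s⁻¹) = s * (c * c) * s⁻¹ := by group
    rw [hfe, this, hD.cc]; group
  have hfinv : f⁻¹ = f := inv_eq_of_mul_eq_one_left hff
  have hfD : ∀ b ∈ D, b * f = f * b := fun b hb => by
    rw [hfe]; exact comm_D F hs hx hb hD.c_mem
  have hee : e * e = 1 := by
    rcases he1 with h | h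
    · rw [h, one_mul]
    · rw [h, hD.z_sq]
  have heinv : e⁻¹ = e := inv_eq_of_mul_eq_one_left hee
  -- elements of `Q`
  have hQ0 : ∀ q ∈ Q, ∃ a ∈ D, ∃ i : ℤ, q = a * (s * r ^ i * s⁻¹) := by
    intro q hq
    obtain ⟨i, rfl⟩ := mem_zpowers_iff.1 (hcyc q hq)
    refine ⟨e ^ (-i), zpow_mem he _, i, ?_⟩
    have h2 : (s * r * s⁻¹) ^ i = w ^ i * e ^ i := by
      rw [hwe]
      exact Commute.mul_zpow (F.QD_comm hw he) i
    have h3 : s * r ^ i * s⁻¹ = e ^ i * w ^ i := by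
      rw [← conj_zpow, h2, F.QD_comm (zpow_mem hw i) (zpow_mem he i)]
    rw [h3, ← mul_assoc, ← zpow_add, neg_add_cancel, zpow_zero, one_mul]
  have hQD : ∀ q ∈ Q, ∀ a ∈ D, ∃ b ∈ D, ∃ i : ℤ, q * a = b * (s * r ^ i * s⁻¹) := by
    intro q hq a ha
    obtain ⟨b, hb, i, h2⟩ := hQ0 q hq
    refine ⟨a * b, mul_mem ha hb, i, ?_⟩
    rw [F.QD_comm hq ha, h2]; group
  by_cases h2 : o2 t = 1
  · obtain ⟨q, hq, a, ha, h3⟩ := F.ker t ht h1 h2
    obtain ⟨b, hb, i, h4⟩ := hQD q hq a ha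
    exact ⟨b, hb, r ^ i, zpow_mem F.r_mem i, h3.trans h4⟩
  by_cases h3 : o2 t * o2 t = 1
  · have h4 : o1 (t * f) = 1 := by rw [F.o1_mul' ht hfT, h1, hf.1, one_mul]
    have h5 : o2 (t * f) = 1 := by
      rw [F.o2_mul' ht hfT, F.A_inv _ _ h3 h2 hf.2.2 hf.2.1]
      exact hf.2.2
    obtain ⟨q, hq, a, ha, h6⟩ := F.ker _ (mul_mem ht hfT) h4 h5
    obtain ⟨b, hb, i, h7⟩ := hQD q hq a ha
    refine ⟨b, hb, r ^ i * c, mul_mem (zpow_mem F.r_mem i) F.c_mem, ?_⟩
    have h8 : t = q * a * f := by rw [← h6, mul_assoc, hff, mul_one]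
    rw [h8, h7, hfe]; group
  · exfalso
    obtain ⟨m, h4, h5⟩ := exists_pow_four F ht h3
    obtain ⟨t1, ht1⟩ : ∃ t1, t1 = t ^ m := ⟨_, rfl⟩
    have ht1T : t1 ∈ T := ht1 ▸ pow_mem ht m
    rw [← ht1] at h4 h5
    have ht2T : t1 * t1 ∈ T := mul_mem ht1T ht1T
    have h6 : o1 (t1 * t1 * f) = 1 := by
      rw [F.o1_mul' ht2T hfT, F.o1_sq ht1T, hf.1, one_mul]
    have h7 : o2 (t1 * t1 * f) = 1 := by
      rw [F.o2_mul' ht2T hfT, F.o2_mul' ht1T ht1T, F.A_inv _ _ h5 h4 hf.2.2 hf.2.1]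
      exact hf.2.2
    obtain ⟨q, hq, a, ha, h8⟩ := F.ker _ (mul_mem ht2T hfT) h6 h7
    have h9 : t1 * t1 = q * a * f := by rw [← h8, mul_assoc, hff, mul_one]
    -- `Q` is commutative
    have hQc : ∀ u ∈ Q, ∀ v ∈ Q, u * v = v * u := by
      intro u hu v hv
      obtain ⟨i, rfl⟩ := mem_zpowers_iff.1 (hcyc u hu)
      obtain ⟨j, rfl⟩ := mem_zpowers_iff.1 (hcyc v hv)
      rw [← zpow_add, ← zpow_add, add_comm]
    -- `f` inverts `Q`
    have h10 : f * w * f⁻¹ = w⁻¹ := by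
      have e1 : f * (s * r * s⁻¹) * f⁻¹ = (s * r * s⁻¹)⁻¹ := by
        calc f * (s * r * s⁻¹) * f⁻¹ = s * (c * r * c⁻¹) * s⁻¹ := by rw [hfe]; group
          _ = s * r⁻¹ * s⁻¹ := by rw [F.crc]
          _ = (s * r * s⁻¹)⁻¹ := by group
      rw [hwe] at e1
      have e2 : f * e * f⁻¹ = e := by rw [← hfD e he]; group
      have e3 : f * (w * e) * f⁻¹ = (f * w * f⁻¹) * (f * e * f⁻¹) := by group
      rw [e3, e2] at e1
      have e4 : f * w * f⁻¹ = (w * e)⁻¹ * e⁻¹ := by rw [← e1]; group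
      rw [e4, mul_inv_rev, heinv, F.QD_comm (inv_mem hw) he |>.symm, mul_assoc, hee, mul_one]
    have h11 : ∀ u ∈ Q, f * u * f⁻¹ = u⁻¹ := by
      intro u hu
      obtain ⟨i, rfl⟩ := mem_zpowers_iff.1 (hcyc u hu)
      rw [← conj_zpow, h10, inv_zpow]
    obtain ⟨u, hu, huu⟩ := F.Q_four
    have h12 : (t1 * t1) * u * (t1 * t1)⁻¹ = u⁻¹ := by
      rw [h9]
      calc q * a * f * u * (q * a * f)⁻¹ = q * (a * (f * u * f⁻¹) * a⁻¹) * q⁻¹ := by group
        _ = q * (a * u⁻¹ * a⁻¹) * q⁻¹ := by rw [h11 u hu]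
        _ = q * u⁻¹ * q⁻¹ := by
          rw [← F.QD_comm (inv_mem hu) ha]; group
        _ = u⁻¹ := by rw [hQc q hq _ (inv_mem hu)]; group
    have h13 : t1 * u * t1⁻¹ ∈ Q := F.Q_norm t1 ht1T u hu
    have h14 : t1 * u * t1⁻¹ = u ∨ t1 * u * t1⁻¹ = u⁻¹ := by
      have e1 : (t1 * u * t1⁻¹ * u) * (t1 * u * t1⁻¹ * u) = 1 := by
        calc (t1 * u * t1⁻¹ * u) * (t1 * u * t1⁻¹ * u) =
            (t1 * u * t1⁻¹) * (u * (t1 * u * t1⁻¹)) * u := by group
          _ = (t1 * u * t1⁻¹) * ((t1 * u * t1⁻¹) * u) * u := by rw [hQc u hu _ h13]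
          _ = (t1 * (u * u) * t1⁻¹) * (u * u) := by group
          _ = 1 := by
            rw [huu, ← F.T_comm t1 ht1T, mul_inv_cancel_right, F.xx]
      rcases F.Q_inv _ (mul_mem h13 hu) e1 with e2 | e2
      · right; exact eq_inv_of_mul_eq_one_left e2
      · left
        rw [← huu] at e2
        exact mul_right_cancel e2
    have h15 : (t1 * t1) * u * (t1 * t1)⁻¹ = u := by
      have e1 : (t1 * t1) * u * (t1 * t1)⁻¹ = t1 * (t1 * u * t1⁻¹) * t1⁻¹ := by group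
      rw [e1]
      rcases h14 with e2 | e2
      · rw [e2, e2]
      · rw [e2]
        have e3 : t1 * u⁻¹ * t1⁻¹ = (t1 * u * t1⁻¹)⁻¹ := by group
        rw [e3, e2, inv_inv]
    rw [h15] at h12
    have h16 : u * u = 1 := by
      calc u * u = u⁻¹ * u := by rw [← h12]
        _ = 1 := by group
    rw [h16] at huu
    exact F.x_ne huu.symm

/-- `o1 = 1` on `D^s` -/
theorem o1_Ds {b : G} (hb : b ∈ D) : o1 (s * b * s⁻¹) = 1 := by
  have hd := three_le F hs hx
  have hD := toDih F hd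
  have h0 : ∀ i : ℤ, o1 (s * (r ^ i * c) * s⁻¹) = 1 := fun i =>
    (refl_o F hs hx (mul_mem (zpow_mem F.r_mem i) F.c_mem) (hD.refl_sq i) (hD.refl_ne_one i)
      (hD.refl_ne_z i)).1
  rcases hD.cases hb with ⟨i, rfl⟩ | ⟨i, rfl⟩
  · have h1 : s * r ^ i * s⁻¹ = (s * (r ^ i * c) * s⁻¹) * (s * (r ^ (0 : ℤ) * c) * s⁻¹) := by
      calc s * r ^ i * s⁻¹ = s * (r ^ i * (c * c)) * s⁻¹ := by rw [hD.cc, mul_one]
        _ = _ := by rw [zpow_zero, one_mul]; group
    rw [h1, F.o1_mul' (conj_T hs (F.D_le (mul_mem (zpow_mem F.r_mem i) F.c_mem)))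
      (conj_T hs (F.D_le (mul_mem (zpow_mem F.r_mem 0) F.c_mem))), h0, h0, one_mul]
  · exact h0 i

theorem inT0_iff {t : G} (ht : t ∈ T) : InT0 D s t ↔ o1 t = 1 := by
  constructor
  · rintro ⟨a, ha, b, hb, rfl⟩
    rw [F.o1_mul' (F.D_le ha) (conj_T hs (F.D_le hb)), F.o1_D ha, o1_Ds F hs hx hb, one_mul]
  · exact mem_T0_of F hs hx ht

theorem cent_D {t : G} (ht : t ∈ T) (h : ∀ e ∈ D, t * e = e * t) :
    ∃ f ∈ D, t = s * f * s⁻¹ ∨ t = zz r (d - 1) * (s * f * s⁻¹) := by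
  have hd := three_le F hs hx
  have hD := toDih F hd
  have h1 : o1 t = 1 := by
    have h7 : t * c * t⁻¹ = r ^ (0 : ℤ) * c := by
      rw [h c F.c_mem]; group
    exact (F.swap hd _ ht 0 h7).2 (by decide)
  obtain ⟨a, ha, b, hb, rfl⟩ := mem_T0_of F hs hx ht h1
  refine ⟨b, hb, ?_⟩
  have h2 : a = 1 ∨ a = zz r (d - 1) := by
    apply hD.center_of_comm ha
    intro e he
    have h3 := h e he
    have h4 := comm_D F hs hx he hb
    have h5 : a * e * (s * b * s⁻¹) = e * a * (s * b * s⁻¹) := by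
      calc a * e * (s * b * s⁻¹) = a * (e * (s * b * s⁻¹)) := by group
        _ = a * (s * b * s⁻¹ * e) := by rw [h4]
        _ = a * (s * b * s⁻¹) * e := by group
        _ = e * (a * (s * b * s⁻¹)) := h3
        _ = e * a * (s * b * s⁻¹) := by group
    exact mul_right_cancel h5
  rcases h2 with h3 | h3
  · left; rw [h3, one_mul]
  · right; rw [h3]

end swap

/-- the swap configuration -/
theorem sw [Finite G] (F : Frame x K T D Q d r c o1 o2) {P : Subgroup G} (hP : IsPGroup 2 P)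
    (hTP : T ≤ P) {s : G} (hsP : s ∈ P) (hsT : s ∉ T) (hs : cj s T = T) :
    3 ≤ d ∧ s * x * s⁻¹ = zz r (d - 1) ∧ s * zz r (d - 1) * s⁻¹ = x ∧
      Sw P T D s r c (d - 1) := by
  have hx : s * x * s⁻¹ ≠ x := by
    intro h
    apply hsT
    apply mem_T_of_comm F hP hTP hsP
    rw [mul_inv_eq_iff_eq_mul] at h
    exact h.symm
  have hd := three_le F hs hx
  have h1 := swap_x F hs hx
  have h2 := swap_z F hs hx
  refine ⟨hd, h1, h2, ?_⟩
  have huu : ∀ a b : ℤˣ, a ≠ 1 → b ≠ 1 → a * b = 1 := by decide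
  exact
    { dih := toDih F hd
      pS := hP
      DT := F.D_le
      TS := hTP
      Dn := fun t ht e he => F.D_norm ht he
      sS := hsP
      sT := hsT
      nT := fun t ht => conj_T hs ht
      nT' := fun t ht => conj_T' hs ht
      comm := fun a ha b hb => comm_D F hs hx ha hb
      disj := by
        intro a ha h3
        have h4 := disj_D F hs hx h3 (conj_mem_cj ha)
        have : a = s⁻¹ * (s * a * s⁻¹) * s := by group
        rw [this, h4]; group
      cenT := by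
        intro g hg h3
        have h4 : s⁻¹ * g * s ∈ T := by
          apply mem_T_of_comm F hP hTP (mul_mem (mul_mem (inv_mem hsP) hg) hsP)
          calc x * (s⁻¹ * g * s) = s⁻¹ * ((s * x * s⁻¹) * g) * s := by group
            _ = s⁻¹ * (g * (s * x * s⁻¹)) * s := by rw [h1, h3]
            _ = s⁻¹ * g * s * x := by group
        have h5 := conj_T hs h4
        have : s * (s⁻¹ * g * s) * s⁻¹ = g := by group
        rwa [this] at h5
      swap := by rw [h2, h1]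
      idx := by
        intro a ha b hb h3 h4
        rw [inT0_iff F hs hx ha] at h3
        rw [inT0_iff F hs hx hb] at h4
        rw [inT0_iff F hs hx (mul_mem ha hb), F.o1_mul' ha hb]
        exact huu _ _ h3 h4
      cls := by
        intro a ha h3
        rw [inT0_iff F hs hx ha] at h3
        obtain ⟨k, hk⟩ := F.conj_c hd ha
        refine ⟨k, ?_, hk⟩
        rw [← Int.not_even_iff_odd]
        exact fun h4 => h3 ((F.swap hd a ha k hk).2 h4)
      cenD := fun g hg h => cent_D F hs hx hg h }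

theorem zz_d (r : G) (d : ℕ) : zz r (d - 1) = r ^ 2 ^ (d - 2) := by
  rw [zz, Nat.sub_sub]

/-- **CASE I, (6) and (7)**: if `T` is properly contained in the Sylow 2-subgroup `P`, then `Dbl`. -/
theorem dbl [Finite G] (F : Frame x K T D Q d r c o1 o2) {P : Subgroup G} (hP : IsPGroup 2 P)
    (hTP : T ≤ P) (hne : T ≠ P) : ∃ (s : G) (T0 : Subgroup G),
      Dbl x (r ^ 2 ^ (d - 2)) P T T0 D d r c s ∧ (∀ t ∈ T, t ∈ T0 ↔ o1 t = 1) := by
  obtain ⟨s, hsP, hsT, h1⟩ := E.exists_mem_normalizer hP hTP hne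
  have hs : cj s T = T := by
    apply Subgroup.eq_of_le_of_card_ge
    · rintro _ ⟨g, hg, rfl⟩
      exact h1 g hg
    · rw [cj_def, Subgroup.card_map_of_injective (MulAut.conj s).injective]
  obtain ⟨hd, h2, h3, W⟩ := sw F hP hTP hsP hsT hs
  have hx : s * x * s⁻¹ ≠ x := by
    intro h
    apply hsT
    apply mem_T_of_comm F hP hTP hsP
    rw [mul_inv_eq_iff_eq_mul] at h
    exact h.symm
  rw [zz_d] at h2 h3
  refine ⟨s, W.T0, ?_, fun t ht => ?_⟩
  · exact
    { S_two := hP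
      T_le := hTP
      s_mem := hsP
      s_not := hsT
      S_form := fun g hg hgT => (W.mem_S.1 hg).resolve_left hgT
      T_iff := fun g hg => ⟨fun h => F.T_comm g h, fun h => mem_T_of_comm F hP hTP hg h⟩
      d_ge := hd
      D_le := F.D_le
      D_norm := fun t ht e he => F.D_norm ht he
      r_mem := F.r_mem
      c_mem := F.c_mem
      cc := F.cc
      crc := F.crc
      or_eq := F.or_eq
      c_not := F.c_not
      D_form := F.D_form
      z_eq := rfl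
      sz := h3
      sx := h2
      comm := fun e he f hf => W.comm e he f hf
      disj := by
        intro e he f hf h4
        have h5 := W.disj f hf (h4 ▸ he)
        rw [h4, h5]; group
      mem_T0 := fun g => W.mem_T0
      swap := by
        intro t ht k hk
        rw [W.mem_T0, inT0_iff F hs hx ht]
        exact F.swap hd t ht k hk
      cent_D := by
        intro t ht h
        rw [← zz_d]
        exact cent_D F hs hx ht h }
  · rw [W.mem_T0]
    exact inT0_iff F hs hx ht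

end Cfsg.Agent.GH.L2One.CaseOne
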