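import Cfsg.Agent.GH.L2One.Frame
import Cfsg.Agent.SylowSp4.Extremal
import Cfsg.Agent.S0215

/-!
# GH-L2, `m_2(Q) = 1`, `|Q| ≥ 4`: CASE II, `T` is a Sylow 2-subgroup of `G`
-/

set_option autoImplicit false

open Subgroup

namespace Cfsg.Agent.GH.L2One

variable {G A : Type*} [Group G] [Group A]

/-- A nontrivial element of a 2-group has a power which is an involution. -/
theorem exists_invol_pow {T : Subgroup G} (hT : IsPGroup 2 T) {w : G} (hw : w ∈ T) (h1 : w ≠ 1) :
    ∃ n : ℕ, w ^ n ≠ 1 ∧ w ^ n * w ^ n = 1 := by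
  obtain ⟨k, hk⟩ := hT ⟨w, hw⟩
  have hk' : w ^ 2 ^ k = 1 := congrArg Subtype.val hk
  have hex : ∃ k : ℕ, w ^ 2 ^ k = 1 := ⟨k, hk'⟩
  classical
  have hm := Nat.find_spec hex
  have hmin := fun j (hj : j < Nat.find hex) => Nat.find_min hex hj
  obtain ⟨m, hm'⟩ : ∃ m, Nat.find hex = m + 1 := by
    rcases Nat.eq_zero_or_pos (Nat.find hex) with h | h
    · exfalso
      rw [h, pow_zero, pow_one] at hm
      exact h1 hm
    · exact ⟨Nat.find hex - 1, by omega⟩
  refine ⟨2 ^ m, hmin m (by omega), ?_⟩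
  rw [← pow_add, ← mul_two, ← pow_succ, ← hm', hm]

/-- In a 2-group with one involution `x`, an element `≠ 1, x` has a power squaring to `x`. -/
theorem exists_four_pow {T : Subgroup G} (hT : IsPGroup 2 T) {w : G} (hw : w ∈ T)
    (h2 : w * w ≠ 1) : ∃ n : ℕ, w ^ n * w ^ n ≠ 1 ∧ w ^ n * w ^ n * (w ^ n * w ^ n) = 1 := by
  obtain ⟨n, h1, h3⟩ := exists_invol_pow hT (T.mul_mem hw hw) h2
  refine ⟨n, ?_, ?_⟩
  · rwa [← mul_pow_of_comm' w n] at h1
  · rw [← mul_pow_of_comm' w n] at h3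
    exact h3
where
  mul_pow_of_comm' (w : G) (n : ℕ) : w ^ n * w ^ n = (w * w) ^ n := by
    rw [(Commute.refl w).mul_pow]

section norm

variable {T : Subgroup G}

theorem norm_iff_of_le [Finite G] {g : G} (h : ∀ t ∈ T, g * t * g⁻¹ ∈ T) (t : G) :
    t ∈ T ↔ g * t * g⁻¹ ∈ T := by
  have hle : T.map (MulAut.conj g).toMonoidHom ≤ T := by
    rintro _ ⟨t, ht, rfl⟩
    exact h t ht
  have heq : T.map (MulAut.conj g).toMonoidHom = T := by
    apply Subgroup.eq_of_le_of_card_ge hle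
    rw [Subgroup.card_map_of_injective (MulAut.conj g).injective]
  refine ⟨h t, fun ht => ?_⟩
  rw [← heq] at ht
  obtain ⟨t', ht', e⟩ := ht
  have e' : g * t' * g⁻¹ = g * t * g⁻¹ := e
  have : t' = t := mul_left_cancel (mul_right_cancel e')
  exact this ▸ ht'

theorem mem_normalizer_of_iff {g : G} (h : ∀ t, t ∈ T ↔ g * t * g⁻¹ ∈ T) :
    g ∈ normalizer (T : Set G) := by
  rw [mem_normalizer_iff]
  exact h

/-- an element normalising a Sylow 2-subgroup has an odd power in it -/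
theorem exists_odd_pow [Finite G] (P : Sylow 2 G) {g : G} (hg : g ∈ normalizer ((P : Subgroup G) : Set G)) :
    ∃ m : ℕ, Odd m ∧ g ^ m ∈ (P : Subgroup G) := by
  have : Fact (Nat.Prime 2) := ⟨Nat.prime_two⟩
  obtain ⟨a, m, hm, ham⟩ := Nat.exists_eq_two_pow_mul_odd (orderOf_pos g).ne'
  refine ⟨m, hm, ?_⟩
  have h1 : orderOf (g ^ m) = 2 ^ a := by
    rw [orderOf_pow, ham, Nat.gcd_eq_right (Dvd.intro_left _ rfl), Nat.mul_div_cancel _ hm.pos]
  have h2 : IsPGroup 2 (zpowers (g ^ m)) := by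
    apply IsPGroup.of_card (n := a)
    rw [Nat.card_zpowers, h1]
  have h3 := IsPGroup.inf_normalizer_sylow h2 P
  have h4 : g ^ m ∈ zpowers (g ^ m) ⊓ normalizer (P : Set G) :=
    ⟨mem_zpowers _, pow_mem hg m⟩
  rw [h3] at h4
  exact h4.2

/-- `g ∈ N(S)` with `g²` fixing `a ∈ Z(S)` fixes `a` -/
theorem fix_of_sq [Finite G] (P : Sylow 2 G) {g a : G} (hg : g ∈ normalizer ((P : Subgroup G) : Set G))
    (ha : ∀ t ∈ (P : Subgroup G), a * t = t * a) (h2 : g * g * a = a * (g * g)) :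
    g * a = a * g := by
  obtain ⟨m, ⟨k, hk⟩, hmP⟩ := exists_odd_pow P hg
  have h3 := ha _ hmP
  have h4 : Commute a (g * g) := h2.symm
  have h5 : Commute a ((g * g) ^ k) := h4.pow_right k
  have h6 : g ^ m = (g * g) ^ k * g := by
    rw [hk, pow_succ, pow_mul, pow_two]
  rw [h6] at h3
  have h7 : Commute a g := by
    have h8 : Commute a (((g * g) ^ k)⁻¹ * ((g * g) ^ k * g)) := (h5.inv_right).mul_right h3
    rwa [inv_mul_cancel_left] at h8
  exact h7.symm.eq

end norm

namespace Frame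

variable {x : G} {K T D Q : Subgroup G} {d : ℕ} {r c : G} {o1 : G → ℤˣ} {o2 : G → A}

/-- (1) a conjugate `≠ x` of `x` under `N(T)` is in `D`. -/
theorem conj_x_mem_D (F : Frame x K T D Q d r c o1 o2) {g : G} (hg : ∀ t, t ∈ T ↔ g * t * g⁻¹ ∈ T)
    (hne : g * x * g⁻¹ ≠ x) : g * x * g⁻¹ ∈ D := by
  obtain ⟨q, hq, hqq⟩ := F.Q_four
  by_contra hD
  have hvT : g * q * g⁻¹ ∈ T := (hg q).1 (F.Q_le hq)
  have hvv : g * q * g⁻¹ * (g * q * g⁻¹) = g * x * g⁻¹ := by
    rw [← hqq]; group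
  have hcomm : ∀ e ∈ D, g * q * g⁻¹ * e = e * (g * q * g⁻¹) := by
    intro e he
    set w := g * q * g⁻¹ * e * (g * q * g⁻¹)⁻¹ * e⁻¹ with hw
    have hwD : w ∈ D := D.mul_mem (F.D_norm hvT he) (D.inv_mem he)
    have heT : g⁻¹ * e * g ∈ T := by
      rw [hg]
      have : g * (g⁻¹ * e * g) * g⁻¹ = e := by group
      rw [this]; exact F.D_le he
    have hwQ : g⁻¹ * w * g ∈ Q := by
      have : g⁻¹ * w * g = q * ((g⁻¹ * e * g) * q⁻¹ * (g⁻¹ * e * g)⁻¹) := by
        rw [hw]; group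
      rw [this]
      exact Q.mul_mem hq (F.Q_norm _ heT _ (Q.inv_mem hq))
    by_contra hne'
    have hw1 : w ≠ 1 := by
      intro h
      apply hne'
      calc g * q * g⁻¹ * e = w * (e * (g * q * g⁻¹)) := by rw [hw]; group
        _ = e * (g * q * g⁻¹) := by rw [h, one_mul]
    obtain ⟨n, hn1, hn2⟩ := exists_invol_pow F.T_two (F.D_le hwD) hw1
    have h3 : g⁻¹ * w ^ n * g ∈ Q := by
      have : g⁻¹ * w ^ n * g = (g⁻¹ * w * g) ^ n := by
        have := conj_pow (i := n) (a := g⁻¹) (b := w)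
        rw [inv_inv] at this
        exact this.symm
      rw [this]; exact Q.pow_mem hwQ n
    have h4 : g⁻¹ * w ^ n * g * (g⁻¹ * w ^ n * g) = 1 := by
      calc g⁻¹ * w ^ n * g * (g⁻¹ * w ^ n * g) = g⁻¹ * (w ^ n * w ^ n) * g := by group
        _ = 1 := by rw [hn2]; group
    rcases F.Q_inv _ h3 h4 with h5 | h5
    · apply hn1
      calc w ^ n = g * (g⁻¹ * w ^ n * g) * g⁻¹ := by group
        _ = 1 := by rw [h5]; group
    · apply hD
      have : g * x * g⁻¹ = w ^ n := by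
        rw [← h5]; group
      rw [this]; exact D.pow_mem hwD n
  have h1 := F.sq_mem _ hvT hcomm
  rw [hvv] at h1
  rcases F.Q_inv _ h1 (by
    calc g * x * g⁻¹ * (g * x * g⁻¹) = g * (x * x) * g⁻¹ := by group
      _ = 1 := by rw [F.xx]; group) with h2 | h2
  · apply F.x_ne
    calc x = g⁻¹ * (g * x * g⁻¹) * g := by group
      _ = 1 := by rw [h2]; group
  · exact hne h2

/-- (2) if `d = 2`, then `N(T)` fixes `x`. -/
theorem conj_x_two (F : Frame x K T D Q d r c o1 o2) (hd : d = 2) {g : G}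
    (hg : ∀ t, t ∈ T ↔ g * t * g⁻¹ ∈ T) : g * x * g⁻¹ = x := by
  by_contra hne
  have hyD := F.conj_x_mem_D hg hne
  obtain ⟨q, hq, hqq⟩ := F.Q_four
  have hvT : g * q * g⁻¹ ∈ T := (hg q).1 (F.Q_le hq)
  have hvv : g * q * g⁻¹ * (g * q * g⁻¹) = g * x * g⁻¹ := by
    rw [← hqq]; group
  set v := g * q * g⁻¹ with hv
  set y := g * x * g⁻¹ with hy
  have hy1 : y ≠ 1 := by
    intro h
    apply F.x_ne
    calc x = g⁻¹ * y * g := by rw [hy]; group
      _ = 1 := by rw [h]; group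
  have hyy : y * y = 1 := by
    calc y * y = g * (x * x) * g⁻¹ := by rw [hy]; group
      _ = 1 := by rw [F.xx]; group
  have hyc : ∀ t ∈ T, y * t = t * y := by
    intro t ht
    have h1 : g⁻¹ * t * g ∈ T := by
      rw [hg]
      have : g * (g⁻¹ * t * g) * g⁻¹ = t := by group
      rw [this]; exact ht
    have h2 := F.T_comm _ h1
    calc y * t = g * (x * (g⁻¹ * t * g)) * g⁻¹ := by rw [hy]; group
      _ = g * (g⁻¹ * t * g * x) * g⁻¹ := by rw [h2]
      _ = t * y := by rw [hy]; group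
  -- `D` is elementary abelian
  have hDD : ∀ e ∈ D, e * e = 1 := by
    intro e he
    have hr : r * r = 1 := by
      have := orderOf_dvd_iff_pow_eq_one.1 (show orderOf r ∣ 2 by rw [F.or_eq, hd]; norm_num)
      rwa [pow_two] at this
    obtain ⟨k, hk⟩ := F.D_form e he
    rcases hk with h | h
    · rw [h, ← zpow_add, ← two_mul, zpow_mul, zpow_two, hr, one_zpow]
    · rw [h, F.refl_sq]
  -- squares of elements of `QD` are in `Q`
  have hsq : ∀ t ∈ T, o1 t = 1 → t * t ∈ Q := by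
    intro t ht h1
    obtain ⟨p, hp, e, he, rfl⟩ := F.ker t ht h1 (F.small hd t ht).1
    have : p * e * (p * e) = p * p := by
      calc p * e * (p * e) = p * (e * p) * e := by group
        _ = p * (p * e) * e := by rw [F.QD_comm hp he]
        _ = p * p * (e * e) := by group
        _ = p * p := by rw [hDD e he, mul_one]
    rw [this]; exact Q.mul_mem hp hp
  have hyQ : y ∉ Q := by
    intro h
    rcases F.Q_inv _ h hyy with h1 | h1
    · exact hy1 h1
    · exact hne h1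
  have hv1 : o1 v ≠ 1 := by
    intro h
    have := hsq v hvT h
    rw [hvv] at this
    exact hyQ this
  -- the elements of `gQg⁻¹` in `QD` are `1`, `y`
  have hQ' : ∀ p ∈ Q, o1 (g * p * g⁻¹) = 1 → g * p * g⁻¹ = 1 ∨ g * p * g⁻¹ = y := by
    intro p hp h1
    have hpT : g * p * g⁻¹ ∈ T := (hg p).1 (F.Q_le hp)
    have h2 := hsq _ hpT h1
    have h3 : g * p * g⁻¹ * (g * p * g⁻¹) = g * (p * p) * g⁻¹ := by group
    rw [h3] at h2
    have h4 : p * p = 1 := by
      by_contra h5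
      obtain ⟨n, hn1, hn2⟩ := exists_invol_pow F.T_two (F.Q_le (Q.mul_mem hp hp)) h5
      have h6 : (p * p) ^ n = x := by
        rcases F.Q_inv _ (Q.pow_mem (Q.mul_mem hp hp) n) hn2 with h | h
        · exact absurd h hn1
        · exact h
      apply hyQ
      have h7 : y = (g * (p * p) * g⁻¹) ^ n := by
        rw [conj_pow, h6]
      rw [h7]; exact Q.pow_mem h2 n
    rcases F.Q_inv p hp h4 with h | h
    · left; rw [h]; group
    · right; rw [h]
  -- `v` commutes with `gQg⁻¹`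
  have hvQ : ∀ p ∈ Q, q * p = p * q := by
    intro p hp
    have hpT : g * p * g⁻¹ ∈ T := (hg p).1 (F.Q_le hp)
    have key : v * (g * p * g⁻¹) = g * p * g⁻¹ * v := by
      by_cases h : o1 (g * p * g⁻¹) = 1
      · rcases hQ' p hp h with h1 | h1
        · rw [h1]; group
        · rw [h1]; exact (hyc v hvT).symm
      · -- `p q⁻¹`
        have h1 : o1 (g * (p * q⁻¹) * g⁻¹) = 1 := by
          have e1 : g * (p * q⁻¹) * g⁻¹ = g * p * g⁻¹ * v⁻¹ := by rw [hv]; group
          rw [e1, F.o1_mul' hpT (T.inv_mem hvT), F.o1_inv hvT]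
          rcases Int.units_eq_one_or (o1 (g * p * g⁻¹)) with h2 | h2
          · exact absurd h2 h
          · rcases Int.units_eq_one_or (o1 v) with h3 | h3
            · exact absurd h3 hv1
            · rw [h2, h3]; rfl
        have h2 : g * p * g⁻¹ = g * (p * q⁻¹) * g⁻¹ * v := by rw [hv]; group
        rcases hQ' _ (Q.mul_mem hp (Q.inv_mem hq)) h1 with h3 | h3
        · rw [h2, h3, one_mul]
        · rw [h2, h3, ← mul_assoc, ← hyc v hvT]
    have e2 : g * (q * p) * g⁻¹ = g * (p * q) * g⁻¹ := by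
      calc g * (q * p) * g⁻¹ = v * (g * p * g⁻¹) := by rw [hv]; group
        _ = g * p * g⁻¹ * v := key
        _ = g * (p * q) * g⁻¹ := by rw [hv]; group
    exact mul_left_cancel (mul_right_cancel e2)
  -- `[v, q] = 1`
  have hvq : v * q = q * v := by
    -- `w = [v, q]` is in `Q` and in `gQg⁻¹`
    have hqT := F.Q_le hq
    have hw1 : v * q * v⁻¹ * q⁻¹ ∈ Q := Q.mul_mem (F.Q_norm v hvT q hq) (Q.inv_mem hq)
    have hq'T : g⁻¹ * q * g ∈ T := by
      rw [hg]
      have : g * (g⁻¹ * q * g) * g⁻¹ = q := by group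
      rw [this]; exact hqT
    have hw2 : g⁻¹ * (v * q * v⁻¹ * q⁻¹) * g ∈ Q := by
      have : g⁻¹ * (v * q * v⁻¹ * q⁻¹) * g = q * ((g⁻¹ * q * g) * q⁻¹ * (g⁻¹ * q * g)⁻¹) := by
        rw [hv]; group
      rw [this]
      exact Q.mul_mem hq (F.Q_norm _ hq'T _ (Q.inv_mem hq))
    by_contra hne'
    have hw3 : v * q * v⁻¹ * q⁻¹ ≠ 1 := by
      intro h
      apply hne'
      calc v * q = v * q * v⁻¹ * q⁻¹ * (q * v) := by group
        _ = q * v := by rw [h, one_mul]
    obtain ⟨n, hn1, hn2⟩ := exists_invol_pow F.T_two (F.Q_le hw1) hw3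
    have h1 : (v * q * v⁻¹ * q⁻¹) ^ n = x := by
      rcases F.Q_inv _ (Q.pow_mem hw1 n) hn2 with h | h
      · exact absurd h hn1
      · exact h
    have h2 : g⁻¹ * x * g ∈ Q := by
      have : g⁻¹ * x * g = (g⁻¹ * (v * q * v⁻¹ * q⁻¹) * g) ^ n := by
        have h3 := conj_pow (i := n) (a := g⁻¹) (b := v * q * v⁻¹ * q⁻¹)
        rw [inv_inv] at h3
        rw [h3, h1]
      rw [this]; exact Q.pow_mem hw2 n
    rcases F.Q_inv _ h2 (by
      calc g⁻¹ * x * g * (g⁻¹ * x * g) = g⁻¹ * (x * x) * g := by group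
        _ = 1 := by rw [F.xx]; group) with h3 | h3
    · apply F.x_ne
      calc x = g * (g⁻¹ * x * g) * g⁻¹ := by group
        _ = 1 := by rw [h3]; group
    · apply hne
      calc y = g * x * g⁻¹ := hy
        _ = g * (g⁻¹ * x * g) * g⁻¹ := by rw [h3]
        _ = x := by group
  -- `q` is central in `T`
  have hqc : ∀ t ∈ T, q * t = t * q := by
    intro t ht
    have key : ∀ t ∈ T, o1 t = 1 → q * t = t * q := by
      intro t ht h1
      obtain ⟨p, hp, e, he, rfl⟩ := F.ker t ht h1 (F.small hd t ht).1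
      calc q * (p * e) = (q * p) * e := by group
        _ = p * (q * e) := by rw [hvQ p hp]; group
        _ = p * e * q := by rw [F.QD_comm hq he]; group
    by_cases h : o1 t = 1
    · exact key t ht h
    · have h1 : o1 (v⁻¹ * t) = 1 := by
        rw [F.o1_mul' (T.inv_mem hvT) ht, F.o1_inv hvT]
        rcases Int.units_eq_one_or (o1 t) with h2 | h2
        · exact absurd h2 h
        · rcases Int.units_eq_one_or (o1 v) with h3 | h3
          · exact absurd h3 hv1
          · rw [h2, h3]; rfl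
      have h2 := key _ (T.mul_mem (T.inv_mem hvT) ht) h1
      calc q * t = (q * v) * (v⁻¹ * t) := by group
        _ = v * (q * (v⁻¹ * t)) := by rw [← hvq]; group
        _ = t * q := by rw [h2]; group
  -- so `v` is central in `T`
  have hvc : ∀ e ∈ D, v * e = e * v := by
    intro e he
    have h1 : g⁻¹ * e * g ∈ T := by
      rw [hg]
      have : g * (g⁻¹ * e * g) * g⁻¹ = e := by group
      rw [this]; exact F.D_le he
    have h2 := hqc _ h1
    calc v * e = g * (q * (g⁻¹ * e * g)) * g⁻¹ := by rw [hv]; group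
      _ = g * (g⁻¹ * e * g * q) * g⁻¹ := by rw [h2]
      _ = e * v := by rw [hv]; group
  have := F.sq_mem v hvT hvc
  rw [hvv] at this
  exact hyQ this

end Frame

end Cfsg.Agent.GH.L2One
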