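import Cfsg.Agent.GH.L2One.CaseTwo
import Cfsg.Agent.Transfer.PGroupNormal

/-!
# GH-L2, `m_2(Q) = 1`, `|Q| ≥ 4`: CASE II, the fusion of `x` and `z`
-/

set_option autoImplicit false

open Subgroup

namespace Cfsg.Agent.GH.L2One

variable {G A : Type*} [Group G] [Group A]

namespace Frame

variable {x : G} {K T D Q : Subgroup G} {d : ℕ} {r c : G} {o1 : G → ℤˣ} {o2 : G → A}

/-- every element of `T` maps `r` to a power of `r` (`d ≥ 3`) -/
theorem conj_r (F : Frame x K T D Q d r c o1 o2) (hd : 3 ≤ d) {t : G} (ht : t ∈ T) :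
    ∃ l : ℤ, t * r * t⁻¹ = r ^ l := by
  obtain ⟨l, hl⟩ := F.D_form _ (F.D_norm ht F.r_mem)
  rcases hl with h | h
  · exact ⟨l, h⟩
  · exfalso
    have h1 : t * r ^ (2 : ℤ) * t⁻¹ = 1 := by
      have e2 : t * r ^ (2 : ℤ) * t⁻¹ = (t * r * t⁻¹) * (t * r * t⁻¹) := by
        rw [zpow_two]; group
      rw [e2, h, F.refl_sq]
    have h2 : r ^ (2 : ℤ) = 1 := by
      have : r ^ (2 : ℤ) = t⁻¹ * (t * r ^ (2 : ℤ) * t⁻¹) * t := by group
      rw [this, h1]; group
    rw [F.rk_one] at h2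
    have h3 : (2 : ℤ) ^ 2 ∣ 2 ^ (d - 1) := pow_dvd_pow 2 (by omega)
    have h4 := h3.trans h2
    norm_num at h4

/-- `r ^ (2k) = 1` implies `r ^ k ∈ {1, z}` -/
theorem rk_sq (F : Frame x K T D Q d r c o1 o2) {k : ℤ} (h : r ^ k * r ^ k = 1) :
    r ^ k = 1 ∨ r ^ k = r ^ 2 ^ (d - 2) := by
  rw [← zpow_add, ← two_mul, F.rk_one] at h
  have hd := F.d_ge
  have h1 : d - 1 = (d - 2) + 1 := by omega
  rw [h1, pow_succ, mul_comm] at h
  have h2 : (2 : ℤ) ^ (d - 2) ∣ k := (mul_dvd_mul_iff_left (by norm_num)).1 h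
  obtain ⟨j, hj⟩ := h2
  rcases Int.even_or_odd j with ⟨i, hi⟩ | ⟨i, hi⟩
  · left
    rw [F.rk_one, hj, hi, h1]
    exact ⟨i, by rw [pow_succ]; ring⟩
  · right
    have h3 : k = ((2 ^ (d - 2) : ℕ) : ℤ) + 2 ^ (d - 1) * i := by
      rw [hj, hi, h1, pow_succ]; push_cast; ring
    rw [h3, zpow_add, (F.rk_one (2 ^ (d - 1) * i)).2 (Dvd.intro _ rfl), mul_one, zpow_natCast]

/-- `r` does not have order two for `d ≥ 3` -/
theorem rr_ne (F : Frame x K T D Q d r c o1 o2) (hd : 3 ≤ d) : r * r ≠ 1 := by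
  intro h
  have h2 : r ^ (2 : ℤ) = 1 := by rw [zpow_two]; exact h
  rw [F.rk_one] at h2
  have h3 : (2 : ℤ) ^ 2 ∣ 2 ^ (d - 1) := pow_dvd_pow 2 (by omega)
  have h4 := h3.trans h2
  norm_num at h4

/-- the central involution of `D`, `d ≥ 3` -/
theorem eq_z (F : Frame x K T D Q d r c o1 o2) (hd : 3 ≤ d) {e : G} (he : e ∈ D) (h1 : e ≠ 1)
    (h2 : e * e = 1) (hr : e * r = r * e) : e = r ^ 2 ^ (d - 2) := by
  obtain ⟨k, hk⟩ := F.D_form e he
  rcases hk with h | h
  · rw [h] at h2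
    rcases F.rk_sq h2 with h3 | h3
    · exact absurd (h.trans h3) h1
    · exact h.trans h3
  · exfalso
    apply F.rr_ne hd
    rw [h] at hr
    have h3 : r ^ k * c * r = r ^ k * r⁻¹ * c := by
      have := F.c_rk 1
      rw [zpow_one, zpow_neg, zpow_one] at this
      rw [mul_assoc, this, mul_assoc]
    rw [h3] at hr
    have h4 : r ^ k * r⁻¹ = r * r ^ k := by
      apply mul_right_cancel (b := c)
      rw [hr, mul_assoc]
    have h5 : r * r ^ k = r ^ k * r := by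
      rw [← zpow_one_add, add_comm, zpow_add_one]
    rw [h5] at h4
    have h6 := mul_left_cancel h4
    calc r * r = r * r⁻¹ := by rw [h6]
      _ = 1 := mul_inv_cancel r

/-- there is an involution of `D` central in `T` -/
theorem exists_central (F : Frame x K T D Q d r c o1 o2) [Finite G] :
    ∃ z ∈ D, z ≠ 1 ∧ z * z = 1 ∧ ∀ t ∈ T, z * t = t * z := by
  have : Fact (Nat.Prime 2) := ⟨Nat.prime_two⟩
  have hn : (D.subgroupOf T).Normal := by
    refine ⟨fun e he t => ?_⟩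
    exact F.D_norm t.2 he
  have hne : D.subgroupOf T ≠ ⊥ := by
    intro h
    have h1 : (⟨c, F.c_T⟩ : T) ∈ D.subgroupOf T := F.c_mem
    rw [h, mem_bot] at h1
    exact F.c_not 0 (by rw [zpow_zero]; exact congrArg Subtype.val h1)
  obtain ⟨z, hz1, hz2, hz3⟩ :=
    Cfsg.Agent.Transfer.PGroupNormal.exists_mem_inf_center_orderOf F.T_two (D.subgroupOf T) hne
  refine ⟨z, hz1, ?_, ?_, ?_⟩
  · intro h
    have : z = 1 := Subtype.ext h
    rw [this, orderOf_one] at hz3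
    omega
  · have h1 := pow_orderOf_eq_one z
    rw [hz3] at h1
    have h2 := congrArg Subtype.val h1
    rw [← pow_two]; exact h2
  · intro t ht
    exact congrArg Subtype.val (mem_center_iff.1 hz2 ⟨t, ht⟩).symm

/-- `N(T)` fixes `x`, if `T` is a Sylow 2-subgroup of `G`. -/
theorem conj_x [Finite G] (F : Frame x K T D Q d r c o1 o2) (P : Sylow 2 G)
    (hP : (P : Subgroup G) = T) {g : G} (hg : ∀ t, t ∈ T ↔ g * t * g⁻¹ ∈ T) : g * x * g⁻¹ = x := by
  by_cases hd : d = 2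
  · exact F.conj_x_two hd hg
  have hd3 : 3 ≤ d := by have := F.d_ge; omega
  by_contra hne
  -- a conjugate `≠ x` is `z`
  have key : ∀ g : G, (∀ t, t ∈ T ↔ g * t * g⁻¹ ∈ T) → g * x * g⁻¹ ≠ x →
      g * x * g⁻¹ = r ^ 2 ^ (d - 2) := by
    intro g hg hne
    refine F.eq_z hd3 (F.conj_x_mem_D hg hne) ?_ ?_ ?_
    · intro h
      apply F.x_ne
      calc x = g⁻¹ * (g * x * g⁻¹) * g := by group
        _ = 1 := by rw [h]; group
    · calc g * x * g⁻¹ * (g * x * g⁻¹) = g * (x * x) * g⁻¹ := by group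
        _ = 1 := by rw [F.xx]; group
    · have h1 : g⁻¹ * r * g ∈ T := by
        rw [hg]
        have : g * (g⁻¹ * r * g) * g⁻¹ = r := by group
        rw [this]; exact F.r_T
      have h2 := F.T_comm _ h1
      calc g * x * g⁻¹ * r = g * (x * (g⁻¹ * r * g)) * g⁻¹ := by group
        _ = g * (g⁻¹ * r * g * x) * g⁻¹ := by rw [h2]
        _ = r * (g * x * g⁻¹) := by group
  have h1 := key g hg hne
  have hgg : ∀ t, t ∈ T ↔ (g * g) * t * (g * g)⁻¹ ∈ T := by
    intro t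
    rw [hg t, hg (g * t * g⁻¹)]
    have : g * (g * t * g⁻¹) * g⁻¹ = (g * g) * t * (g * g)⁻¹ := by group
    rw [this]
  by_cases h2 : (g * g) * x * (g * g)⁻¹ = x
  · have h3 : g * g * x = x * (g * g) := by
      calc g * g * x = ((g * g) * x * (g * g)⁻¹) * (g * g) := by group
        _ = x * (g * g) := by rw [h2]
    have h4 := fix_of_sq P (a := x) (by
      rw [hP]; exact mem_normalizer_of_iff hg) (by rw [hP]; exact F.T_comm) h3
    apply hne
    rw [h4]; group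
  · have h3 := key _ hgg h2
    apply hne
    have h4 : g * (g * x * g⁻¹) * g⁻¹ = g * x * g⁻¹ := by
      rw [h1]
      calc g * r ^ 2 ^ (d - 2) * g⁻¹ = g * (g * x * g⁻¹) * g⁻¹ := by rw [h1]
        _ = (g * g) * x * (g * g)⁻¹ := by group
        _ = r ^ 2 ^ (d - 2) := h3
    exact mul_left_cancel (mul_right_cancel h4)

end Frame

/-- CASE II: `T` is a Sylow 2-subgroup of `G`; `z` is an involution of `D` central in `T`. -/
structure Two (P : Sylow 2 G) (x z : G) (K T D Q : Subgroup G) (d : ℕ) (r c : G) (o1 : G → ℤˣ)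
    (o2 : G → A) : Prop where
  F : Frame x K T D Q d r c o1 o2
  hP : (P : Subgroup G) = T
  zD : z ∈ D
  z1 : z ≠ 1
  zz : z * z = 1
  zc : ∀ t ∈ T, z * t = t * z

theorem Frame.two [Finite G] {x : G} {K T D Q : Subgroup G} {d : ℕ} {r c : G} {o1 : G → ℤˣ}
    {o2 : G → A} (F : Frame x K T D Q d r c o1 o2) (P : Sylow 2 G) (hP : (P : Subgroup G) = T) :
    ∃ z, Two P x z K T D Q d r c o1 o2 := by
  obtain ⟨z, h1, h2, h3, h4⟩ := F.exists_central
  exact ⟨z, F, hP, h1, h2, h3, h4⟩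

namespace Two

variable {P : Sylow 2 G} {x z : G} {K T D Q : Subgroup G} {d : ℕ} {r c : G} {o1 : G → ℤˣ}
  {o2 : G → A}

theorem z_T (H : Two P x z K T D Q d r c o1 o2) : z ∈ T := H.F.D_le H.zD

theorem xz_comm (H : Two P x z K T D Q d r c o1 o2) : x * z = z * x := H.F.T_comm z H.z_T

/-- fusion in the centre of `T` -/
theorem burnside [Finite G] (H : Two P x z K T D Q d r c o1 o2) {a b g : G} (ha : ∀ t ∈ T, a * t = t * a)
    (hb : ∀ t ∈ T, b * t = t * b) (hg : g * a * g⁻¹ = b) :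
    ∃ n : G, (∀ t, t ∈ T ↔ n * t * n⁻¹ ∈ T) ∧ n * a * n⁻¹ = b := by
  have : Fact (Nat.Prime 2) := ⟨Nat.prime_two⟩
  obtain ⟨n, hn, hn2⟩ := Cfsg.Agent.SylowSp4.Extremal.exists_conj_of_central P (t := b) (w := a)
    (by rw [H.hP]; exact fun y hy => (hb y hy).symm) ⟨g, hg⟩
  refine ⟨n, norm_iff_of_le ?_, hn⟩
  intro t ht
  rw [H.hP] at hn2
  exact hn2 t ht (ha t ht).symm

theorem not_conj_x_z [Finite G] (H : Two P x z K T D Q d r c o1 o2) (g : G) : g * x * g⁻¹ ≠ z := by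
  intro h
  obtain ⟨n, hn, hnx⟩ := H.burnside H.F.T_comm H.zc h
  rw [H.F.conj_x P H.hP hn] at hnx
  exact H.F.x_ne (H.F.QD x (hnx ▸ H.zD) H.F.x_mem)

theorem xz_c (H : Two P x z K T D Q d r c o1 o2) : ∀ t ∈ T, x * z * t = t * (x * z) := by
  intro t ht
  rw [mul_assoc, H.zc t ht, ← mul_assoc, H.F.T_comm t ht, mul_assoc]

theorem not_conj_x_xz [Finite G] (H : Two P x z K T D Q d r c o1 o2) (g : G) :
    g * x * g⁻¹ ≠ x * z := by
  intro h
  obtain ⟨n, hn, hnx⟩ := H.burnside H.F.T_comm H.xz_c h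
  rw [H.F.conj_x P H.hP hn] at hnx
  exact H.z1 (left_eq_mul.1 hnx)

theorem not_conj_z_xz [Finite G] (H : Two P x z K T D Q d r c o1 o2) (g : G) :
    g * z * g⁻¹ ≠ x * z := by
  intro h
  obtain ⟨n, hn, hnz⟩ := H.burnside H.zc H.xz_c h
  have hnx := H.F.conj_x P H.hP hn
  have h1 : n * (x * z) * n⁻¹ = z := by
    calc n * (x * z) * n⁻¹ = (n * x * n⁻¹) * (n * z * n⁻¹) := by group
      _ = (x * x) * z := by rw [hnx, hnz]; group
      _ = z := by rw [H.F.xx, one_mul]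
  have h2 : n * n * z = z * (n * n) := by
    calc n * n * z = n * (n * z * n⁻¹) * n⁻¹ * (n * n) := by group
      _ = z * (n * n) := by rw [hnz, h1]
  have h3 := fix_of_sq P (a := z) (by
      rw [H.hP]; exact mem_normalizer_of_iff hn) (by rw [H.hP]; exact H.zc) h2
  have h4 : n * z * n⁻¹ = z := by rw [h3]; group
  rw [h4] at hnz
  exact H.F.x_ne (right_eq_mul.1 hnz)

/-- `x^G ∩ QD = {x}` -/
theorem eq_x_of_mem [Finite G] (H : Two P x z K T D Q d r c o1 o2) {g q e : G} (hq : q ∈ Q)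
    (he : e ∈ D) (h : g * x * g⁻¹ = q * e) : q * e = x := by
  have F := H.F
  have hyy : q * e * (q * e) = 1 := by
    rw [← h]
    calc g * x * g⁻¹ * (g * x * g⁻¹) = g * (x * x) * g⁻¹ := by group
      _ = 1 := by rw [F.xx]; group
  have hy1 : q * e ≠ 1 := by
    intro h1
    rw [h1] at h
    apply F.x_ne
    calc x = g⁻¹ * (g * x * g⁻¹) * g := by group
      _ = 1 := by rw [h]; group
  have h1 : q * q * (e * e) = 1 * 1 := by
    calc q * q * (e * e) = q * (q * e) * e := by group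
      _ = q * (e * q) * e := by rw [F.QD_comm hq he]
      _ = q * e * (q * e) := by group
      _ = 1 * 1 := by rw [hyy, one_mul]
  obtain ⟨h2, h3⟩ := F.QD_unique (Q.mul_mem hq hq) Q.one_mem (D.mul_mem he he) D.one_mem h1
  by_cases he1 : e = 1
  · rcases F.Q_inv q hq h2 with h4 | h4
    · exact absurd (by rw [h4, he1, one_mul]) hy1
    · rw [h4, he1, mul_one]
  · exfalso
    obtain ⟨k, hk, hke⟩ := F.inv_conj e he z H.zD h3 he1 H.zz H.z1
    rcases F.Q_inv q hq h2 with h4 | h4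
    · rw [h4, one_mul] at h
      apply H.not_conj_x_z (k * g)
      rw [← hke, ← h]; group
    · rw [h4] at h
      apply H.not_conj_x_xz (k * g)
      have h5 := F.K_comm k hk
      calc k * g * x * (k * g)⁻¹ = k * (g * x * g⁻¹) * k⁻¹ := by group
        _ = (k * x) * e * k⁻¹ := by rw [h]; group
        _ = x * (k * e * k⁻¹) := by rw [← h5]; group
        _ = x * z := by rw [hke]

end Two

end Cfsg.Agent.GH.L2One
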