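import Cfsg.Agent.GH.L2One.CaseTwoB
import Cfsg.Agent.GH.ESuzMain

/-!
# GH-L2, `m_2(Q) = 1`, `|Q| ≥ 4`: CASE II, no conjugate of diagonal type
-/

set_option autoImplicit false

open Subgroup

namespace Cfsg.Agent.GH.L2One

variable {G A : Type*} [Group G] [Group A]

namespace Frame

variable {x : G} {K T D Q : Subgroup G} {d : ℕ} {r c : G} {o1 : G → ℤˣ} {o2 : G → A}

theorem o1_ne_mul (F : Frame x K T D Q d r c o1 o2) {a b : G} (ha : a ∈ T) (hb : b ∈ T)
    (h1 : o1 a ≠ 1) (h2 : o1 b ≠ 1) : o1 (a * b) = 1 := by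
  rw [F.o1_mul' ha hb]
  rcases Int.units_eq_one_or (o1 a) with h3 | h3
  · exact absurd h3 h1
  · rcases Int.units_eq_one_or (o1 b) with h4 | h4
    · exact absurd h4 h2
    · rw [h3, h4]; rfl

/-- an involution `y` with `C_Q(y) = ⟨x⟩` is `Q`-conjugate to `x y` -/
theorem exists_conj_xy [Finite G] (F : Frame x K T D Q d r c o1 o2) {y : G} (hy : y ∈ T)
    (hyy : y * y = 1) (hC : ∀ u ∈ Q, u * y = y * u → u = 1 ∨ u = x) :
    ∃ q ∈ Q, q * y * q⁻¹ = x * y := by
  obtain ⟨p, hp, hpp⟩ := F.Q_four
  have hxy : x * y = y * x := F.T_comm y hy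
  have hyi : y⁻¹ = y := inv_eq_of_mul_eq_one_right hyy
  -- `Y = Q⟨y⟩`
  let Y : Subgroup G :=
    { carrier := {g | g ∈ Q ∨ g * y ∈ Q}
      one_mem' := Or.inl Q.one_mem
      mul_mem' := by
        intro a b ha hb
        rcases ha with ha | ha <;> rcases hb with hb | hb
        · exact Or.inl (Q.mul_mem ha hb)
        · right
          have := Q.mul_mem ha hb
          rwa [← mul_assoc] at this
        · right
          have h1 := Q.mul_mem ha (F.Q_norm y hy b hb)
          have e : a * y * (y * b * y⁻¹) = a * b * y := by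
            calc a * y * (y * b * y⁻¹) = a * (y * y) * b * y⁻¹ := by group
              _ = a * b * y := by rw [hyy, hyi, mul_one]
          rwa [e] at h1
        · left
          have h1 := Q.mul_mem ha (F.Q_norm y hy _ hb)
          have e : a * y * (y * (b * y) * y⁻¹) = a * b := by
            calc a * y * (y * (b * y) * y⁻¹) = a * (y * y) * b := by group
              _ = a * b := by rw [hyy, mul_one]
          rwa [e] at h1
      inv_mem' := by
        intro a ha
        rcases ha with ha | ha
        · exact Or.inl (Q.inv_mem ha)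
        · right
          have h1 := F.Q_norm y hy _ (Q.inv_mem ha)
          have e : y * (a * y)⁻¹ * y⁻¹ = a⁻¹ * y := by
            calc y * (a * y)⁻¹ * y⁻¹ = (y * y⁻¹) * a⁻¹ * y⁻¹ := by group
              _ = a⁻¹ * y := by rw [hyi, hyy, one_mul]
          rwa [e] at h1 }
  have hYT : Y ≤ T := by
    rintro g (hg | hg)
    · exact F.Q_le hg
    · have : g = g * y * y⁻¹ := by group
      rw [this]; exact T.mul_mem (F.Q_le hg) (T.inv_mem hy)
  let V : Subgroup G :=
    { carrier := {g | g = 1 ∨ g = x ∨ g = y ∨ g = x * y}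
      one_mem' := Or.inl rfl
      mul_mem' := by
        rintro a b (rfl | rfl | rfl | rfl) (rfl | rfl | rfl | rfl)
        · left; rw [one_mul]
        · right; left; rw [one_mul]
        · right; right; left; rw [one_mul]
        · right; right; right; rw [one_mul]
        · right; left; rw [mul_one]
        · left; exact F.xx
        · right; right; right; rfl
        · right; right; left; rw [← mul_assoc, F.xx, one_mul]
        · right; right; left; rw [mul_one]
        · right; right; right; exact hxy.symm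
        · left; exact hyy
        · right; left; rw [hxy, ← mul_assoc, hyy, one_mul]
        · right; right; right; rw [mul_one]
        · right; right; left; rw [hxy, mul_assoc, F.xx, mul_one]
        · right; left; rw [mul_assoc, hyy, mul_one]
        · left
          calc x * y * (x * y) = x * y * (y * x) := by rw [hxy]
            _ = x * (y * y) * x := by group
            _ = 1 := by rw [hyy, mul_one, F.xx]
      inv_mem' := by
        rintro a (rfl | rfl | rfl | rfl)
        · left; rw [inv_one]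
        · right; left; exact F.x_inv
        · right; right; left; exact hyi
        · right; right; right; rw [mul_inv_rev, F.x_inv, hyi, hxy] }
  have hVsq : ∀ g ∈ V, g * g = 1 := by
    rintro g (rfl | rfl | rfl | rfl)
    · rw [one_mul]
    · exact F.xx
    · exact hyy
    · calc x * y * (x * y) = x * y * (y * x) := by rw [hxy]
        _ = x * (y * y) * x := by group
        _ = 1 := by rw [hyy, mul_one, F.xx]
  have hxV : x ∈ V := Or.inr (Or.inl rfl)
  have hyV : y ∈ V := Or.inr (Or.inr (Or.inl rfl))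
  have hVY : V ≤ Y := by
    rintro g (rfl | rfl | rfl | rfl)
    · exact Or.inl Q.one_mem
    · exact Or.inl F.x_mem
    · right; rw [hyy]; exact Q.one_mem
    · right; rw [mul_assoc, hyy, mul_one]; exact F.x_mem
  have hpV : p ∉ V := by
    intro h
    have := hVsq p h
    rw [hpp] at this
    exact F.x_ne this
  have hne : V ≠ Y := by
    intro h
    apply hpV
    rw [h]; exact Or.inl hp
  have hYp : IsPGroup 2 Y := F.T_two.to_le hYT
  obtain ⟨g, hgY, hgV, hg⟩ := Cfsg.Agent.GH.E.exists_mem_normalizer hYp hVY hne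
  -- replace `g` by an element of `Q`
  obtain ⟨q, hq, hqV, hqy⟩ : ∃ q ∈ Q, q ∉ V ∧ q * y * q⁻¹ ∈ V := by
    rcases hgY with h | h
    · exact ⟨g, h, hgV, hg y hyV⟩
    · refine ⟨g * y, h, ?_, ?_⟩
      · intro h1
        apply hgV
        have := V.mul_mem h1 hyV
        rwa [mul_assoc, hyy, mul_one] at this
      · have e : g * y * y * (g * y)⁻¹ = g * y * g⁻¹ := by group
        rw [e]; exact hg y hyV
  refine ⟨q, hq, ?_⟩
  rcases hqy with h | h | h | h
  · exfalso
    have hy1 : y = 1 := by
      calc y = q⁻¹ * (q * y * q⁻¹) * q := by group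
        _ = 1 := by rw [h]; group
    rcases hC p hp (by rw [hy1, mul_one, one_mul]) with h2 | h2
    · exact hpV (Or.inl h2)
    · exact hpV (Or.inr (Or.inl h2))
  · exfalso
    have hyx : y = x := by
      have h1 := F.T_comm q (F.Q_le hq)
      calc y = q⁻¹ * (q * y * q⁻¹) * q := by group
        _ = q⁻¹ * (x * q) := by rw [h]; group
        _ = x := by rw [h1]; group
    rcases hC p hp (by rw [hyx]; exact (F.T_comm p (F.Q_le hp)).symm) with h2 | h2
    · exact hpV (Or.inl h2)
    · exact hpV (Or.inr (Or.inl h2))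
  · exfalso
    have h1 : q * y = y * q := by
      calc q * y = q * y * q⁻¹ * q := by group
        _ = y * q := by rw [h]
    rcases hC q hq h1 with h2 | h2
    · exact hqV (Or.inl h2)
    · exact hqV (Or.inr (Or.inl h2))
  · exact h

/-- (f7), `d ≥ 3` -/
theorem diag_three (F : Frame x K T D Q d r c o1 o2) (hd : 3 ≤ d) {y z : G} (hy : y ∈ T)
    (hyy : y * y = 1) (h1 : o1 y ≠ 1) (hz : z = r ^ 2 ^ (d - 2)) :
    (∀ e ∈ D, e * y = y * e → e = 1 ∨ e = z) ∧ ∃ e ∈ D, e * y * e⁻¹ = z * y := by
  have hyi : y⁻¹ = y := inv_eq_of_mul_eq_one_right hyy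
  obtain ⟨l, hl⟩ := F.conj_r hd hy
  obtain ⟨k, hk⟩ := F.conj_c hd hy
  have hodd : Odd k := by
    rw [← Int.not_even_iff_odd]
    intro h
    exact h1 ((F.swap hd y hy k hk).2 h)
  have hpow : ∀ m : ℤ, y * r ^ m * y⁻¹ = r ^ (l * m) := by
    intro m
    rw [← conj_zpow, hl, zpow_mul]
  -- `y` inverts `r`
  have hinv : r ^ l = r⁻¹ := by
    have h2 : c = r ^ (l * k) * (r ^ k * c) := by
      calc c = (y * y) * c * (y * y)⁻¹ := by rw [hyy]; group
        _ = y * (y * c * y⁻¹) * y⁻¹ := by group
        _ = y * (r ^ k * c) * y⁻¹ := by rw [hk]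
        _ = (y * r ^ k * y⁻¹) * (y * c * y⁻¹) := by group
        _ = r ^ (l * k) * (r ^ k * c) := by rw [hpow, hk]
    have h3 : r ^ (l * k) * r ^ k = 1 := by
      have : 1 * c = r ^ (l * k) * r ^ k * c := by rw [one_mul, mul_assoc]; exact h2
      exact (mul_right_cancel this).symm
    rw [← zpow_add, F.rk_one] at h3
    have h4 : l * k + k = k * (l + 1) := by ring
    rw [h4] at h3
    have hcop : IsCoprime ((2 : ℤ) ^ (d - 1)) k := by
      apply IsCoprime.pow_left
      obtain ⟨j, hj⟩ := hodd
      exact ⟨-j, 1, by rw [hj]; ring⟩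
    have h5 := hcop.dvd_of_dvd_mul_left h3
    rw [← F.rk_one] at h5
    rw [zpow_add_one] at h5
    exact eq_inv_of_mul_eq_one_left h5
  have hr : ∀ m : ℤ, y * r ^ m * y⁻¹ = r ^ (-m) := by
    intro m
    rw [hpow, zpow_mul, hinv, inv_zpow, zpow_neg]
  refine ⟨?_, ?_⟩
  · intro e he hc
    have hce : y * e * y⁻¹ = e := by rw [← hc]; group
    obtain ⟨m, hm⟩ := F.D_form e he
    rcases hm with h | h
    · rw [h, hr] at hce
      have h2 : r ^ m * r ^ m = 1 := by
        nth_rw 1 [← hce]
        rw [← zpow_add, neg_add_cancel, zpow_zero]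
      rw [hz, h]
      exact F.rk_sq h2
    · exfalso
      have h2 : y * (r ^ m * c) * y⁻¹ = r ^ (-m) * (r ^ k * c) := by
        calc y * (r ^ m * c) * y⁻¹ = (y * r ^ m * y⁻¹) * (y * c * y⁻¹) := by group
          _ = r ^ (-m) * (r ^ k * c) := by rw [hr, hk]
      rw [h, h2, ← mul_assoc] at hce
      have h3 := mul_right_cancel hce
      rw [← zpow_add] at h3
      have h4 : r ^ (-m + k - m) = 1 := by
        rw [zpow_sub, h3, mul_inv_cancel]
      rw [F.rk_one] at h4
      have h5 : (2 : ℤ) ∣ 2 ^ (d - 1) := dvd_pow_self 2 (by omega)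
      have h6 := h5.trans h4
      obtain ⟨j, hj⟩ := hodd
      omega
  · refine ⟨r ^ 2 ^ (d - 3), D.pow_mem F.r_mem _, ?_⟩
    have h2 : y * (r ^ 2 ^ (d - 3))⁻¹ * y⁻¹ = r ^ 2 ^ (d - 3) := by
      have := hr (-((2 ^ (d - 3) : ℕ) : ℤ))
      rw [neg_neg, zpow_neg, zpow_natCast] at this
      exact this
    calc r ^ 2 ^ (d - 3) * y * (r ^ 2 ^ (d - 3))⁻¹
        = r ^ 2 ^ (d - 3) * (y * (r ^ 2 ^ (d - 3))⁻¹ * y⁻¹) * y := by group
      _ = z * y := by
        rw [h2, ← pow_add, hz]
        congr 2
        have : d - 2 = (d - 3) + 1 := by omega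
        rw [this, pow_succ, mul_two]

/-- (f7), `d = 2` -/
theorem diag_two (F : Frame x K T D Q d r c o1 o2) (hd : d = 2) {y z : G} (hy : y ∈ T)
    (hyy : y * y = 1) (h1 : o1 y ≠ 1) (hz : z ∈ D) (hz1 : z ≠ 1) (hzc : ∀ t ∈ T, z * t = t * z) :
    (∀ e ∈ D, e * y = y * e → e = 1 ∨ e = z) ∧ ∃ e ∈ D, e * y * e⁻¹ = z * y := by
  have hyi : y⁻¹ = y := inv_eq_of_mul_eq_one_right hyy
  have hrr : r * r = 1 := by
    have := orderOf_dvd_iff_pow_eq_one.1 (show orderOf r ∣ 2 by rw [F.or_eq, hd]; norm_num)
    rwa [pow_two] at this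
  have hri : r⁻¹ = r := inv_eq_of_mul_eq_one_right hrr
  have hcr : c * r = r * c := by
    have := F.crc
    rw [hri] at this
    calc c * r = c * r * c⁻¹ * c := by group
      _ = r * c := by rw [this]
  have hel : ∀ e ∈ D, e = 1 ∨ e = r ∨ e = c ∨ e = r * c := by
    intro e he
    obtain ⟨k, hk⟩ := F.D_form e he
    have hk2 : r ^ k = 1 ∨ r ^ k = r := by
      rcases Int.even_or_odd k with ⟨i, hi⟩ | ⟨i, hi⟩
      · left
        rw [hi, ← two_mul, zpow_mul, zpow_two, hrr, one_zpow]
      · right
        rw [hi, zpow_add_one, zpow_mul, zpow_two, hrr, one_zpow, one_mul]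
    rcases hk with h | h <;> rcases hk2 with h2 | h2
    · left; rw [h, h2]
    · right; left; rw [h, h2]
    · right; right; left; rw [h, h2, one_mul]
    · right; right; right; rw [h, h2]
  have hDD : ∀ e ∈ D, e * e = 1 := by
    intro e he
    rcases hel e he with rfl | rfl | rfl | rfl
    · rw [one_mul]
    · exact hrr
    · exact F.cc
    · calc r * c * (r * c) = r * (c * r) * c := by group
        _ = (r * r) * (c * c) := by rw [hcr]; group
        _ = 1 := by rw [hrr, F.cc, one_mul]
  have hcomm : ∀ e ∈ D, ∀ f ∈ D, e * f = f * e := by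
    intro e he f hf
    have h2 := hDD _ (D.mul_mem he hf)
    have h3 := hDD _ he
    have h4 := hDD _ hf
    calc e * f = (f * f) * (e * f) * (e * e) := by rw [h3, h4]; group
      _ = f * (f * e) * (f * e) * e := by
        have : e * f * (e * f) = 1 := h2
        calc (f * f) * (e * f) * (e * e) = f * (f * e) * (f * e) * e := by group
          _ = f * (f * e) * (f * e) * e := rfl
      _ = f * ((f * e) * (f * e)) * e := by group
      _ = f * e := by rw [hDD _ (D.mul_mem hf he), mul_one]
  -- `y` does not centralise `D`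
  obtain ⟨e0, he0, hne⟩ : ∃ e ∈ D, y * e ≠ e * y := by
    by_contra hcon
    push Not at hcon
    exact h1 (((F.small hd y hy).2).2 hcon)
  -- `D = {1, z, e, z e}` for `e ≠ 1, z`
  have hgen : ∀ e ∈ D, e ≠ 1 → e ≠ z → ∀ f ∈ D, f = 1 ∨ f = z ∨ f = e ∨ f = z * e := by
    have hc1 : c ≠ 1 := by
      intro h; exact F.c_not 0 (by rw [zpow_zero, h])
    have hr1 : r ≠ 1 := by
      intro h
      have := F.or_eq
      rw [h, orderOf_one, hd] at this
      norm_num at this
    have e1 : r * (r * c) = c := by rw [← mul_assoc, hrr, one_mul]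
    have e2 : c * (r * c) = r := by rw [← mul_assoc, hcr, mul_assoc, F.cc, mul_one]
    have e3 : r * c * r = c := by rw [mul_assoc, hcr, e1]
    have e4 : r * c * c = r := by rw [mul_assoc, F.cc, mul_one]
    intro e he h1' h2' f hf
    rcases hel z hz with h | h | h | h
    · exact absurd h hz1
    · subst h
      rcases hel e he with h | h | h | h
      · exact absurd h h1'
      · exact absurd h h2'
      · subst h
        rcases hel f hf with h | h | h | h
        · exact Or.inl h
        · exact Or.inr (Or.inl h)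
        · exact Or.inr (Or.inr (Or.inl h))
        · exact Or.inr (Or.inr (Or.inr h))
      · subst h
        rcases hel f hf with h | h | h | h
        · exact Or.inl h
        · exact Or.inr (Or.inl h)
        · exact Or.inr (Or.inr (Or.inr (by rw [h, e1])))
        · exact Or.inr (Or.inr (Or.inl h))
    · subst h
      rcases hel e he with h | h | h | h
      · exact absurd h h1'
      · subst h
        rcases hel f hf with h | h | h | h
        · exact Or.inl h
        · exact Or.inr (Or.inr (Or.inl h))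
        · exact Or.inr (Or.inl h)
        · exact Or.inr (Or.inr (Or.inr (by rw [h, hcr])))
      · exact absurd h h2'
      · subst h
        rcases hel f hf with h | h | h | h
        · exact Or.inl h
        · exact Or.inr (Or.inr (Or.inr (by rw [h, e2])))
        · exact Or.inr (Or.inl h)
        · exact Or.inr (Or.inr (Or.inl h))
    · subst h
      rcases hel e he with h | h | h | h
      · exact absurd h h1'
      · subst h
        rcases hel f hf with h | h | h | h
        · exact Or.inl h
        · exact Or.inr (Or.inr (Or.inl h))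
        · exact Or.inr (Or.inr (Or.inr (by rw [h, e3])))
        · exact Or.inr (Or.inl h)
      · subst h
        rcases hel f hf with h | h | h | h
        · exact Or.inl h
        · exact Or.inr (Or.inr (Or.inr (by rw [h, e4])))
        · exact Or.inr (Or.inr (Or.inl h))
        · exact Or.inr (Or.inl h)
      · exact absurd h h2'
  have hzy : z * y = y * z := hzc y hy
  have hcent : ∀ e ∈ D, e * y = y * e → e = 1 ∨ e = z := by
    intro e he hey
    by_contra hcon
    push Not at hcon
    apply hne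
    rcases hgen e he hcon.1 hcon.2 e0 he0 with h | h | h | h
    · rw [h]; group
    · rw [h]; exact hzy.symm
    · rw [h]; exact hey.symm
    · rw [h, ← mul_assoc, ← hzy, mul_assoc, ← hey, mul_assoc]
  refine ⟨hcent, e0, he0, ?_⟩
  have hw : e0 * (y * e0 * y⁻¹) ∈ D := D.mul_mem he0 (F.D_norm hy he0)
  have hyey := F.D_norm hy he0
  have hw2 : e0 * (y * e0 * y⁻¹) * y = y * (e0 * (y * e0 * y⁻¹)) := by
    have h2 : y * (e0 * (y * e0 * y⁻¹)) * y⁻¹ = (y * e0 * y⁻¹) * e0 := by
      calc y * (e0 * (y * e0 * y⁻¹)) * y⁻¹ = (y * e0 * y⁻¹) * ((y * y) * e0 * (y * y)⁻¹) := by group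
        _ = (y * e0 * y⁻¹) * e0 := by rw [hyy]; group
    have h3 := hcomm _ hyey _ he0
    calc e0 * (y * e0 * y⁻¹) * y = (y * e0 * y⁻¹) * e0 * y := by rw [h3]
      _ = y * (e0 * (y * e0 * y⁻¹)) * y⁻¹ * y := by rw [h2]
      _ = y * (e0 * (y * e0 * y⁻¹)) := by group
  have he0i : e0⁻¹ = e0 := inv_eq_of_mul_eq_one_right (hDD e0 he0)
  rcases hcent _ hw hw2 with h | h
  · exfalso
    apply hne
    have h2 : y * e0 * y⁻¹ = e0 := by
      have := eq_inv_of_mul_eq_one_right h
      rw [this, he0i]
    calc y * e0 = y * e0 * y⁻¹ * y := by group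
      _ = e0 * y := by rw [h2]
  · calc e0 * y * e0⁻¹ = e0 * (y * e0 * y⁻¹) * y := by rw [he0i]; group
      _ = z * y := by rw [h]

end Frame

namespace Two

variable {P : Sylow 2 G} {x z : G} {K T D Q : Subgroup G} {d : ℕ} {r c : G} {o1 : G → ℤˣ}
  {o2 : G → A}

/-- (f7) -/
theorem diag (H : Two P x z K T D Q d r c o1 o2) {y : G} (hy : y ∈ T)
    (hyy : y * y = 1) (h1 : o1 y ≠ 1) :
    (∀ e ∈ D, e * y = y * e → e = 1 ∨ e = z) ∧ ∃ e ∈ D, e * y * e⁻¹ = z * y := by
  by_cases hd : d = 2
  · exact H.F.diag_two hd hy hyy h1 H.zD H.z1 H.zc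
  · have hd3 : 3 ≤ d := by have := H.F.d_ge; omega
    exact H.F.diag_three hd3 hy hyy h1 (H.F.eq_z hd3 H.zD H.z1 H.zz (H.zc r H.F.r_T))

end Two

end Cfsg.Agent.GH.L2One
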