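import Cfsg.Agent.GH.L2One.CaseTwoC

/-!
# GH-L2, `m_2(Q) = 1`, `|Q| ≥ 4`: CASE II, end
-/

set_option autoImplicit false

open Subgroup

namespace Cfsg.Agent.GH.L2One

variable {G A : Type*} [Group G] [Group A]

/-- a conjugate of `x` in `T`, different from `x` -/
structure Bad (x : G) (T : Subgroup G) (y : G) : Prop where
  mem : y ∈ T
  ne : y ≠ x
  conj : ∃ g : G, g * x * g⁻¹ = y

namespace Two

variable {P : Sylow 2 G} {x z : G} {K T D Q : Subgroup G} {d : ℕ} {r c : G} {o1 : G → ℤˣ}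
  {o2 : G → A}

theorem bad_sq (H : Two P x z K T D Q d r c o1 o2) {y : G} (hb : Bad x T y) : y * y = 1 := by
  obtain ⟨g, hg⟩ := hb.conj
  rw [← hg]
  calc g * x * g⁻¹ * (g * x * g⁻¹) = g * (x * x) * g⁻¹ := by group
    _ = 1 := by rw [H.F.xx]; group

theorem bad_out [Finite G] (H : Two P x z K T D Q d r c o1 o2) {y : G} (hb : Bad x T y)
    (h1 : o1 y = 1) (h2 : o2 y = 1) : False := by
  obtain ⟨g, hg⟩ := hb.conj
  obtain ⟨q, hq, e, he, h⟩ := H.F.ker y hb.mem h1 h2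
  have h3 := H.eq_x_of_mem hq he (hg.trans h)
  exact hb.ne (h.trans h3)

theorem exists_h [Finite G] (H : Two P x z K T D Q d r c o1 o2) {y : G} (hb : Bad x T y) :
    ∃ h : G, h * y * h⁻¹ = x ∧ (∀ t ∈ T, t * y = y * t → h * t * h⁻¹ ∈ T) ∧
      Bad x T (h * x * h⁻¹) := by
  have : Fact (Nat.Prime 2) := ⟨Nat.prime_two⟩
  obtain ⟨g, hg⟩ := hb.conj
  obtain ⟨h, hh, hh2⟩ := Cfsg.Agent.SylowSp4.Extremal.exists_conj_of_central P (t := x) (w := y)
    (by rw [H.hP]; exact fun t ht => (H.F.T_comm t ht).symm) ⟨g⁻¹, by rw [← hg]; group⟩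
  rw [H.hP] at hh2
  refine ⟨h, hh, hh2, hh2 x H.F.x_T (H.F.T_comm y hb.mem), ?_, h, rfl⟩
  intro h3
  apply hb.ne
  have h4 : h * y * h⁻¹ = h * x * h⁻¹ := by rw [hh, h3]
  exact mul_left_cancel (mul_right_cancel h4)

/-- the element of order 4 argument: if `u ∈ Q - ⟨x⟩` centralises the bad element `y`, then some `v ∈ T`
squares to `h x h⁻¹`, `v = h w h⁻¹` with `w ∈ Q`, `w` a power of `u` -/
theorem exists_root (H : Two P x z K T D Q d r c o1 o2) {u : G} (hu : u ∈ Q)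
    (h1 : u ≠ 1) (hx : u ≠ x) : ∃ n : ℕ, u ^ n * u ^ n = x := by
  have F := H.F
  have huu : u * u ≠ 1 := by
    intro h
    rcases F.Q_inv u hu h with h2 | h2
    · exact h1 h2
    · exact hx h2
  obtain ⟨n, hn1, hn2⟩ := exists_four_pow F.T_two (F.Q_le hu) huu
  have h3 := Q.pow_mem hu n
  rcases F.Q_inv _ (Q.mul_mem h3 h3) hn2 with h4 | h4
  · exact absurd h4 hn1
  · exact ⟨n, h4⟩

/-- (5): if no bad element has a field part, there is no bad element. -/
theorem no_diag [Finite G] (H : Two P x z K T D Q d r c o1 o2)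
    (hf : ∀ y, Bad x T y → o2 y = 1) {y : G} (hb : Bad x T y) : False := by
  have F := H.F
  have ho1 : ∀ y, Bad x T y → o1 y ≠ 1 := fun y hb h => H.bad_out hb h (hf y hb)
  -- `C_Q(y) = ⟨x⟩`
  have hCQ : ∀ y, Bad x T y → ∀ u ∈ Q, u * y = y * u → u = 1 ∨ u = x := by
    intro y hb u hu huy
    by_contra hcon
    push Not at hcon
    obtain ⟨n, hn⟩ := H.exists_root hu hcon.1 hcon.2
    obtain ⟨h, hh, hT, hb1⟩ := H.exists_h hb
    have hw : h * u ^ n * h⁻¹ ∈ T := by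
      apply hT _ (F.Q_le (Q.pow_mem hu n))
      have : Commute u y := huy
      exact (this.pow_left n).eq
    apply ho1 _ hb1
    have h2 : h * x * h⁻¹ = h * u ^ n * h⁻¹ * (h * u ^ n * h⁻¹) := by
      rw [← hn]; group
    rw [h2]; exact F.o1_sq hw
  -- `y ~ x z y`
  have hconj : ∀ y, Bad x T y → ∃ g : G, g * x * g⁻¹ = y * (x * z) := by
    intro y hb
    obtain ⟨q, hq, hqy⟩ := F.exists_conj_xy hb.mem (H.bad_sq hb) (hCQ y hb)
    obtain ⟨e, he, hey⟩ := (H.diag hb.mem (H.bad_sq hb) (ho1 y hb)).2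
    obtain ⟨g, hg⟩ := hb.conj
    refine ⟨q * e * g, ?_⟩
    have h1 : q * z = z * q := (H.zc q (F.Q_le hq)).symm
    calc q * e * g * x * (q * e * g)⁻¹ = q * (e * (g * x * g⁻¹) * e⁻¹) * q⁻¹ := by group
      _ = q * (z * y) * q⁻¹ := by rw [hg, hey]
      _ = (q * z) * y * q⁻¹ := by group
      _ = z * (q * y * q⁻¹) := by rw [h1]; group
      _ = z * x * y := by rw [hqy, mul_assoc]
      _ = (x * z) * y := by rw [H.xz_comm]
      _ = y * (x * z) := H.xz_c y hb.mem
  obtain ⟨h, hh, hT, hb1⟩ := H.exists_h hb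
  have hyT := hb.mem
  have hx1 := hb1.mem
  have hxx : h⁻¹ * x * h = y := by rw [← hh]; group
  -- `e1 = h z h⁻¹`
  have he1 : h * z * h⁻¹ ∈ T := hT z H.z_T (H.zc y hyT)
  obtain ⟨e, he, hey⟩ := (H.diag hb.mem (H.bad_sq hb) (ho1 y hb)).2
  -- `e1 x` is bad
  have hb2 : Bad x T (h * z * h⁻¹ * x) := by
    refine ⟨T.mul_mem he1 F.x_T, ?_, ?_⟩
    · intro h1
      have h2 : h * z * h⁻¹ = 1 := by
        calc h * z * h⁻¹ = h * z * h⁻¹ * x * x⁻¹ := by group
          _ = 1 := by rw [h1, mul_inv_cancel]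
      apply H.z1
      calc z = h⁻¹ * (h * z * h⁻¹) * h := by group
        _ = 1 := by rw [h2]; group
    · obtain ⟨g, hg⟩ := hb.conj
      refine ⟨h * e * g, ?_⟩
      calc h * e * g * x * (h * e * g)⁻¹ = h * (e * (g * x * g⁻¹) * e⁻¹) * h⁻¹ := by group
        _ = h * (z * y) * h⁻¹ := by rw [hg, hey]
        _ = h * z * h⁻¹ * (h * y * h⁻¹) := by group
        _ = h * z * h⁻¹ * x := by rw [hh]
  have ho1x : o1 x = 1 := F.o1_Q x F.x_mem
  have ho2x : o2 x = 1 := F.o2_Q x F.x_mem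
  have h3 : o1 (h * z * h⁻¹) ≠ 1 := by
    have := ho1 _ hb2
    rwa [F.o1_mul' he1 F.x_T, ho1x, mul_one] at this
  have h4 : o2 (h * z * h⁻¹) = 1 := by
    have := hf _ hb2
    rwa [F.o2_mul' he1 F.x_T, ho2x, mul_one] at this
  -- `x1 e1 ∈ QD`
  have h5 : o1 (h * x * h⁻¹ * (h * z * h⁻¹)) = 1 := F.o1_ne_mul hx1 he1 (ho1 _ hb1) h3
  have h6 : o2 (h * x * h⁻¹ * (h * z * h⁻¹)) = 1 := by
    rw [F.o2_mul' hx1 he1, hf _ hb1, h4, mul_one]
  obtain ⟨q, hq, f, hff, h7⟩ := F.ker _ (T.mul_mem hx1 he1) h5 h6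
  -- it commutes with `x1`
  have h8 : h * x * h⁻¹ * (q * f) = q * f * (h * x * h⁻¹) := by
    rw [← h7]
    calc h * x * h⁻¹ * (h * x * h⁻¹ * (h * z * h⁻¹)) = h * (x * (x * z)) * h⁻¹ := by group
      _ = h * (x * (z * x)) * h⁻¹ := by rw [H.xz_comm]
      _ = h * x * h⁻¹ * (h * z * h⁻¹) * (h * x * h⁻¹) := by group
  have h9 : (h * x * h⁻¹ * q * (h * x * h⁻¹)⁻¹) * (h * x * h⁻¹ * f * (h * x * h⁻¹)⁻¹) = q * f := by
    calc (h * x * h⁻¹ * q * (h * x * h⁻¹)⁻¹) * (h * x * h⁻¹ * f * (h * x * h⁻¹)⁻¹) =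
        h * x * h⁻¹ * (q * f) * (h * x * h⁻¹)⁻¹ := by group
      _ = q * f := by rw [h8]; group
  obtain ⟨h10, h11⟩ := F.QD_unique (F.Q_norm _ hx1 q hq) hq (F.D_norm hx1 hff) hff h9
  have h12 : q * (h * x * h⁻¹) = h * x * h⁻¹ * q := by
    nth_rw 1 [← h10]; group
  have h13 : f * (h * x * h⁻¹) = h * x * h⁻¹ * f := by
    nth_rw 1 [← h11]; group
  have hq2 := hCQ _ hb1 q hq h12
  have hf2 := (H.diag hx1 (H.bad_sq hb1) (ho1 _ hb1)).1 f hff h13
  have h14 : h * (x * z) * h⁻¹ = q * f := by rw [← h7]; group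
  rcases hq2 with h15 | h15 <;> rcases hf2 with h16 | h16
  · rw [h15, h16, one_mul] at h14
    have h17 : x * z = 1 := by
      calc x * z = h⁻¹ * (h * (x * z) * h⁻¹) * h := by group
        _ = 1 := by rw [h14]; group
    apply F.x_ne
    apply F.QD x _ F.x_mem
    rw [eq_inv_of_mul_eq_one_left h17]
    exact D.inv_mem H.zD
  · rw [h15, h16, one_mul] at h14
    apply H.not_conj_z_xz h⁻¹
    calc h⁻¹ * z * h⁻¹⁻¹ = h⁻¹ * (h * (x * z) * h⁻¹) * h := by rw [h14]; group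
      _ = x * z := by group
  · rw [h15, h16, mul_one] at h14
    apply H.not_conj_x_xz h⁻¹
    calc h⁻¹ * x * h⁻¹⁻¹ = h⁻¹ * (h * (x * z) * h⁻¹) * h := by rw [h14]; group
      _ = x * z := by group
  · -- `e1 = x1 x z` is a conjugate of `x`
    obtain ⟨g, hg⟩ := hconj _ hb1
    have h17 : h * z * h⁻¹ = h * x * h⁻¹ * (x * z) := by
      have h18 : h * x * h⁻¹ * (h * z * h⁻¹) = x * z := by rw [h7, h15, h16]
      calc h * z * h⁻¹ = (h * x * h⁻¹)⁻¹ * (h * x * h⁻¹ * (h * z * h⁻¹)) := by group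
        _ = (h * x * h⁻¹)⁻¹ * (x * z) := by rw [h18]
        _ = h * x * h⁻¹ * (x * z) := by
          rw [show (h * x * h⁻¹)⁻¹ = h * x⁻¹ * h⁻¹ by group, F.x_inv]
    apply H.not_conj_x_z (h⁻¹ * g)
    calc h⁻¹ * g * x * (h⁻¹ * g)⁻¹ = h⁻¹ * (g * x * g⁻¹) * h := by group
      _ = h⁻¹ * (h * z * h⁻¹) * h := by rw [hg, h17]
      _ = z := by group

/-! ### field type -/

/-- a bad element of field type centralising `D` -/
structure Fld (H : Two P x z K T D Q d r c o1 o2) (y : G) : Prop where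
  bad : Bad x T y
  o2_ne : o2 y ≠ 1
  cent : ∀ e ∈ D, y * e = e * y

theorem Fld.o1_one [Finite G] {H : Two P x z K T D Q d r c o1 o2} {y : G} (hy : Fld H y) : o1 y = 1 := by
  rcases H.F.no_mixed y hy.bad.mem (H.bad_sq hy.bad) with h | h
  · exact h
  · exact absurd h hy.o2_ne

theorem d_three (H : Two P x z K T D Q d r c o1 o2) {y : G} (hy : y ∈ T) (h : o2 y ≠ 1) : 3 ≤ d := by
  have h1 := H.F.d_ge
  by_contra hcon
  have h2 : d = 2 := by omega
  exact h (H.F.small h2 y hy).1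

/-- elements `e x^i` -/
def InDx (D : Subgroup G) (x : G) (u : G) : Prop := u ∈ D ∨ u * x ∈ D

theorem InDx.mul (H : Two P x z K T D Q d r c o1 o2) {u v : G} (hu : InDx D x u) (hv : InDx D x v)
    (hvT : v ∈ T) : InDx D x (u * v) := by
  have F := H.F
  rcases hu with hu | hu <;> rcases hv with hv | hv
  · exact Or.inl (D.mul_mem hu hv)
  · right; rw [mul_assoc]; exact D.mul_mem hu hv
  · right
    rw [mul_assoc, ← F.T_comm v hvT, ← mul_assoc]
    exact D.mul_mem hu hv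
  · left
    have := D.mul_mem hu hv
    have e : u * x * (v * x) = u * v := by
      calc u * x * (v * x) = u * (x * v) * x := by group
        _ = u * (v * x) * x := by rw [F.T_comm v hvT]
        _ = u * v * (x * x) := by group
        _ = u * v := by rw [F.xx, mul_one]
    rwa [e] at this

theorem InDx.mem_T (H : Two P x z K T D Q d r c o1 o2) {u : G} (hu : InDx D x u) : u ∈ T := by
  rcases hu with hu | hu
  · exact H.F.D_le hu
  · have : u = u * x * x⁻¹ := by group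
    rw [this]
    exact T.mul_mem (H.F.D_le hu) (T.inv_mem H.F.x_T)

theorem InDx.pow (H : Two P x z K T D Q d r c o1 o2) {u : G} (hu : InDx D x u) (n : ℕ) :
    InDx D x (u ^ n) := by
  induction n with
  | zero => left; rw [pow_zero]; exact D.one_mem
  | succ n ih => rw [pow_succ]; exact InDx.mul H ih hu (InDx.mem_T H hu)

theorem InDx.inv (H : Two P x z K T D Q d r c o1 o2) {u : G} (hu : InDx D x u) : InDx D x u⁻¹ := by
  rcases hu with h | h
  · exact Or.inl (D.inv_mem h)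
  · right
    have h1 := D.inv_mem h
    have huT := InDx.mem_T H (Or.inr h : InDx D x u)
    have h2 := H.F.T_comm _ (T.inv_mem huT)
    rwa [mul_inv_rev, H.F.x_inv, h2] at h1

theorem InDx.outer (H : Two P x z K T D Q d r c o1 o2) {u : G} (hu : InDx D x u) :
    o1 u = 1 ∧ o2 u = 1 := by
  have F := H.F
  have h1 : u = x * (u * x) := by
    have huT := InDx.mem_T H hu
    calc u = u * (x * x) := by rw [F.xx, mul_one]
      _ = (u * x) * x := by group
      _ = x * (u * x) := (F.T_comm _ (T.mul_mem huT F.x_T)).symm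
  rcases hu with h | h
  · exact ⟨F.o1_D h, F.o2_D h⟩
  · rw [h1, F.o1_mul' F.x_T (F.D_le h), F.o2_mul' F.x_T (F.D_le h), F.o1_Q x F.x_mem,
      F.o2_Q x F.x_mem, F.o1_D h, F.o2_D h, mul_one, mul_one]
    exact ⟨rfl, rfl⟩

/-- the setting: `y` of field type centralising `D`, `h y h⁻¹ = x` -/
structure FH (H : Two P x z K T D Q d r c o1 o2) (y h : G) : Prop where
  fld : Fld H y
  hh : h * y * h⁻¹ = x
  hT : ∀ t ∈ T, t * y = y * t → h * t * h⁻¹ ∈ T
  bad : Bad x T (h * x * h⁻¹)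

variable {H : Two P x z K T D Q d r c o1 o2} {y h : G}

theorem FH.mem (W : FH H y h) {u : G} (hu : InDx D x u) : h * u * h⁻¹ ∈ T := by
  apply W.hT _ (InDx.mem_T H hu)
  rcases hu with h1 | h1
  · exact (W.fld.cent u h1).symm
  · have hy := W.fld.bad.mem
    have h2 : y * (u * x) = u * x * y := W.fld.cent _ h1
    have h3 := H.F.T_comm y hy
    calc u * y = (u * x * y) * x⁻¹ := by
          rw [mul_assoc u x y, h3]; group
      _ = y * (u * x) * x⁻¹ := by rw [h2]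
      _ = y * u := by group

/-- `h (D × ⟨x⟩) h⁻¹ ∩ Q = 1` -/
theorem FH.eq_one [Finite G] (W : FH H y h) {u : G} (hu : InDx D x u) (hQ : h * u * h⁻¹ ∈ Q) : u = 1 := by
  have F := H.F
  by_contra hne
  obtain ⟨n, hn1, hn2⟩ := exists_invol_pow F.T_two (InDx.mem_T H hu) hne
  have h1 : h * u ^ n * h⁻¹ ∈ Q := by
    rw [← conj_pow]; exact Q.pow_mem hQ n
  rcases F.Q_inv _ h1 (by
    calc h * u ^ n * h⁻¹ * (h * u ^ n * h⁻¹) = h * (u ^ n * u ^ n) * h⁻¹ := by group
      _ = 1 := by rw [hn2]; group) with h2 | h2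
  · apply hn1
    calc u ^ n = h⁻¹ * (h * u ^ n * h⁻¹) * h := by group
      _ = 1 := by rw [h2]; group
  · have h3 : u ^ n = y := by
      have h4 : h * u ^ n * h⁻¹ = h * y * h⁻¹ := by rw [h2, W.hh]
      exact mul_left_cancel (mul_right_cancel h4)
    apply W.fld.o2_ne
    rw [← h3]
    exact (InDx.outer H (InDx.pow H hu n)).2

theorem FH.sq_one (W : FH H y h) : h * x * h⁻¹ * (h * x * h⁻¹) = 1 := H.bad_sq W.bad

/-- the `o2`-values of `h D h⁻¹` are `1`, `φ` for every involution `φ` of `A` -/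
theorem FH.o2_val (W : FH H y h) {φ : A} (h1 : φ ≠ 1) (h2 : φ * φ = 1) {e : G} (he : e ∈ D) :
    o2 (h * e * h⁻¹) = 1 ∨ o2 (h * e * h⁻¹) = φ := by
  have F := H.F
  have hinv : ∀ e ∈ D, e * e = 1 → o2 (h * e * h⁻¹) = 1 ∨ o2 (h * e * h⁻¹) = φ := by
    intro e he hee
    have h3 := W.mem (Or.inl he)
    have h4 := F.o2_invol h3 (by
      calc h * e * h⁻¹ * (h * e * h⁻¹) = h * (e * e) * h⁻¹ := by group
        _ = 1 := by rw [hee]; group)
    by_cases h5 : o2 (h * e * h⁻¹) = 1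
    · exact Or.inl h5
    · exact Or.inr (F.A_inv _ _ h4 h5 h2 h1)
  obtain ⟨k, hk⟩ := F.D_form e he
  rcases hk with h3 | h3
  · have hkc : r ^ k * c ∈ D := D.mul_mem (D.zpow_mem F.r_mem k) F.c_mem
    have e1 : h * e * h⁻¹ = h * (r ^ k * c) * h⁻¹ * (h * c * h⁻¹) := by
      calc h * e * h⁻¹ = h * (r ^ k * (c * c)) * h⁻¹ := by rw [F.cc, mul_one, h3]
        _ = h * (r ^ k * c) * h⁻¹ * (h * c * h⁻¹) := by group
    rw [e1, F.o2_mul' (W.mem (Or.inl hkc)) (W.mem (Or.inl F.c_mem))]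
    rcases hinv _ hkc (F.refl_sq k) with h4 | h4 <;> rcases hinv _ F.c_mem F.cc with h5 | h5
    · left; rw [h4, h5, one_mul]
    · right; rw [h4, h5, one_mul]
    · right; rw [h4, h5, mul_one]
    · left; rw [h4, h5, h2]
  · exact hinv e he (by rw [h3]; exact F.refl_sq k)

/-- `x1` commutes with `h (D × ⟨x⟩) h⁻¹` -/
theorem FH.comm (H : Two P x z K T D Q d r c o1 o2) {h : G} {u : G} (hu : InDx D x u) :
    h * x * h⁻¹ * (h * u * h⁻¹) = h * u * h⁻¹ * (h * x * h⁻¹) := by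
  have h1 := H.F.T_comm u (InDx.mem_T H hu)
  calc h * x * h⁻¹ * (h * u * h⁻¹) = h * (x * u) * h⁻¹ := by group
    _ = h * (u * x) * h⁻¹ := by rw [h1]
    _ = h * u * h⁻¹ * (h * x * h⁻¹) := by group

/-- an element commuting with `q f` and normalising `Q` and `D` commutes with `q` and `f` -/
theorem comm_of_comm (H : Two P x z K T D Q d r c o1 o2) {t q f : G} (ht : t ∈ T) (hq : q ∈ Q)
    (hf : f ∈ D) (h : t * (q * f) = q * f * t) : t * q = q * t ∧ t * f = f * t := by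
  have F := H.F
  have h9 : (t * q * t⁻¹) * (t * f * t⁻¹) = q * f := by
    calc (t * q * t⁻¹) * (t * f * t⁻¹) = t * (q * f) * t⁻¹ := by group
      _ = q * f := by rw [h]; group
  obtain ⟨h10, h11⟩ := F.QD_unique (F.Q_norm _ ht q hq) hq (F.D_norm ht hf) hf h9
  refine ⟨?_, ?_⟩
  · calc t * q = t * q * t⁻¹ * t := by group
      _ = q * t := by rw [h10]
  · calc t * f = t * f * t⁻¹ * t := by group
      _ = f * t := by rw [h11]

/-- `x1 = h x h⁻¹` is not of diagonal type -/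
theorem FH.o1_x1 [Finite G] (W : FH H y h) : o1 (h * x * h⁻¹) = 1 := by
  have F := H.F
  by_contra ho
  have hx1 := W.bad.mem
  have ho2 : o2 (h * x * h⁻¹) = 1 := by
    rcases F.no_mixed _ hx1 W.sq_one with h1 | h1
    · exact absurd h1 ho
    · exact h1
  have hd := H.d_three W.fld.bad.mem W.fld.o2_ne
  -- two nontrivial elements of `h (D × ⟨x⟩) h⁻¹ ∩ QD` are equal
  have key : ∀ u, InDx D x u → u ≠ 1 → o1 (h * u * h⁻¹) = 1 → o2 (h * u * h⁻¹) = 1 →
      h * u * h⁻¹ = z ∨ h * u * h⁻¹ = x * z := by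
    intro u hu hu1 h1 h2
    obtain ⟨q, hq, f, hf, h3⟩ := F.ker _ (W.mem hu) h1 h2
    have h4 := FH.comm H (h := h) hu
    rw [h3] at h4
    obtain ⟨h5, h6⟩ := H.comm_of_comm hx1 hq hf h4
    have h7 := (H.diag hx1 W.sq_one ho).1 f hf h6.symm
    have h8 : f * f = 1 := by
      rcases h7 with h | h
      · rw [h, one_mul]
      · rw [h, H.zz]
    -- the square is in `Q`
    have h9 : h * (u * u) * h⁻¹ = q * q := by
      calc h * (u * u) * h⁻¹ = (h * u * h⁻¹) * (h * u * h⁻¹) := by group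
        _ = q * (f * q) * f := by rw [h3]; group
        _ = q * (q * f) * f := by rw [F.QD_comm hq hf]
        _ = q * q * (f * f) := by group
        _ = q * q := by rw [h8, mul_one]
    have h10 : u * u = 1 := W.eq_one (InDx.mul H hu hu (InDx.mem_T H hu)) (by
      rw [h9]; exact Q.mul_mem hq hq)
    rw [h10] at h9
    have h11 : q * q = 1 := by rw [← h9]; group
    rcases F.Q_inv q hq h11 with h12 | h12 <;> rcases h7 with h13 | h13
    · exfalso
      rw [h12, h13, one_mul] at h3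
      apply hu1
      calc u = h⁻¹ * (h * u * h⁻¹) * h := by group
        _ = 1 := by rw [h3]; group
    · left; rw [h3, h12, h13, one_mul]
    · exfalso
      apply hu1
      apply W.eq_one hu
      rw [h3, h12, h13, mul_one]; exact F.x_mem
    · right; rw [h3, h12, h13]
  have uniq : ∀ u v, InDx D x u → InDx D x v → u ≠ 1 → v ≠ 1 →
      o1 (h * u * h⁻¹) = 1 → o2 (h * u * h⁻¹) = 1 → o1 (h * v * h⁻¹) = 1 →
      o2 (h * v * h⁻¹) = 1 → u = v := by
    intro u v hu hv hu1 hv1 h1 h2 h3 h4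
    by_contra hne
    have h5 := key u hu hu1 h1 h2
    have h6 := key v hv hv1 h3 h4
    have h7 : h * (u * v⁻¹) * h⁻¹ = (h * u * h⁻¹) * (h * v * h⁻¹)⁻¹ := by group
    have hzi : z⁻¹ = z := inv_eq_of_mul_eq_one_right H.zz
    have h8 : h * (u * v⁻¹) * h⁻¹ ∈ Q := by
      rw [h7]
      rcases h5 with h5 | h5 <;> rcases h6 with h6 | h6
      · rw [h5, h6, mul_inv_cancel]; exact Q.one_mem
      · rw [h5, h6, mul_inv_rev, ← mul_assoc, mul_inv_cancel, one_mul]
        exact Q.inv_mem F.x_mem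
      · rw [h5, h6, mul_assoc, mul_inv_cancel, mul_one]; exact F.x_mem
      · rw [h5, h6, mul_inv_cancel]; exact Q.one_mem
    have h9 := W.eq_one (InDx.mul H hu (InDx.inv H hv) (T.inv_mem (InDx.mem_T H hv))) h8
    exact hne (mul_inv_eq_one.1 h9)
  -- the values on `D`
  have hxne : x ∉ D := fun hx => F.x_ne (F.QD x hx F.x_mem)
  have hxe : InDx D x x := Or.inr (by rw [F.xx]; exact D.one_mem)
  have h1D : ∀ e ∈ D, ∃ u, (u = e ∨ u = e * x) ∧ o1 (h * u * h⁻¹) = 1 ∧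
      o2 (h * u * h⁻¹) = o2 (h * e * h⁻¹) := by
    intro e he
    by_cases h1 : o1 (h * e * h⁻¹) = 1
    · exact ⟨e, Or.inl rfl, h1, rfl⟩
    · refine ⟨e * x, Or.inr rfl, ?_, ?_⟩
      · have e1 : h * (e * x) * h⁻¹ = (h * e * h⁻¹) * (h * x * h⁻¹) := by group
        rw [e1]
        exact F.o1_ne_mul (W.mem (Or.inl he)) hx1 h1 ho
      · have e1 : h * (e * x) * h⁻¹ = (h * e * h⁻¹) * (h * x * h⁻¹) := by group
        rw [e1, F.o2_mul' (W.mem (Or.inl he)) hx1, ho2, mul_one]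
  have hInDx : ∀ e ∈ D, ∀ u, (u = e ∨ u = e * x) → InDx D x u := by
    rintro e he u (rfl | rfl)
    · exact Or.inl he
    · right
      rw [mul_assoc, F.xx, mul_one]; exact he
  have hune : ∀ e ∈ D, e ≠ 1 → ∀ u, (u = e ∨ u = e * x) → u ≠ 1 := by
    rintro e he he1 u (rfl | rfl)
    · exact he1
    · intro h1
      apply hxne
      have : x = e⁻¹ := (inv_eq_of_mul_eq_one_right h1).symm
      rw [this]; exact D.inv_mem he
  -- two elements `e, f ≠ 1` of `D` with trivial `o2`-value are equal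
  have eqD : ∀ e ∈ D, ∀ f ∈ D, e ≠ 1 → f ≠ 1 → o2 (h * e * h⁻¹) = 1 → o2 (h * f * h⁻¹) = 1 →
      e = f := by
    intro e he f hf he1 hf1 h1 h2
    obtain ⟨u, hu, hu1, hu2⟩ := h1D e he
    obtain ⟨v, hv, hv1, hv2⟩ := h1D f hf
    have h3 := uniq u v (hInDx e he u hu) (hInDx f hf v hv) (hune e he he1 u hu)
      (hune f hf hf1 v hv) hu1 (hu2.trans h1) hv1 (hv2.trans h2)
    rcases hu with rfl | rfl <;> rcases hv with rfl | rfl
    · exact h3
    · exfalso
      apply hxne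
      have : x = f⁻¹ * u := by rw [h3]; group
      rw [this]; exact D.mul_mem (D.inv_mem hf) he
    · exfalso
      apply hxne
      have : x = e⁻¹ * v := by rw [← h3]; group
      rw [this]; exact D.mul_mem (D.inv_mem he) hf
    · exact mul_right_cancel h3
  -- `r²`
  have hr2 : r * r ∈ D := D.mul_mem F.r_mem F.r_mem
  have hr2' : r * r ≠ 1 := F.rr_ne hd
  have hc1 : c ≠ 1 := by intro h; exact F.c_not 0 (by rw [zpow_zero, h])
  -- the involution `φ`
  by_cases hall : ∀ e ∈ D, o2 (h * e * h⁻¹) = 1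
  · have h1 := eqD c F.c_mem (r * r) hr2 hc1 hr2' (hall c F.c_mem) (hall _ hr2)
    apply F.c_not 2
    rw [h1, zpow_two]
  · push Not at hall
    obtain ⟨e0, he0, he0'⟩ := hall
    -- an involution of `D` with nontrivial value
    obtain ⟨φ, hφ1, hφ2⟩ : ∃ φ : A, φ ≠ 1 ∧ φ * φ = 1 := by
      by_contra hcon
      push Not at hcon
      apply he0'
      have hinv : ∀ e ∈ D, e * e = 1 → o2 (h * e * h⁻¹) = 1 := by
        intro e he hee
        by_contra h5
        apply hcon _ h5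
        exact F.o2_invol (W.mem (Or.inl he)) (by
          calc h * e * h⁻¹ * (h * e * h⁻¹) = h * (e * e) * h⁻¹ := by group
            _ = 1 := by rw [hee]; group)
      obtain ⟨k, hk⟩ := F.D_form e0 he0
      rcases hk with h3 | h3
      · have hkc : r ^ k * c ∈ D := D.mul_mem (D.zpow_mem F.r_mem k) F.c_mem
        have e1 : h * e0 * h⁻¹ = h * (r ^ k * c) * h⁻¹ * (h * c * h⁻¹) := by
          calc h * e0 * h⁻¹ = h * (r ^ k * (c * c)) * h⁻¹ := by rw [F.cc, mul_one, h3]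
            _ = h * (r ^ k * c) * h⁻¹ * (h * c * h⁻¹) := by group
        rw [e1, F.o2_mul' (W.mem (Or.inl hkc)) (W.mem (Or.inl F.c_mem)),
          hinv _ hkc (F.refl_sq k), hinv _ F.c_mem F.cc, one_mul]
      · exact hinv e0 he0 (by rw [h3]; exact F.refl_sq k)
    have hval := fun e he => W.o2_val hφ1 hφ2 (e := e) he
    have hmul : ∀ e ∈ D, ∀ f ∈ D, o2 (h * (e * f) * h⁻¹) = o2 (h * e * h⁻¹) * o2 (h * f * h⁻¹) := by
      intro e he f hf
      rw [← F.o2_mul' (W.mem (Or.inl he)) (W.mem (Or.inl hf))]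
      congr 1; group
    have h2 : o2 (h * (r * r) * h⁻¹) = 1 := by
      rw [hmul r F.r_mem r F.r_mem]
      rcases hval r F.r_mem with h3 | h3
      · rw [h3, one_mul]
      · rw [h3, hφ2]
    rcases hval c F.c_mem with h3 | h3
    · have h1 := eqD c F.c_mem (r * r) hr2 hc1 hr2' h3 h2
      apply F.c_not 2
      rw [h1, zpow_two]
    · have hr1 : r ≠ 1 := by intro h; apply hr2'; rw [h, one_mul]
      rcases hval r F.r_mem with h4 | h4
      · have h1 := eqD r F.r_mem (r * r) hr2 hr1 hr2' h4 h2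
        exact hr1 (left_eq_mul.1 h1)
      · have h5 : o2 (h * (r * c) * h⁻¹) = 1 := by
          rw [hmul r F.r_mem c F.c_mem, h3, h4, hφ2]
        have h6 : r * c ≠ 1 := by
          intro h
          have := F.refl_ne 1 0
          rw [zpow_one, zpow_zero] at this
          exact this h
        have h1 := eqD (r * c) (D.mul_mem F.r_mem F.c_mem) (r * r) hr2 h6 hr2' h5 h2
        apply F.c_not 1
        rw [zpow_one]; exact mul_left_cancel h1

end Two

end Cfsg.Agent.GH.L2One
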