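import Cfsg.Agent.GH.L2One.DblLem

/-!
# GH-L2, CASE I: consequences of `CoreH` (computations modulo `O(H)`, `H = C(x z)`)
-/

set_option autoImplicit false

open Subgroup

namespace Cfsg.Agent.GH.L2One.CoreLem

open DblLem

universe u

variable {G : Type u} [Group G] {x z c0 : G} {S T T0 D N R : Subgroup G} {d : ℕ} {r c s : G}

/-- the quotient `H / N` -/
theorem exists_quot (hC : CoreH S N R x c0) : ∃ (Q : Type u) (_ : Group Q)
    (π : (centralizer ({c0} : Set G) : Subgroup G) →* Q),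
    ∀ a b, π a = π b ↔ (a : G)⁻¹ * b ∈ N := by
  have hN : (N.subgroupOf (centralizer ({c0} : Set G))).Normal := by
    constructor
    intro n hn g
    exact hC.N_norm g (mem_centralizer_singleton_iff.1 g.2).symm n hn
  refine ⟨_ ⧸ N.subgroupOf (centralizer ({c0} : Set G)), inferInstance, QuotientGroup.mk' _, fun a b => ?_⟩
  exact QuotientGroup.eq

theorem mem_H {g : G} : g ∈ centralizer ({c0} : Set G) ↔ c0 * g = g * c0 := by
  rw [mem_centralizer_singleton_iff, eq_comm]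

/-- `S ∩ N = 1` -/
theorem eq_one_of_mem (hS : IsPGroup 2 S) (hC : CoreH S N R x c0) {y : G} (hy : y ∈ S) (hN : y ∈ N) : y = 1 := by
  have hfin : Finite N := Nat.finite_of_card_ne_zero (fun h => by
    have := hC.N_odd
    rw [h] at this
    exact absurd this (by decide))
  obtain ⟨k, hk⟩ := hS ⟨y, hy⟩
  have h1 : y ^ 2 ^ k = 1 := congrArg Subtype.val hk
  have h2 : y ^ Nat.card N = 1 := by
    have h3 : (⟨y, hN⟩ : N) ^ Nat.card N = 1 := pow_card_eq_one'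
    exact congrArg Subtype.val h3
  have h4 : Nat.gcd (2 ^ k) (Nat.card N) = 1 := Nat.Coprime.pow_left _ (by
    rw [Nat.coprime_two_left]; exact hC.N_odd)
  have h5 := pow_gcd_eq_one.2 ⟨h1, h2⟩
  rwa [h4, pow_one] at h5

theorem S_H (hD : Dbl x z S T T0 D d r c s) {g : G} (hg : g ∈ S) : g ∈ centralizer ({x * z} : Set G) :=
  mem_H.2 (S_xz hD hg)

/-- an element of `R` congruent to a conjugate of `x` is an involution -/
theorem sq_one (hD : Dbl x z S T T0 D d r c s) (hC : CoreH S N R x (x * z)) {h y : G}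
    (hh : x * z * h = h * (x * z)) (hy : y ∈ S) (e : y⁻¹ * (h * x * h⁻¹) ∈ N) : y * y = 1 := by
  obtain ⟨Q, _, π, hπ⟩ := exists_quot hC
  have hyH := S_H hD hy
  have hxH := S_H hD (x_S hD)
  have e1 : π ⟨y, hyH⟩ = π (⟨h, mem_H.2 hh⟩ * ⟨x, hxH⟩ * ⟨h, mem_H.2 hh⟩⁻¹) := (hπ _ _).2 e
  have e2 : π (⟨x, hxH⟩ * ⟨x, hxH⟩) = 1 := by
    rw [← map_one π]; congr 1; exact Subtype.ext (xx hD)
  have e3 : π 1 = π (⟨y, hyH⟩ * ⟨y, hyH⟩) := by
    rw [map_mul, e1, map_mul, map_mul, map_one, map_inv]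
    rw [map_mul] at e2
    symm
    calc π ⟨h, mem_H.2 hh⟩ * π ⟨x, hxH⟩ * (π ⟨h, mem_H.2 hh⟩)⁻¹ *
        (π ⟨h, mem_H.2 hh⟩ * π ⟨x, hxH⟩ * (π ⟨h, mem_H.2 hh⟩)⁻¹)
        = π ⟨h, mem_H.2 hh⟩ * (π ⟨x, hxH⟩ * π ⟨x, hxH⟩) * (π ⟨h, mem_H.2 hh⟩)⁻¹ := by group
      _ = 1 := by rw [e2]; group
  rw [hπ] at e3
  have e4 : y * y ∈ N := by simpa using e3
  exact eq_one_of_mem hD.S_two hC (S.mul_mem hy hy) e4

/-- Two elements of `R` congruent to conjugates of `x` commute, if all involutions of `R` commute with `x`. -/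
theorem comm_of_conj (hD : Dbl x z S T T0 D d r c s) (hC : CoreH S N R x (x * z))
    (hno : ∀ y ∈ R, y * y = 1 → x * y = y * x) {h1 h2 y1 y2 : G}
    (hh1 : x * z * h1 = h1 * (x * z)) (hh2 : x * z * h2 = h2 * (x * z)) (hy1 : y1 ∈ S) (hy2 : y2 ∈ S)
    (e1 : y1⁻¹ * (h1 * x * h1⁻¹) ∈ N) (e2 : y2⁻¹ * (h2 * x * h2⁻¹) ∈ N) : y1 * y2 = y2 * y1 := by
  obtain ⟨Q, _, π, hπ⟩ := exists_quot hC
  have hy1H := S_H hD hy1
  have hy2H := S_H hD hy2
  have hxH := S_H hD (x_S hD)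
  have hh1H := mem_H.2 hh1
  have hh2H := mem_H.2 hh2
  have hh3H := mul_mem (inv_mem hh1H) hh2H
  obtain ⟨y3, hy3, e3, -⟩ := hC.conj (h1⁻¹ * h2) (mem_H.1 hh3H)
  have hy3H := S_H hD (hC.R_le hy3)
  have hc := hno y3 hy3 (sq_one hD hC (mem_H.1 hh3H) (hC.R_le hy3) e3)
  have e1' : π ⟨y1, hy1H⟩ = π (⟨h1, hh1H⟩ * ⟨x, hxH⟩ * ⟨h1, hh1H⟩⁻¹) := (hπ _ _).2 e1
  have e2' : π ⟨y2, hy2H⟩ = π (⟨h2, hh2H⟩ * ⟨x, hxH⟩ * ⟨h2, hh2H⟩⁻¹) := (hπ _ _).2 e2
  have e3' : π ⟨y3, hy3H⟩ = π ((⟨h1, hh1H⟩⁻¹ * ⟨h2, hh2H⟩) * ⟨x, hxH⟩ * (⟨h1, hh1H⟩⁻¹ * ⟨h2, hh2H⟩)⁻¹) :=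
    (hπ _ _).2 e3
  have hc' : π ⟨x, hxH⟩ * π ⟨y3, hy3H⟩ = π ⟨y3, hy3H⟩ * π ⟨x, hxH⟩ := by
    rw [← map_mul, ← map_mul]; congr 1; exact Subtype.ext hc
  rw [e3'] at hc'
  simp only [map_mul, map_inv] at e1' e2' hc'
  have e4 : π (⟨y1, hy1H⟩ * ⟨y2, hy2H⟩) = π (⟨y2, hy2H⟩ * ⟨y1, hy1H⟩) := by
    rw [map_mul, map_mul, e1', e2']
    calc π ⟨h1, hh1H⟩ * π ⟨x, hxH⟩ * (π ⟨h1, hh1H⟩)⁻¹ * (π ⟨h2, hh2H⟩ * π ⟨x, hxH⟩ * (π ⟨h2, hh2H⟩)⁻¹)
        = π ⟨h1, hh1H⟩ * (π ⟨x, hxH⟩ * ((π ⟨h1, hh1H⟩)⁻¹ * π ⟨h2, hh2H⟩ * π ⟨x, hxH⟩ *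
            ((π ⟨h1, hh1H⟩)⁻¹ * π ⟨h2, hh2H⟩)⁻¹)) * (π ⟨h1, hh1H⟩)⁻¹ := by group
      _ = _ := by rw [hc']; group
  rw [hπ] at e4
  have e5 : (y1 * y2)⁻¹ * (y2 * y1) ∈ N := e4
  have e6 := eq_one_of_mem hD.S_two hC (S.mul_mem (S.inv_mem (S.mul_mem hy1 hy2)) (S.mul_mem hy2 hy1)) e5
  exact inv_mul_eq_one.1 e6

/-- conjugating by an element of `S` -/
theorem conj_S (hD : Dbl x z S T T0 D d r c s) (hC : CoreH S N R x (x * z)) {g h y : G}
    (hg : g ∈ S) (hh : x * z * h = h * (x * z)) (e : y⁻¹ * (h * x * h⁻¹) ∈ N) :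
    x * z * (g * h) = (g * h) * (x * z) ∧ (g * y * g⁻¹)⁻¹ * ((g * h) * x * (g * h)⁻¹) ∈ N := by
  refine ⟨mem_H.1 (mul_mem (S_H hD hg) (mem_H.2 hh)), ?_⟩
  have h1 := hC.N_norm g (S_xz hD hg) _ e
  have e1 : g * (y⁻¹ * (h * x * h⁻¹)) * g⁻¹ = (g * y * g⁻¹)⁻¹ * ((g * h) * x * (g * h)⁻¹) := by group
  rwa [e1] at h1

/-- if `h x h⁻¹ ∈ x N`, then `n h` centralizes `x` for some `n ∈ N` -/
theorem exists_cent (hD : Dbl x z S T T0 D d r c s) (hC : CoreH S N R x (x * z)) {h : G}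
    (e : x⁻¹ * (h * x * h⁻¹) ∈ N) : ∃ n ∈ N, x * (n * h) = (n * h) * x := by
  set m := x⁻¹ * (h * x * h⁻¹) with hm
  have hxi : x⁻¹ = x := inv_eq_of_mul_eq_one_right (xx hD)
  have hxm : h * x * h⁻¹ = x * m := by rw [hm]; group
  have hinv : x * m * x⁻¹ = m⁻¹ := by
    have h1 : (x * m) * (x * m) = 1 := by
      rw [← hxm]
      calc h * x * h⁻¹ * (h * x * h⁻¹) = h * (x * x) * h⁻¹ := by group
        _ = 1 := by rw [xx hD]; group
    calc x * m * x⁻¹ = (x * m) * (x * m) * m⁻¹ := by rw [hxi]; group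
      _ = m⁻¹ := by rw [h1, one_mul]
  have hfin : Finite N := Nat.finite_of_card_ne_zero (fun h => by
    have := hC.N_odd
    rw [h] at this
    exact absurd this (by decide))
  obtain ⟨k, hk⟩ := hC.N_odd
  have hmk : m ^ (2 * k + 1) = 1 := by
    rw [← hk]
    have h3 : (⟨m, e⟩ : N) ^ Nat.card N = 1 := pow_card_eq_one'
    exact congrArg Subtype.val h3
  refine ⟨m ^ (k + 1), N.pow_mem e _, ?_⟩
  set n := m ^ (k + 1) with hn
  have hnn : n * n = m := by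
    rw [hn, ← pow_add]
    have : k + 1 + (k + 1) = (2 * k + 1) + 1 := by ring
    rw [this, pow_succ, hmk, one_mul]
  have hxn : x * n * x⁻¹ = n⁻¹ := by
    rw [hn, ← conj_pow, hinv, inv_pow]
  -- `n (x m) n⁻¹ = x`
  have h1 : n * (h * x * h⁻¹) * n⁻¹ = x := by
    rw [hxm, ← hnn]
    calc n * (x * (n * n)) * n⁻¹ = n * (x * n * x⁻¹) * x := by group
      _ = x := by rw [hxn]; group
  calc x * (n * h) = n * (h * x * h⁻¹) * n⁻¹ * (n * h) := by rw [h1]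
    _ = n * h * x := by group

/-! ### `S/T0` cyclic: all involutions of `S` are in `T` -/

section cyclic

variable (hD : Dbl x z S T T0 D d r c s) (hC : CoreH S N R x (x * z))

/-- in the cyclic case, an element of `R` conjugate to `x` modulo `N` is `x` or `z` -/
theorem eq_x_or_z (hD : Dbl x z S T T0 D d r c s) (hC : CoreH S N R x (x * z)) (ha : ∃ a ∈ T, a ∉ T0)
    (hno : ∀ y ∈ S, y * y = 1 → y ∈ T) {h y : G} (hh : x * z * h = h * (x * z)) (hyR : y ∈ R)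
    (e : y⁻¹ * (h * x * h⁻¹) ∈ N) : y = x ∨ y = z := by
  have hy := hC.R_le hyR
  have hyy := sq_one hD hC hh hy e
  have hyT := hno y hy hyy
  have hno' : ∀ y ∈ R, y * y = 1 → x * y = y * x := fun y hy h1 => T_comm hD (hno y (hC.R_le hy) h1)
  -- `y` commutes with its `S`-conjugates
  have hcom : ∀ g ∈ S, y * (g * y * g⁻¹) = g * y * g⁻¹ * y := by
    intro g hg
    obtain ⟨h1, h2⟩ := conj_S hD hC hg hh e
    exact comm_of_conj hD hC hno' hh h1 hy (S.mul_mem (S.mul_mem hg hy) (S.inv_mem hg)) e h2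
  have hyi : y⁻¹ = y := inv_eq_of_mul_eq_one_right hyy
  obtain ⟨a, haT, haT0⟩ := ha
  by_cases hy0 : y ∈ T0
  · -- the first component is central
    have key : ∀ y ∈ T0, (∀ g ∈ S, y * (g * y * g⁻¹) = g * y * g⁻¹ * y) → ∀ e ∈ D, ∀ f ∈ D,
        y = e * (s * f * s⁻¹) → ∀ k : ℤ, e ≠ r ^ k * c := by
      rintro y hy hcom e he f hf rfl k rfl
      obtain ⟨l, hlo, hl⟩ := conj_r hD haT
      obtain ⟨j, hj⟩ := conj_c hD haT
      have hjo : Odd j := by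
        rw [← Int.not_even_iff_odd, ← hD.swap a haT j hj]
        exact haT0
      have h1 := conj_refl hD hl hj k
      obtain ⟨f', hf', h2⟩ := conj_sD hD haT hf
      have h3 := hcom a (hD.T_le haT)
      have h4 : a * (r ^ k * c * (s * f * s⁻¹)) * a⁻¹ = (r ^ (l * k + j) * c) * (s * f' * s⁻¹) := by
        calc a * (r ^ k * c * (s * f * s⁻¹)) * a⁻¹ = (a * (r ^ k * c) * a⁻¹) * (a * (s * f * s⁻¹) * a⁻¹) := by
              group
          _ = _ := by rw [h1, h2]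
      rw [h4] at h3
      have hm1 : r ^ (l * k + j) * c ∈ D := D.mul_mem (D.zpow_mem hD.r_mem _) hD.c_mem
      have h5 : r ^ k * c * (s * f * s⁻¹) * (r ^ (l * k + j) * c * (s * f' * s⁻¹)) =
          (r ^ k * c * (r ^ (l * k + j) * c)) * (s * (f * f') * s⁻¹) := by
        calc r ^ k * c * (s * f * s⁻¹) * (r ^ (l * k + j) * c * (s * f' * s⁻¹))
            = r ^ k * c * ((s * f * s⁻¹) * (r ^ (l * k + j) * c)) * (s * f' * s⁻¹) := by group
          _ = _ := by rw [← hD.comm _ hm1 f hf]; group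
      have h6 : r ^ (l * k + j) * c * (s * f' * s⁻¹) * (r ^ k * c * (s * f * s⁻¹)) =
          (r ^ (l * k + j) * c * (r ^ k * c)) * (s * (f' * f) * s⁻¹) := by
        calc r ^ (l * k + j) * c * (s * f' * s⁻¹) * (r ^ k * c * (s * f * s⁻¹))
            = r ^ (l * k + j) * c * ((s * f' * s⁻¹) * (r ^ k * c)) * (s * f * s⁻¹) := by group
          _ = _ := by rw [← hD.comm _ he f' hf']; group
      rw [h5, h6, refl_mul_refl hD, refl_mul_refl hD] at h3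
      have h7 := (unique hD (D.zpow_mem hD.r_mem _) (D.mul_mem hf hf') (D.zpow_mem hD.r_mem _)
        (D.mul_mem hf' hf) h3).1
      rw [rk_eq hD] at h7
      have h8 := four_dvd hD h7
      obtain ⟨i, rfl⟩ := hlo
      obtain ⟨i', rfl⟩ := hjo
      have h9 : k - ((2 * i + 1) * k + (2 * i' + 1)) - ((2 * i + 1) * k + (2 * i' + 1) - k) =
          4 * (-(i * k) - i') - 2 := by ring
      rw [h9] at h8
      omega
    obtain ⟨e1, he1, f1, hf1, hef⟩ := (hD.mem_T0 y).1 hy0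
    have hef2 : (e1 * (s * f1 * s⁻¹)) * (e1 * (s * f1 * s⁻¹)) = 1 := by rw [← hef]; exact hyy
    rw [sq_split hD he1 hf1] at hef2
    obtain ⟨hee, hff⟩ := split_one hD (D.mul_mem he1 he1) (D.mul_mem hf1 hf1) hef2
    have h1 := key y hy0 hcom e1 he1 f1 hf1 hef
    -- the second component
    have h2 : ∀ k : ℤ, f1 ≠ r ^ k * c := by
      have hs' : s⁻¹ * y * s ∈ T0 := T0_norm' hD hD.s_mem hy0
      have hcom' : ∀ g ∈ S, s⁻¹ * y * s * (g * (s⁻¹ * y * s) * g⁻¹) = g * (s⁻¹ * y * s) * g⁻¹ * (s⁻¹ * y * s) := by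
        intro g hg
        have h3 := hcom (s * g * s⁻¹) (S.mul_mem (S.mul_mem hD.s_mem hg) (S.inv_mem hD.s_mem))
        calc s⁻¹ * y * s * (g * (s⁻¹ * y * s) * g⁻¹) =
            s⁻¹ * (y * (s * g * s⁻¹ * y * (s * g * s⁻¹)⁻¹)) * s := by group
          _ = s⁻¹ * (s * g * s⁻¹ * y * (s * g * s⁻¹)⁻¹ * y) * s := by rw [h3]
          _ = _ := by group
      -- `s⁻¹ y s = f1 * (s e' s⁻¹)`, `e' = s⁻² e1 s²`
      have hss : (s * s)⁻¹ ∈ T := T.inv_mem (ss_T hD)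
      have he' : (s * s)⁻¹ * e1 * (s * s) ∈ D := by
        have := hD.D_norm _ hss e1 he1
        rwa [inv_inv] at this
      refine key _ hs' hcom' f1 hf1 _ he' ?_
      rw [hef]
      have h4 : f1 * (s * ((s * s)⁻¹ * e1 * (s * s)) * s⁻¹) = s * ((s * s)⁻¹ * e1 * (s * s)) * s⁻¹ * f1 :=
        hD.comm f1 hf1 _ he'
      rw [h4]; group
    rcases D_inv hD he1 hee with h3 | h3 | ⟨k, h3⟩
    · rcases D_inv hD hf1 hff with h4 | h4 | ⟨k, h4⟩
      · exfalso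
        -- `y = 1`
        have h5 : y = 1 := by rw [hef, h3, h4]; group
        have h6 := hC.N_norm h⁻¹ (mem_H.1 (inv_mem (mem_H.2 hh))) _ e
        rw [h5] at h6
        have e7 : h⁻¹ * (1⁻¹ * (h * x * h⁻¹)) * h⁻¹⁻¹ = x := by group
        rw [e7] at h6
        exact x_ne hD (eq_one_of_mem hD.S_two hC (x_S hD) h6)
      · left
        rw [hef, h3, h4, hD.sz, one_mul]
      · exact absurd h4 (h2 k)
    · rcases D_inv hD hf1 hff with h4 | h4 | ⟨k, h4⟩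
      · right
        rw [hef, h3, h4]; group
      · exfalso
        have h5 : y = x * z := by rw [hef, h3, h4, hD.sz, xz_comm hD]
        have h6 := hC.N_norm h⁻¹ (mem_H.1 (inv_mem (mem_H.2 hh))) _ e
        rw [h5] at h6
        have e7 : h⁻¹ * ((x * z)⁻¹ * (h * x * h⁻¹)) * h⁻¹⁻¹ = z := by
          calc h⁻¹ * ((x * z)⁻¹ * (h * x * h⁻¹)) * h⁻¹⁻¹ = (h⁻¹ * (x * z) * h)⁻¹ * x := by group
            _ = (h⁻¹ * (x * z * h))⁻¹ * x := by group
            _ = (h⁻¹ * (h * (x * z)))⁻¹ * x := by rw [hh]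
            _ = z⁻¹ := by group
            _ = z := inv_eq_of_mul_eq_one_right (zz hD)
        rw [e7] at h6
        exact z_ne hD (eq_one_of_mem hD.S_two hC (z_S hD) h6)
      · exact absurd h4 (h2 k)
    · exact absurd h3 (h1 k)
  · exfalso
    obtain ⟨k, hk⟩ := conj_c hD hyT
    have hko : Odd k := by
      rw [← Int.not_even_iff_odd, ← hD.swap y hyT k hk]
      exact hy0
    have h1 := hcom c (hD.T_le (hD.D_le hD.c_mem))
    have h2 : y * (c * y * c⁻¹) = r ^ k := by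
      calc y * (c * y * c⁻¹) = (y * c * y⁻¹) * c⁻¹ := by rw [hyi]; group
        _ = r ^ k := by rw [hk]; group
    have h3 : c * y * c⁻¹ * y = r ^ (-k) := by
      calc c * y * c⁻¹ * y = c * y * c⁻¹ * y⁻¹ := by rw [hyi]
        _ = (y * (c * y⁻¹ * c⁻¹))⁻¹ := by group
        _ = r ^ (-k) := by rw [hyi, h2, zpow_neg]
    rw [h2, h3] at h1
    apply two_odd hD hko
    rw [two_mul, zpow_add]
    nth_rewrite 1 [h1]
    rw [← zpow_add, neg_add_cancel, zpow_zero]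

/-- in the cyclic case, `H = O(H) C_H(x) ⟨s⟩` -/
theorem exists_cent' (hD : Dbl x z S T T0 D d r c s) (hC : CoreH S N R x (x * z)) (ha : ∃ a ∈ T, a ∉ T0)
    (hno : ∀ y ∈ S, y * y = 1 → y ∈ T) {h : G} (hh : x * z * h = h * (x * z)) :
    ∃ n ∈ N, ∃ g ∈ S, x * (n * (g * h)) = (n * (g * h)) * x := by
  obtain ⟨y, hyR, e, -⟩ := hC.conj h hh
  rcases eq_x_or_z hD hC ha hno hh hyR e with rfl | rfl
  · obtain ⟨n, hn, h1⟩ := exists_cent hD hC e
    exact ⟨n, hn, 1, S.one_mem, by rw [one_mul]; exact h1⟩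
  · obtain ⟨-, h2⟩ := conj_S hD hC hD.s_mem hh e
    rw [hD.sz] at h2
    obtain ⟨n, hn, h1⟩ := exists_cent hD hC h2
    exact ⟨n, hn, s, hD.s_mem, h1⟩

/-- an element of odd order is killed by `χ` -/
theorem chi_odd {χ : G → ℤˣ} (hχ : ∀ g h, x * g = g * x → x * h = h * x → χ (g * h) = χ g * χ h)
    {m : G} (hm : x * m = m * x) {k : ℕ} (hk : m ^ (2 * k + 1) = 1) : χ m = 1 := by
  have h1 : ∀ j : ℕ, χ (m ^ j) = (χ m) ^ j := by
    intro j
    induction j with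
    | zero =>
      have h2 := hχ 1 1 (by group) (by group)
      rw [one_mul] at h2
      rw [pow_zero, pow_zero]
      exact (mul_eq_left.1 h2.symm)
    | succ j ih =>
      have hc : x * m ^ j = m ^ j * x := (Commute.pow_right hm j : Commute x (m ^ j))
      rw [pow_succ, pow_succ, hχ _ _ hc hm, ih]
  have h2 := h1 (2 * k + 1)
  rw [hk] at h2
  have h3 := h1 0
  rw [pow_zero, pow_zero] at h3
  rw [h3, pow_succ, pow_mul, Int.units_sq, one_pow, one_mul] at h2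
  exact h2.symm

/-- **CLAIM**: no element of `T - T0` is `H`-conjugate to an element of `T0`. -/
theorem not_conj (hD : Dbl x z S T T0 D d r c s) (hC : CoreH S N R x (x * z)) (hno : ∀ y ∈ S, y * y = 1 → y ∈ T)
    {χ : G → ℤˣ} (hχ : ∀ g h, x * g = g * x → x * h = h * x → χ (g * h) = χ g * χ h)
    (hχT : ∀ t ∈ T, (χ t = 1 ↔ t ∈ T0)) {h b : G} (hh : x * z * h = h * (x * z)) (hb : b ∈ T)
    (hb0 : b ∉ T0) (hy : h * b * h⁻¹ ∈ T0) : False := by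
  obtain ⟨n, hn, g, hg, h1⟩ := exists_cent' hD hC ⟨b, hb, hb0⟩ hno hh
  set y := g * (h * b * h⁻¹) * g⁻¹ with hy'
  have hyT0 : y ∈ T0 := T0_norm hD hg hy
  have hyT := T0_le hD hyT0
  set k := n * (g * h) with hk
  have e1 : k * b * k⁻¹ = n * y * n⁻¹ := by rw [hk, hy']; group
  have hcb := T_comm hD hb
  -- `χ (k b k⁻¹) = χ b`
  have hki : x * k⁻¹ = k⁻¹ * x := (Commute.inv_right h1 : Commute x k⁻¹)
  have hkb : x * (k * b) = k * b * x := (Commute.mul_right h1 hcb : Commute x (k * b))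
  have hχ1 : χ 1 = 1 := (hχT 1 T.one_mem).2 T0.one_mem
  have h2 : χ (k * b * k⁻¹) = χ b := by
    rw [hχ _ _ hkb hki, hχ _ _ h1 hcb]
    have h3 : χ k * χ k⁻¹ = 1 := by rw [← hχ _ _ h1 hki, mul_inv_cancel, hχ1]
    calc χ k * χ b * χ k⁻¹ = χ b * (χ k * χ k⁻¹) := by
          rw [mul_comm (χ k) (χ b), mul_assoc]
      _ = χ b := by rw [h3, mul_one]
  have hcy := T_comm hD hyT
  have hcyi : x * y⁻¹ = y⁻¹ * x := (Commute.inv_right hcy : Commute x y⁻¹)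
  have hkbk : x * (k * b * k⁻¹) = k * b * k⁻¹ * x := (Commute.mul_right hkb hki : Commute x (k * b * k⁻¹))
  -- `m = n y n⁻¹ y⁻¹`
  have hmN : k * b * k⁻¹ * y⁻¹ ∈ N := by
    rw [e1]
    have h3 := hC.N_norm y (S_xz hD (hD.T_le hyT)) n⁻¹ (N.inv_mem hn)
    have e3 : n * y * n⁻¹ * y⁻¹ = n * (y * n⁻¹ * y⁻¹) := by group
    rw [e3]
    exact N.mul_mem hn h3
  have hmx : x * (k * b * k⁻¹ * y⁻¹) = k * b * k⁻¹ * y⁻¹ * x :=
    (Commute.mul_right hkbk hcyi : Commute x (k * b * k⁻¹ * y⁻¹))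
  have hfin : Finite N := Nat.finite_of_card_ne_zero (fun h => by
    have := hC.N_odd
    rw [h] at this
    exact absurd this (by decide))
  obtain ⟨i, hi⟩ := hC.N_odd
  have hmk : (k * b * k⁻¹ * y⁻¹) ^ (2 * i + 1) = 1 := by
    rw [← hi]
    have h3 : (⟨_, hmN⟩ : N) ^ Nat.card N = 1 := pow_card_eq_one'
    exact congrArg Subtype.val h3
  have h3 := chi_odd hχ hmx hmk
  have h4 : χ (k * b * k⁻¹) = 1 := by
    have e4 : k * b * k⁻¹ = (k * b * k⁻¹ * y⁻¹) * y := by group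
    rw [e4, hχ _ _ hmx hcy, h3, one_mul]
    exact (hχT y hyT).2 hyT0
  rw [h2] at h4
  exact hb0 ((hχT b hb).1 h4)

end cyclic

end Cfsg.Agent.GH.L2One.CoreLem
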