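import Cfsg.Agent.GH.L2One.Dbl

/-!
# GH-L2, `m_2(Q) = 1`, `|Q| ≥ 4`, CASE I: elementary consequences of `Dbl`
-/

set_option autoImplicit false

open Subgroup

namespace Cfsg.Agent.GH.L2One.DblLem

variable {G : Type*} [Group G] {x z : G} {S T T0 D : Subgroup G} {d : ℕ} {r c s : G}

theorem c_inv (h : Dbl x z S T T0 D d r c s) : c⁻¹ = c := inv_eq_of_mul_eq_one_right h.cc

theorem crk (h : Dbl x z S T T0 D d r c s) (k : ℤ) : c * r ^ k * c⁻¹ = r ^ (-k) := by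
  have h1 : c * r ^ k * c⁻¹ = (c * r * c⁻¹) ^ k := (conj_zpow).symm
  rw [h1, h.crc, inv_zpow, zpow_neg]

theorem c_rk (h : Dbl x z S T T0 D d r c s) (k : ℤ) : c * r ^ k = r ^ (-k) * c := by
  rw [← crk h k, inv_mul_cancel_right]

theorem refl_mul_refl (h : Dbl x z S T T0 D d r c s) (k l : ℤ) :
    r ^ k * c * (r ^ l * c) = r ^ (k - l) := by
  calc r ^ k * c * (r ^ l * c) = r ^ k * (c * r ^ l) * c := by group
    _ = r ^ k * (r ^ (-l) * c) * c := by rw [c_rk h]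
    _ = (r ^ k * r ^ (-l)) * (c * c) := by group
    _ = r ^ (k - l) := by rw [h.cc, ← zpow_add, mul_one, sub_eq_add_neg]

theorem refl_sq (h : Dbl x z S T T0 D d r c s) (k : ℤ) : r ^ k * c * (r ^ k * c) = 1 := by
  rw [refl_mul_refl h, sub_self, zpow_zero]

theorem refl_ne (h : Dbl x z S T T0 D d r c s) (k l : ℤ) : r ^ k * c ≠ r ^ l := by
  intro h1
  apply h.c_not (-k + l)
  rw [zpow_add, ← h1, ← mul_assoc, ← zpow_add, neg_add_cancel, zpow_zero, one_mul]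

theorem rk_one (h : Dbl x z S T T0 D d r c s) (k : ℤ) : r ^ k = 1 ↔ (2 : ℤ) ^ (d - 1) ∣ k := by
  rw [← orderOf_dvd_iff_zpow_eq_one, h.or_eq]
  norm_num

theorem rk_eq (h : Dbl x z S T T0 D d r c s) (k l : ℤ) :
    r ^ k = r ^ l ↔ (2 : ℤ) ^ (d - 1) ∣ k - l := by
  rw [← rk_one h, zpow_sub, mul_inv_eq_one]

theorem four_dvd (h : Dbl x z S T T0 D d r c s) {k : ℤ} (hk : (2 : ℤ) ^ (d - 1) ∣ k) : (4 : ℤ) ∣ k := by
  have h1 : (2 : ℤ) ^ 2 ∣ 2 ^ (d - 1) := pow_dvd_pow 2 (by have := h.d_ge; omega)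
  have h2 := h1.trans hk
  norm_num at h2
  exact h2

/-- twice an odd number is not killed -/
theorem two_odd (h : Dbl x z S T T0 D d r c s) {k : ℤ} (hk : Odd k) : r ^ (2 * k) ≠ 1 := by
  intro h1
  rw [rk_one h] at h1
  obtain ⟨j, hj⟩ := hk
  have := four_dvd h h1
  omega

theorem z_zpow (h : Dbl x z S T T0 D d r c s) : z = r ^ ((2 : ℤ) ^ (d - 2)) := by
  rw [h.z_eq, ← zpow_natCast]
  norm_num

/-- `r ^ k` of order at most two is `1` or `z` -/
theorem rk_two (h : Dbl x z S T T0 D d r c s) {k : ℤ} (hk : (2 : ℤ) ^ (d - 2) ∣ k) :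
    r ^ k = 1 ∨ r ^ k = z := by
  obtain ⟨j, rfl⟩ := hk
  have hd : (2 : ℤ) ^ (d - 1) = 2 ^ (d - 2) * 2 := by
    have := h.d_ge
    rw [← pow_succ]; congr 1; omega
  rcases Int.even_or_odd' j with ⟨i, rfl | rfl⟩
  · left
    rw [rk_one h, hd]
    exact ⟨i, by ring⟩
  · right
    rw [z_zpow h, rk_eq h, hd]
    exact ⟨i, by ring⟩

theorem rk_sq (h : Dbl x z S T T0 D d r c s) {k : ℤ} (hk : r ^ (2 * k) = 1) :
    r ^ k = 1 ∨ r ^ k = z := by
  apply rk_two h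
  rw [rk_one h] at hk
  have hd : (2 : ℤ) ^ (d - 1) = 2 * 2 ^ (d - 2) := by
    have := h.d_ge
    rw [← pow_succ']; congr 1; omega
  rw [hd] at hk
  exact Int.dvd_of_mul_dvd_mul_left (by norm_num) hk

theorem zz (h : Dbl x z S T T0 D d r c s) : z * z = 1 := by
  have hd : (2 : ℤ) ^ (d - 1) = 2 ^ (d - 2) * 2 := by
    have := h.d_ge
    rw [← pow_succ]; congr 1; omega
  rw [z_zpow h, ← zpow_add, rk_one h, hd]
  exact ⟨1, by ring⟩

theorem z_ne (h : Dbl x z S T T0 D d r c s) : z ≠ 1 := by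
  intro h1
  rw [z_zpow h, rk_one h] at h1
  have hd : (2 : ℤ) ^ (d - 1) = 2 ^ (d - 2) * 2 := by
    have := h.d_ge
    rw [← pow_succ]; congr 1; omega
  have h2 := Int.le_of_dvd (by positivity) h1
  have h3 : (0 : ℤ) < 2 ^ (d - 2) := by positivity
  omega

theorem z_D (h : Dbl x z S T T0 D d r c s) : z ∈ D := by
  rw [h.z_eq]; exact D.pow_mem h.r_mem _

theorem z_T (h : Dbl x z S T T0 D d r c s) : z ∈ T := h.D_le (z_D h)

theorem z_S (h : Dbl x z S T T0 D d r c s) : z ∈ S := h.T_le (z_T h)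

theorem x_S (h : Dbl x z S T T0 D d r c s) : x ∈ S := by
  rw [← h.sz]
  exact S.mul_mem (S.mul_mem h.s_mem (z_S h)) (S.inv_mem h.s_mem)

theorem x_T (h : Dbl x z S T T0 D d r c s) : x ∈ T := (h.T_iff x (x_S h)).2 rfl

theorem xx (h : Dbl x z S T T0 D d r c s) : x * x = 1 := by
  rw [← h.sz]
  calc s * z * s⁻¹ * (s * z * s⁻¹) = s * (z * z) * s⁻¹ := by group
    _ = 1 := by rw [zz h]; group

theorem x_ne (h : Dbl x z S T T0 D d r c s) : x ≠ 1 := by
  intro h1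
  apply z_ne h
  have := h.sx
  rw [h1] at this
  rw [← this]; group

theorem xz_comm (h : Dbl x z S T T0 D d r c s) : x * z = z * x := (h.T_iff z (z_S h)).1 (z_T h)

theorem xz_ne (h : Dbl x z S T T0 D d r c s) : x * z ≠ 1 := by
  intro h1
  have h2 : z = x := by
    calc z = x * x * z := by rw [xx h, one_mul]
      _ = x * (x * z) := by group
      _ = x := by rw [h1, mul_one]
  apply z_ne h
  apply h.disj z (z_D h) z (z_D h)
  rw [h.sz, h2]

theorem xz_sq (h : Dbl x z S T T0 D d r c s) : x * z * (x * z) = 1 := by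
  calc x * z * (x * z) = x * (z * x) * z := by group
    _ = x * (x * z) * z := by rw [xz_comm h]
    _ = (x * x) * (z * z) := by group
    _ = 1 := by rw [xx h, zz h, mul_one]

theorem T_comm (h : Dbl x z S T T0 D d r c s) {t : G} (ht : t ∈ T) : x * t = t * x :=
  (h.T_iff t (h.T_le ht)).1 ht

/-- every element of `T` normalizes `⟨r⟩` -/
theorem conj_r (h : Dbl x z S T T0 D d r c s) {t : G} (ht : t ∈ T) :
    ∃ l : ℤ, Odd l ∧ t * r * t⁻¹ = r ^ l := by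
  obtain ⟨l, hl⟩ := h.D_form _ (h.D_norm t ht r h.r_mem)
  have hl' : t * r * t⁻¹ = r ^ l := by
    rcases hl with h1 | h1
    · exact h1
    · exfalso
      have h2 : t * r ^ (2 : ℤ) * t⁻¹ = 1 := by
        have e2 : t * r ^ (2 : ℤ) * t⁻¹ = (t * r * t⁻¹) * (t * r * t⁻¹) := by
          rw [zpow_two]; group
        rw [e2, h1, refl_sq h]
      have h3 : r ^ ((2 : ℤ) * 1) = 1 := by
        have : r ^ ((2 : ℤ) * 1) = t⁻¹ * (t * r ^ (2 : ℤ) * t⁻¹) * t := by group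
        rw [this, h2]; group
      exact two_odd h odd_one h3
  refine ⟨l, ?_, hl'⟩
  by_contra heven
  rw [Int.not_odd_iff_even] at heven
  obtain ⟨j, hj⟩ := heven
  have hd : (2 : ℤ) ^ (d - 1) = 2 ^ (d - 2) * 2 := by
    have := h.d_ge
    rw [← pow_succ]; congr 1; omega
  have h5 : t * z * t⁻¹ = 1 := by
    rw [z_zpow h, ← conj_zpow, hl', ← zpow_mul, rk_one h, hj, hd]
    exact ⟨j, by ring⟩
  apply z_ne h
  have : z = t⁻¹ * (t * z * t⁻¹) * t := by group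
  rw [this, h5]; group

theorem conj_rk {t : G} {l : ℤ} (hl : t * r * t⁻¹ = r ^ l) (m : ℤ) : t * r ^ m * t⁻¹ = r ^ (l * m) := by
  rw [← conj_zpow, hl, zpow_mul]

/-- every element of `T` maps `c` to a reflection -/
theorem conj_c (h : Dbl x z S T T0 D d r c s) {t : G} (ht : t ∈ T) :
    ∃ k : ℤ, t * c * t⁻¹ = r ^ k * c := by
  obtain ⟨l, hodd, hl⟩ := conj_r h ht
  obtain ⟨k, hk | hk⟩ := h.D_form _ (h.D_norm t ht c h.c_mem)
  · exfalso
    have hcop : IsCoprime l ((2 : ℤ) ^ (d - 1)) := by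
      apply IsCoprime.pow_right
      obtain ⟨j, hj⟩ := hodd
      exact ⟨1, -j, by rw [hj]; ring⟩
    obtain ⟨a, b, hab⟩ := hcop
    have h10 : t * r ^ (a * k) * t⁻¹ = r ^ k := by
      rw [conj_rk hl]
      have : l * (a * k) = k + (2 : ℤ) ^ (d - 1) * (-(b * k)) := by
        linear_combination k * hab
      rw [this, zpow_add, (rk_one h _).2 (Dvd.intro _ rfl), mul_one]
    rw [← hk] at h10
    have h11 : r ^ (a * k) = c := by
      have := congrArg (fun g => t⁻¹ * g * t) h10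
      simp only [mul_assoc, inv_mul_cancel_left, inv_mul_cancel, mul_one] at this
      exact this
    exact h.c_not _ h11.symm
  · exact ⟨k, hk⟩

theorem conj_refl (_h : Dbl x z S T T0 D d r c s) {t : G} {l k : ℤ} (hl : t * r * t⁻¹ = r ^ l)
    (hk : t * c * t⁻¹ = r ^ k * c) (m : ℤ) : t * (r ^ m * c) * t⁻¹ = r ^ (l * m + k) * c := by
  calc t * (r ^ m * c) * t⁻¹ = (t * r ^ m * t⁻¹) * (t * c * t⁻¹) := by group
    _ = r ^ (l * m + k) * c := by rw [conj_rk hl, hk, zpow_add, mul_assoc]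

/-- `T` centralizes `z` -/
theorem T_z (h : Dbl x z S T T0 D d r c s) {t : G} (ht : t ∈ T) : t * z = z * t := by
  obtain ⟨l, ⟨j, hj⟩, hl⟩ := conj_r h ht
  have h1 : t * z * t⁻¹ = z := by
    have hd : (2 : ℤ) ^ (d - 1) = 2 ^ (d - 2) * 2 := by
      have := h.d_ge
      rw [← pow_succ]; congr 1; omega
    rw [z_zpow h, ← conj_zpow, hl, ← zpow_mul, rk_eq h, hj, hd]
    exact ⟨j, by ring⟩
  calc t * z = t * z * t⁻¹ * t := by group
    _ = z * t := by rw [h1]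

/-- `x z` is central in `S` -/
theorem S_xz (h : Dbl x z S T T0 D d r c s) {g : G} (hg : g ∈ S) : x * z * g = g * (x * z) := by
  by_cases hT : g ∈ T
  · calc x * z * g = x * (z * g) := by group
      _ = x * (g * z) := by rw [T_z h hT]
      _ = (x * g) * z := by group
      _ = g * (x * z) := by rw [T_comm h hT]; group
  · have h1 := h.S_form g hg hT
    set t := s⁻¹ * g with ht
    have hg' : g = s * t := by rw [ht]; group
    have h2 : x * z * t = t * (x * z) := by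
      calc x * z * t = x * (z * t) := by group
        _ = x * (t * z) := by rw [T_z h h1]
        _ = (x * t) * z := by group
        _ = t * (x * z) := by rw [T_comm h h1]; group
    have h3 : x * z * s = s * (x * z) := by
      have h4 : s * (x * z) * s⁻¹ = x * z := by
        calc s * (x * z) * s⁻¹ = (s * x * s⁻¹) * (s * z * s⁻¹) := by group
          _ = z * x := by rw [h.sx, h.sz]
          _ = x * z := (xz_comm h).symm
      calc x * z * s = s * (x * z) * s⁻¹ * s := by rw [h4]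
        _ = s * (x * z) := by group
    rw [hg']
    calc x * z * (s * t) = (x * z * s) * t := by group
      _ = s * (x * z * t) := by rw [h3]; group
      _ = s * t * (x * z) := by rw [h2]; group

theorem T_norm (h : Dbl x z S T T0 D d r c s) {g t : G} (hg : g ∈ S) (ht : t ∈ T) : g * t * g⁻¹ ∈ T := by
  have hS : g * t * g⁻¹ ∈ S := S.mul_mem (S.mul_mem hg (h.T_le ht)) (S.inv_mem hg)
  rw [h.T_iff _ hS]
  by_cases hT : g ∈ T
  · exact (h.T_iff _ hS).1 (T.mul_mem (T.mul_mem hT ht) (T.inv_mem hT))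
  · have h1 := h.S_form g hg hT
    -- `g z g⁻¹ = x`
    have h2 : g * z * g⁻¹ = x := by
      calc g * z * g⁻¹ = s * ((s⁻¹ * g) * z) * g⁻¹ := by group
        _ = s * (z * (s⁻¹ * g)) * g⁻¹ := by rw [T_z h h1]
        _ = s * z * s⁻¹ := by group
        _ = x := h.sz
    rw [← h2]
    calc g * z * g⁻¹ * (g * t * g⁻¹) = g * (z * t) * g⁻¹ := by group
      _ = g * (t * z) * g⁻¹ := by rw [T_z h ht]
      _ = g * t * g⁻¹ * (g * z * g⁻¹) := by group

theorem T_norm' (h : Dbl x z S T T0 D d r c s) {g t : G} (hg : g ∈ S) (ht : t ∈ T) : g⁻¹ * t * g ∈ T := by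
  have := T_norm h (S.inv_mem hg) ht
  rwa [inv_inv] at this

/-- elements outside `T` swap `x` and `z` -/
theorem swap_z (h : Dbl x z S T T0 D d r c s) {g : G} (hg : g ∈ S) (hT : g ∉ T) : g * z * g⁻¹ = x := by
  have h1 := h.S_form g hg hT
  calc g * z * g⁻¹ = s * ((s⁻¹ * g) * z) * g⁻¹ := by group
    _ = s * (z * (s⁻¹ * g)) * g⁻¹ := by rw [T_z h h1]
    _ = s * z * s⁻¹ := by group
    _ = x := h.sz

theorem swap_x (h : Dbl x z S T T0 D d r c s) {g : G} (hg : g ∈ S) (hT : g ∉ T) : g * x * g⁻¹ = z := by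
  have h1 := h.S_form g hg hT
  calc g * x * g⁻¹ = s * ((s⁻¹ * g) * x) * g⁻¹ := by group
    _ = s * (x * (s⁻¹ * g)) * g⁻¹ := by rw [T_comm h h1]
    _ = s * x * s⁻¹ := by group
    _ = z := h.sx

theorem ss_T (h : Dbl x z S T T0 D d r c s) : s * s ∈ T := by
  rw [h.T_iff _ (S.mul_mem h.s_mem h.s_mem)]
  have h1 : s * s * x * (s * s)⁻¹ = x := by
    calc s * s * x * (s * s)⁻¹ = s * (s * x * s⁻¹) * s⁻¹ := by group
      _ = x := by rw [h.sx, h.sz]
  calc x * (s * s) = s * s * x * (s * s)⁻¹ * (s * s) := by rw [h1]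
    _ = s * s * x := by group

/-- the product of two elements outside `T` is in `T` -/
theorem mul_T (h : Dbl x z S T T0 D d r c s) {g k : G} (hg : g ∈ S) (hk : k ∈ S) (hgT : g ∉ T) (hkT : k ∉ T) :
    g * k ∈ T := by
  have h1 := h.S_form g hg hgT
  have h2 := h.S_form k hk hkT
  have e : g * k = (s * (s⁻¹ * g) * s⁻¹) * (s * s) * (s⁻¹ * k) := by group
  rw [e]
  exact T.mul_mem (T.mul_mem (T_norm h h.s_mem h1) (ss_T h)) h2

theorem relIndex_T (h : Dbl x z S T T0 D d r c s) : T.relIndex S = 2 := by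
  rw [Subgroup.relIndex, Subgroup.index_eq_two_iff]
  refine ⟨⟨s, h.s_mem⟩, fun b => ?_⟩
  have e1 : (b * ⟨s, h.s_mem⟩ ∈ T.subgroupOf S) ↔ ((b : G) * s ∈ T) := Iff.rfl
  have e2 : (b ∈ T.subgroupOf S) ↔ ((b : G) ∈ T) := Iff.rfl
  rw [e1, e2]
  by_cases hb : (b : G) ∈ T
  · right
    refine ⟨hb, fun h1 => h.s_not ?_⟩
    have := T.mul_mem (T.inv_mem hb) h1
    rwa [inv_mul_cancel_left] at this
  · left
    exact ⟨mul_T h b.2 h.s_mem hb h.s_not, hb⟩

/-! ### `T0` -/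

theorem D_T0 (h : Dbl x z S T T0 D d r c s) {e : G} (he : e ∈ D) : e ∈ T0 :=
  (h.mem_T0 e).2 ⟨e, he, 1, D.one_mem, by group⟩

theorem sD_T (h : Dbl x z S T T0 D d r c s) {e : G} (he : e ∈ D) : s * e * s⁻¹ ∈ T :=
  T_norm h h.s_mem (h.D_le he)

theorem sD_T0 (h : Dbl x z S T T0 D d r c s) {e : G} (he : e ∈ D) : s * e * s⁻¹ ∈ T0 :=
  (h.mem_T0 _).2 ⟨1, D.one_mem, e, he, by group⟩

theorem T0_le (h : Dbl x z S T T0 D d r c s) : T0 ≤ T := by
  intro g hg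
  obtain ⟨e, he, f, hf, rfl⟩ := (h.mem_T0 g).1 hg
  exact T.mul_mem (h.D_le he) (sD_T h hf)

theorem x_T0 (h : Dbl x z S T T0 D d r c s) : x ∈ T0 := by
  rw [← h.sz]; exact sD_T0 h (z_D h)

theorem z_T0 (h : Dbl x z S T T0 D d r c s) : z ∈ T0 := D_T0 h (z_D h)

/-- uniqueness of the decomposition -/
theorem unique (h : Dbl x z S T T0 D d r c s) {e f e' f' : G} (he : e ∈ D) (hf : f ∈ D) (he' : e' ∈ D)
    (hf' : f' ∈ D) (heq : e * (s * f * s⁻¹) = e' * (s * f' * s⁻¹)) : e = e' ∧ f = f' := by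
  have h1 : e'⁻¹ * e = s * (f' * f⁻¹) * s⁻¹ := by
    calc e'⁻¹ * e = e'⁻¹ * (e * (s * f * s⁻¹)) * (s * f * s⁻¹)⁻¹ := by group
      _ = s * (f' * f⁻¹) * s⁻¹ := by rw [heq]; group
  have h2 := h.disj _ (D.mul_mem (D.inv_mem he') he) _ (D.mul_mem hf' (D.inv_mem hf)) h1
  refine ⟨(inv_mul_eq_one.1 h2).symm, ?_⟩
  rw [h2] at h1
  have h3 : f' * f⁻¹ = 1 := by
    calc f' * f⁻¹ = s⁻¹ * (s * (f' * f⁻¹) * s⁻¹) * s := by group
      _ = 1 := by rw [← h1]; group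
  exact (mul_inv_eq_one.1 h3).symm

/-- conjugation by `t ∈ T` on the second factor -/
theorem conj_sD (h : Dbl x z S T T0 D d r c s) {t f : G} (ht : t ∈ T) (hf : f ∈ D) :
    ∃ f' ∈ D, t * (s * f * s⁻¹) * t⁻¹ = s * f' * s⁻¹ :=
  ⟨(s⁻¹ * t * s) * f * (s⁻¹ * t * s)⁻¹, h.D_norm _ (T_norm' h h.s_mem ht) f hf, by group⟩

theorem T0_norm (h : Dbl x z S T T0 D d r c s) {g y : G} (hg : g ∈ S) (hy : y ∈ T0) : g * y * g⁻¹ ∈ T0 := by
  -- for `t ∈ T`
  have hTn : ∀ t ∈ T, ∀ y ∈ T0, t * y * t⁻¹ ∈ T0 := by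
    intro t ht y hy
    obtain ⟨e, he, f, hf, rfl⟩ := (h.mem_T0 y).1 hy
    obtain ⟨f', hf', h1⟩ := conj_sD h ht hf
    have e1 : t * (e * (s * f * s⁻¹)) * t⁻¹ = (t * e * t⁻¹) * (t * (s * f * s⁻¹) * t⁻¹) := by group
    rw [e1, h1]
    exact (h.mem_T0 _).2 ⟨_, h.D_norm t ht e he, f', hf', rfl⟩
  -- for `s`
  have hsn : ∀ y ∈ T0, s * y * s⁻¹ ∈ T0 := by
    intro y hy
    obtain ⟨e, he, f, hf, rfl⟩ := (h.mem_T0 y).1 hy
    have h1 := h.D_norm _ (ss_T h) f hf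
    have e1 : s * (e * (s * f * s⁻¹)) * s⁻¹ = (s * e * s⁻¹) * (s * s * f * (s * s)⁻¹) := by group
    rw [e1, ← h.comm _ h1 e he]
    exact (h.mem_T0 _).2 ⟨_, h1, e, he, rfl⟩
  by_cases hT : g ∈ T
  · exact hTn g hT y hy
  · have h1 := h.S_form g hg hT
    have e1 : g * y * g⁻¹ = s * ((s⁻¹ * g) * y * (s⁻¹ * g)⁻¹) * s⁻¹ := by group
    rw [e1]
    exact hsn _ (hTn _ h1 y hy)

theorem T0_norm' (h : Dbl x z S T T0 D d r c s) {g y : G} (hg : g ∈ S) (hy : y ∈ T0) : g⁻¹ * y * g ∈ T0 := by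
  have := T0_norm h (S.inv_mem hg) hy
  rwa [inv_inv] at this

/-- the product of two elements of `T` outside `T0` is in `T0` -/
theorem mul_T0_iff (h : Dbl x z S T T0 D d r c s) {t u : G} (ht : t ∈ T) (hu : u ∈ T) :
    t * u ∈ T0 ↔ (t ∈ T0 ↔ u ∈ T0) := by
  obtain ⟨l, hlo, hl⟩ := conj_r h ht
  obtain ⟨k, hk⟩ := conj_c h ht
  obtain ⟨k', hk'⟩ := conj_c h hu
  have h1 : t * u * c * (t * u)⁻¹ = r ^ (l * k' + k) * c := by
    calc t * u * c * (t * u)⁻¹ = t * (u * c * u⁻¹) * t⁻¹ := by group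
      _ = r ^ (l * k' + k) * c := by rw [hk', conj_refl h hl hk]
  rw [h.swap _ (T.mul_mem ht hu) _ h1, h.swap _ ht _ hk, h.swap _ hu _ hk']
  obtain ⟨j, rfl⟩ := hlo
  rw [Int.even_add, Int.even_mul]
  have : ¬ Even (2 * j + 1) := by rw [Int.not_even_iff_odd]; exact ⟨j, rfl⟩
  tauto

theorem sq_T0 (h : Dbl x z S T T0 D d r c s) {t : G} (ht : t ∈ T) : t * t ∈ T0 :=
  (mul_T0_iff h ht ht).2 Iff.rfl

/-- commutators of elements of `T` are in `T0` -/
theorem comm_T0 (h : Dbl x z S T T0 D d r c s) {t u : G} (ht : t ∈ T) (hu : u ∈ T) :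
    t * u * t⁻¹ * u⁻¹ ∈ T0 := by
  have h1 := T.inv_mem ht
  have h2 := T.inv_mem hu
  rw [mul_T0_iff h (T.mul_mem (T.mul_mem ht hu) h1) h2, mul_T0_iff h (T.mul_mem ht hu) h1,
    mul_T0_iff h ht hu, T0.inv_mem_iff, T0.inv_mem_iff]
  tauto

/-- involutions of `⟨r⟩`: an element of `D` with square one which centralizes `r` -/
theorem inv_cent_r (h : Dbl x z S T T0 D d r c s) {e : G} (he : e ∈ D) (hee : e * e = 1)
    (her : e * r = r * e) : e = 1 ∨ e = z := by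
  obtain ⟨k, rfl | rfl⟩ := h.D_form e he
  · apply rk_sq h
    rw [two_mul, zpow_add]; exact hee
  · exfalso
    have h1 : r ^ k * c * r = r * (r ^ k * c) := her
    have h2 : r ^ k * c * r = r ^ (k - 1) * c := by
      calc r ^ k * c * r = r ^ k * (c * r ^ (1 : ℤ)) := by group
        _ = r ^ (k - 1) * c := by rw [c_rk h, ← mul_assoc, ← zpow_add, sub_eq_add_neg]
    have h3 : r * (r ^ k * c) = r ^ (k + 1) * c := by
      rw [zpow_add, zpow_one, ← mul_assoc]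
      congr 1
      rw [← zpow_one_add, ← zpow_add_one, add_comm]
    rw [h2, h3] at h1
    have h4 := mul_right_cancel h1
    rw [rk_eq h] at h4
    have h5 := four_dvd h h4
    omega

/-- an involution of `D` is `z` or a reflection -/
theorem D_inv (h : Dbl x z S T T0 D d r c s) {e : G} (he : e ∈ D) (hee : e * e = 1) :
    e = 1 ∨ e = z ∨ ∃ k : ℤ, e = r ^ k * c := by
  obtain ⟨k, rfl | rfl⟩ := h.D_form e he
  · have h1 : r ^ (2 * k) = 1 := by rw [two_mul, zpow_add]; exact hee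
    rcases rk_sq h h1 with h2 | h2
    · exact Or.inl h2
    · exact Or.inr (Or.inl h2)
  · exact Or.inr (Or.inr ⟨k, rfl⟩)

theorem D_sq (h : Dbl x z S T T0 D d r c s) {e : G} (he : e ∈ D) (hee : e * e * (e * e) = 1) :
    e * e = 1 ∨ e * e = z := by
  obtain ⟨k, rfl | rfl⟩ := h.D_form e he
  · rw [← zpow_add, ← two_mul] at hee ⊢
    apply rk_sq h
    rw [two_mul, zpow_add]; exact hee
  · left; exact refl_sq h k

theorem sq_split (h : Dbl x z S T T0 D d r c s) {e f : G} (he : e ∈ D) (hf : f ∈ D) :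
    e * (s * f * s⁻¹) * (e * (s * f * s⁻¹)) = (e * e) * (s * (f * f) * s⁻¹) := by
  calc e * (s * f * s⁻¹) * (e * (s * f * s⁻¹)) = e * ((s * f * s⁻¹) * e) * (s * f * s⁻¹) := by group
    _ = e * (e * (s * f * s⁻¹)) * (s * f * s⁻¹) := by rw [h.comm e he f hf]
    _ = _ := by group

theorem split_one (h : Dbl x z S T T0 D d r c s) {e f : G} (he : e ∈ D) (hf : f ∈ D)
    (h1 : e * (s * f * s⁻¹) = 1) : e = 1 ∧ f = 1 := by
  apply unique h he hf D.one_mem D.one_mem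
  rw [h1]; group

/-- squares of `T0` of order two -/
theorem T0_sq (h : Dbl x z S T T0 D d r c s) {y : G} (hy : y ∈ T0) (hyy : y * y * (y * y) = 1) :
    y * y = 1 ∨ y * y = x ∨ y * y = z ∨ y * y = x * z := by
  obtain ⟨e, he, f, hf, rfl⟩ := (h.mem_T0 y).1 hy
  rw [sq_split h he hf] at hyy ⊢
  rw [sq_split h (D.mul_mem he he) (D.mul_mem hf hf)] at hyy
  obtain ⟨h1, h2⟩ := split_one h (D.mul_mem (D.mul_mem he he) (D.mul_mem he he))
    (D.mul_mem (D.mul_mem hf hf) (D.mul_mem hf hf)) hyy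
  rcases D_sq h he h1 with h3 | h3 <;> rcases D_sq h hf h2 with h4 | h4 <;> rw [h3, h4]
  · left; group
  · right; left; rw [h.sz, one_mul]
  · right; right; left; group
  · right; right; right; rw [h.sz, xz_comm h]

/-- commutators of `T` of order two -/
theorem comm_inv (h : Dbl x z S T T0 D d r c s) {t u : G} (ht : t ∈ T) (hu : u ∈ T)
    (h2 : t * u * t⁻¹ * u⁻¹ * (t * u * t⁻¹ * u⁻¹) = 1) :
    t * u * t⁻¹ * u⁻¹ = 1 ∨ t * u * t⁻¹ * u⁻¹ = x ∨ t * u * t⁻¹ * u⁻¹ = z ∨ t * u * t⁻¹ * u⁻¹ = x * z := by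
  -- commutators centralize `r`
  have hcr : ∀ t u : G, t ∈ T → u ∈ T → t * u * t⁻¹ * u⁻¹ * r = r * (t * u * t⁻¹ * u⁻¹) := by
    intro t u ht hu
    obtain ⟨l, -, hl⟩ := conj_r h (T.inv_mem ht)
    obtain ⟨m, -, hm⟩ := conj_r h (T.inv_mem hu)
    -- `(u t)⁻¹ r (u t) = r^{ml} = (t u)⁻¹ r (t u)`
    have e1 : t⁻¹ * (u⁻¹ * r * u⁻¹⁻¹) * t⁻¹⁻¹ = u⁻¹ * (t⁻¹ * r * t⁻¹⁻¹) * u⁻¹⁻¹ := by
      rw [hm, hl, conj_rk hl, conj_rk hm, mul_comm]
    calc t * u * t⁻¹ * u⁻¹ * r = t * u * (t⁻¹ * (u⁻¹ * r * u⁻¹⁻¹) * t⁻¹⁻¹) * t⁻¹ * u⁻¹ := by group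
      _ = t * u * (u⁻¹ * (t⁻¹ * r * t⁻¹⁻¹) * u⁻¹⁻¹) * t⁻¹ * u⁻¹ := by rw [e1]
      _ = r * (t * u * t⁻¹ * u⁻¹) := by group
  obtain ⟨e, he, f, hf, hw⟩ := (h.mem_T0 _).1 (comm_T0 h ht hu)
  have h3 := hcr t u ht hu
  have h4 := hcr (s⁻¹ * t * s) (s⁻¹ * u * s) (T_norm' h h.s_mem ht) (T_norm' h h.s_mem hu)
  have e4 : s⁻¹ * t * s * (s⁻¹ * u * s) * (s⁻¹ * t * s)⁻¹ * (s⁻¹ * u * s)⁻¹ =
      s⁻¹ * (t * u * t⁻¹ * u⁻¹) * s := by group
  rw [e4] at h4
  rw [hw] at h2 h3 h4 ⊢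
  rw [sq_split h he hf] at h2
  obtain ⟨hee, hff⟩ := split_one h (D.mul_mem he he) (D.mul_mem hf hf) h2
  -- `e` commutes with `r`
  have h5 : e * r = r * e := by
    have h6 : e * r * (s * f * s⁻¹) = r * e * (s * f * s⁻¹) := by
      calc e * r * (s * f * s⁻¹) = e * (r * (s * f * s⁻¹)) := by group
        _ = e * ((s * f * s⁻¹) * r) := by rw [h.comm r h.r_mem f hf]
        _ = e * (s * f * s⁻¹) * r := by group
        _ = r * e * (s * f * s⁻¹) := by rw [h3]; group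
    exact mul_right_cancel h6
  have h7 : f * r = r * f := by
    have h8 : s * r * s⁻¹ * (e * (s * f * s⁻¹)) = e * (s * f * s⁻¹) * (s * r * s⁻¹) := by
      have e8 : s * (s⁻¹ * (e * (s * f * s⁻¹)) * s * r) * s⁻¹ =
          s * (r * (s⁻¹ * (e * (s * f * s⁻¹)) * s)) * s⁻¹ := by rw [h4]
      calc s * r * s⁻¹ * (e * (s * f * s⁻¹)) = s * (r * (s⁻¹ * (e * (s * f * s⁻¹)) * s)) * s⁻¹ := by group
        _ = s * (s⁻¹ * (e * (s * f * s⁻¹)) * s * r) * s⁻¹ := e8.symm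
        _ = _ := by group
    have h9 : e * (s * (r * f) * s⁻¹) = e * (s * (f * r) * s⁻¹) := by
      calc e * (s * (r * f) * s⁻¹) = (e * (s * r * s⁻¹)) * (s * f * s⁻¹) := by group
        _ = ((s * r * s⁻¹) * e) * (s * f * s⁻¹) := by rw [h.comm e he r h.r_mem]
        _ = s * r * s⁻¹ * (e * (s * f * s⁻¹)) := by group
        _ = e * (s * (f * r) * s⁻¹) := by rw [h8]; group
    exact (unique h he (D.mul_mem h.r_mem hf) he (D.mul_mem hf h.r_mem) h9).2.symm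
  rcases inv_cent_r h he hee h5 with h10 | h10 <;> rcases inv_cent_r h hf hff h7 with h11 | h11 <;>
    rw [h10, h11]
  · left; group
  · right; left; rw [h.sz, one_mul]
  · right; right; left; group
  · right; right; right; rw [h.sz, xz_comm h]

end Cfsg.Agent.GH.L2One.DblLem
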