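import Cfsg.Agent.GH.L2AutFour
import Cfsg.Agent.LFourA.FieldCent

/-!
# The diagonal character of `Aut(PSL(2,F))`

* `dg R : MulAut L →* ℤˣ`, the quadratic character of the determinant of the linear part;
* `dg` is trivial on inner and on field automorphisms, `mem_inn_iff`;
* `dg_of_fix`: an automorphism fixing two commuting involutions has `dg = 1`;
* `exists_dg_neg`: there is an automorphism with `dg = -1`.
-/

set_option autoImplicit false
set_option linter.style.haveILetI false

namespace Cfsg.Agent.GH.L2One.Diag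

open Matrix Cfsg.Agent.Lib.SL2Mat Cfsg.Agent.Lib.AutSL2 Cfsg.Agent.Lib.AutSL2Out
open Cfsg.Agent.GH.L2Aut

variable {F : Type*} [Field F] [Finite F]

/-- the quadratic character on units -/
noncomputable def chi (F : Type*) [Field F] [Finite F] : Fˣ →* ℤˣ := by
  classical
  exact letI := Fintype.ofFinite F; (quadraticChar F).toUnitHom

theorem chi_eq_one_iff (u : Fˣ) : chi F u = 1 ↔ IsSquare (u : F) := by
  classical
  letI := Fintype.ofFinite F
  rw [← quadraticChar_one_iff_isSquare u.ne_zero, ← Units.val_inj]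
  exact Iff.rfl

/-- the quadratic character of the determinant -/
noncomputable def dgl (F : Type*) [Field F] [Finite F] : GL (Fin 2) F →* ℤˣ :=
  (chi F).comp Matrix.GeneralLinearGroup.det

theorem dgl_eq_one_iff (g : GL (Fin 2) F) : dgl F g = 1 ↔ IsSquare g.1.det := by
  rw [dgl, MonoidHom.comp_apply, chi_eq_one_iff]
  rfl

theorem dgl_map (σ : F ≃+* F) (g : GL (Fin 2) F) :
    dgl F (Matrix.GeneralLinearGroup.map σ.toRingHom g) = dgl F g := by
  have h1 : dgl F (g * Matrix.GeneralLinearGroup.map σ.toRingHom g) = 1 := by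
    rw [dgl_eq_one_iff, Units.val_mul, Matrix.det_mul]
    have h2 : (Matrix.GeneralLinearGroup.map σ.toRingHom g).1.det = σ g.1.det := by
      have := RingHom.map_det σ.toRingHom g.1
      rw [RingHom.mapMatrix_apply] at this
      exact this.symm
    rw [h2]
    exact isSquare_mul_map σ _
  rw [map_mul] at h1
  have h3 := eq_inv_of_mul_eq_one_right h1
  rw [h3, Int.units_inv_eq_self]

theorem int_units_sq (u : ℤˣ) : u * u = 1 := by
  rcases Int.units_eq_one_or u with rfl | rfl <;> rfl

variable {L : Type*} [Group L] (R : L2Aut.Rep F L)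

local notation "SL2" => Matrix.SpecialLinearGroup (Fin 2) F

theorem dgl_eq_of_gl_eq {g h : GL (Fin 2) F} (hgh : R.gl g = R.gl h) : dgl F g = dgl F h := by
  have h1 : R.gl (h⁻¹ * g) = 1 := by rw [map_mul, map_inv, hgh, inv_mul_cancel]
  obtain ⟨c, hc⟩ := R.gl_eq_one_iff.1 h1
  have h2 : dgl F (h⁻¹ * g) = 1 := by
    rw [dgl_eq_one_iff, hc, Matrix.det_smul, Matrix.det_one, mul_one, Fintype.card_fin]
    exact IsSquare.sq c
  rw [map_mul, map_inv, inv_mul_eq_one] at h2
  exact h2.symm

/-- the diagonal character -/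
noncomputable def dg : MulAut L →* ℤˣ :=
  MonoidHom.mk' (fun α => dgl F (R.exists_eq α).choose) (by
    intro α β
    have h1 := (R.exists_eq α).choose_spec
    have h2 := (R.exists_eq β).choose_spec
    have h3 := (R.exists_eq (α * β)).choose_spec
    generalize (R.exists_eq α).choose = g at h1 ⊢
    generalize (R.exists_eq β).choose = h at h2 ⊢
    generalize (R.exists_eq (α * β)).choose = k at h3 ⊢
    rw [← dgl_map (R.fld α) h, ← map_mul]
    apply dgl_eq_of_gl_eq R
    have h4 : R.gl k * R.fa (R.fld (α * β)) =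
        R.gl (g * Matrix.GeneralLinearGroup.map (R.fld α).toRingHom h) * R.fa (R.fld (α * β)) := by
      rw [← h3, map_mul R.gl, map_mul R.fld, map_mul R.fa]
      calc α * β = (R.gl g * R.fa (R.fld α)) * (R.gl h * R.fa (R.fld β)) := by
            rw [← h1, ← h2]
        _ = R.gl g * (R.fa (R.fld α) * R.gl h) * R.fa (R.fld β) := by simp only [mul_assoc]
        _ = _ := by rw [R.fa_mul_gl]; simp only [mul_assoc]
    exact mul_right_cancel h4)

theorem dg_mul_fa (g : GL (Fin 2) F) (σ : F ≃+* F) : dg R (R.gl g * R.fa σ) = dgl F g := by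
  have h1 := (R.exists_eq (R.gl g * R.fa σ)).choose_spec
  have h2 : R.fld (R.gl g * R.fa σ) = σ := by rw [map_mul, R.fld_gl, R.fld_fa, one_mul]
  apply dgl_eq_of_gl_eq R
  generalize (R.exists_eq (R.gl g * R.fa σ)).choose = k at h1 ⊢
  rw [h2] at h1
  exact (mul_right_cancel h1).symm

theorem dg_gl (g : GL (Fin 2) F) : dg R (R.gl g) = dgl F g := by
  have := dg_mul_fa R g 1
  rwa [map_one, mul_one] at this

theorem dg_fa (σ : F ≃+* F) : dg R (R.fa σ) = 1 := by
  have := dg_mul_fa R 1 σ
  rwa [map_one, one_mul, map_one] at this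

theorem dg_conj (y : L) : dg R (MulAut.conj y) = 1 := by
  obtain ⟨s, rfl⟩ := R.surj y
  rw [R.conj_π, dg_gl R, dgl_eq_one_iff]
  have : (Matrix.SpecialLinearGroup.toGL s).1.det = 1 := s.2
  rw [this]
  exact IsSquare.one

theorem mem_inn_iff {α : MulAut L} :
    α ∈ (MulAut.conj : L →* MulAut L).range ↔ R.fld α = 1 ∧ dg R α = 1 := by
  constructor
  · rintro ⟨y, rfl⟩
    exact ⟨R.mem_PGL_iff_fld.1 (R.conj_mem_PGL y), dg_conj R y⟩
  · rintro ⟨h1, h2⟩
    obtain ⟨g, rfl⟩ := R.mem_PGL.1 (R.mem_PGL_iff_fld.2 h1)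
    rw [R.gl_mem_inn, ← dgl_eq_one_iff, ← dg_gl R, h2]

theorem dg_conj_mul (β α : MulAut L) : dg R (β * α * β⁻¹) = dg R α := by
  rw [map_mul, map_mul, map_inv, mul_comm (dg R β), mul_inv_cancel_right]

/-- An automorphism fixing two distinct commuting involutions has trivial diagonal character. -/
theorem dg_of_fix {a b : L} (h : Four a b) {α : MulAut L} (ha : α a = a) (hb : α b = b) :
    dg R α = 1 := by
  obtain ⟨Φ, y, δ, -, -, -, -, -, -, -, -, -, -, -, -, -, h1, g, hg⟩ := R.exists_frame h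
  obtain ⟨u, -, hu⟩ := h1 α ha hb
  rw [hu, map_mul, dg_conj R, one_mul, hg, dg_conj_mul R, dg_fa R]

include R in
theorem exists_nonsquare : ∃ c : F, c ≠ 0 ∧ ¬ IsSquare c := by
  letI := Fintype.ofFinite F
  have h2 : ringChar F ≠ 2 := by
    intro h
    have : CharP F 2 := by rw [← h]; infer_instance
    exact R.two (CharP.cast_eq_zero F 2)
  obtain ⟨c, hc⟩ := FiniteField.exists_nonsquare h2
  exact ⟨c, fun h0 => hc (h0 ▸ IsSquare.zero), hc⟩

theorem exists_dg_neg : ∃ γ : MulAut L, R.fld γ = 1 ∧ dg R γ = -1 := by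
  obtain ⟨c, hc0, hc⟩ := exists_nonsquare R
  have hd : (!![c, 0; 0, 1] : Matrix (Fin 2) (Fin 2) F).det = c := by
    rw [Matrix.det_fin_two_of]; ring
  refine ⟨R.gl (toGL' !![c, 0; 0, 1] (by rw [hd]; exact hc0)), R.fld_gl _, ?_⟩
  rw [dg_gl R]
  rcases Int.units_eq_one_or (dgl F (toGL' !![c, 0; 0, 1] (by rw [hd]; exact hc0))) with h | h
  · rw [dgl_eq_one_iff, toGL'_val, hd] at h
    exact absurd h hc
  · exact h

end Cfsg.Agent.GH.L2One.Diag
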