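import Mathlib

/-!
# GH-L2, `m_2(Q) = 1`, `|Q| ≥ 4`: the frame

`Frame x K T D Q d r c o1 o2`: `x` an involution, `K` a normal subgroup of `C(x)` with `K/O(K) = L₂(q)` or `A₇`,
`T` a Sylow 2-subgroup of `C(x)`, `D = T ∩ K = ⟨r, c⟩` dihedral of order `2^d` (a four-group if `d = 2`),
`Q = C_T(K/O(K))` with the only involution `x`, `|Q| ≥ 4`, `o1`, `o2` the `PGL`- and the field part of the outer
automorphism of `K/O(K)` induced by an element of `C(x)`.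
-/

set_option autoImplicit false

open Subgroup

namespace Cfsg.Agent.GH.L2One

variable {G A : Type*} [Group G] [Group A]

/-- The frame. -/
structure Frame (x : G) (K T D Q : Subgroup G) (d : ℕ) (r c : G) (o1 : G → ℤˣ) (o2 : G → A) :
    Prop where
  xx : x * x = 1
  x_ne : x ≠ 1
  K_comm : ∀ k ∈ K, x * k = k * x
  K_norm : ∀ g, x * g = g * x → ∀ k ∈ K, g * k * g⁻¹ ∈ K
  T_comm : ∀ t ∈ T, x * t = t * x
  T_two : IsPGroup 2 T
  /-- `T` is a Sylow 2-subgroup of `C(x)` -/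
  T_syl : ∀ P : Subgroup G, IsPGroup 2 P → (∀ p ∈ P, x * p = p * x) →
    ∃ g, x * g = g * x ∧ ∀ p ∈ P, g * p * g⁻¹ ∈ T
  mem_D : ∀ g, g ∈ D ↔ g ∈ T ∧ g ∈ K
  Q_le : Q ≤ T
  Q_norm : ∀ t ∈ T, ∀ q ∈ Q, t * q * t⁻¹ ∈ Q
  x_mem : x ∈ Q
  Q_inv : ∀ q ∈ Q, q * q = 1 → q = 1 ∨ q = x
  Q_four : ∃ q ∈ Q, q * q = x
  QD : ∀ g ∈ D, g ∈ Q → g = 1
  d_ge : 2 ≤ d
  r_mem : r ∈ D
  c_mem : c ∈ D
  cc : c * c = 1
  crc : c * r * c⁻¹ = r⁻¹
  or_eq : orderOf r = 2 ^ (d - 1)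
  c_not : ∀ k : ℤ, c ≠ r ^ k
  D_form : ∀ g ∈ D, ∃ k : ℤ, g = r ^ k ∨ g = r ^ k * c
  /-- all involutions of `D` are `K`-conjugate -/
  inv_conj : ∀ a ∈ D, ∀ b ∈ D, a * a = 1 → a ≠ 1 → b * b = 1 → b ≠ 1 → ∃ k ∈ K, k * a * k⁻¹ = b
  o1_mul : ∀ g h, x * g = g * x → x * h = h * x → o1 (g * h) = o1 g * o1 h
  o2_mul : ∀ g h, x * g = g * x → x * h = h * x → o2 (g * h) = o2 g * o2 h
  /-- at most one involution in the image of `o2` -/
  A_inv : ∀ a b : A, a * a = 1 → a ≠ 1 → b * b = 1 → b ≠ 1 → a = b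
  o1_Q : ∀ q ∈ Q, o1 q = 1
  o2_Q : ∀ q ∈ Q, o2 q = 1
  o1_K : ∀ k ∈ K, o1 k = 1
  o2_K : ∀ k ∈ K, o2 k = 1
  ker : ∀ t ∈ T, o1 t = 1 → o2 t = 1 → ∃ q ∈ Q, ∃ e ∈ D, t = q * e
  /-- `o1 t ≠ 1` iff `t` swaps the two classes of reflections of `D` -/
  swap : 3 ≤ d → ∀ t ∈ T, ∀ k : ℤ, t * c * t⁻¹ = r ^ k * c → (o1 t = 1 ↔ Even k)
  small : d = 2 → ∀ t ∈ T, o2 t = 1 ∧ (o1 t = 1 ↔ ∀ e ∈ D, t * e = e * t)
  /-- no field automorphism of order 4 centralises `D` -/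
  sq_mem : ∀ g ∈ T, (∀ e ∈ D, g * e = e * g) → g * g ∈ Q
  no_mixed : ∀ y ∈ T, y * y = 1 → o1 y = 1 ∨ o2 y = 1
  /-- a field involution centralises a Sylow 2-subgroup of `K` -/
  field_cent : ∀ y ∈ T, y * y = 1 → o2 y ≠ 1 → ∃ k ∈ K, ∀ e ∈ D, k * y * k⁻¹ * e = e * (k * y * k⁻¹)
  /-- if the field involution `y` centralises `D`, then `e y ~ y` for some involution `e` of `D` -/
  field_conj : ∀ y ∈ T, y * y = 1 → o2 y ≠ 1 → (∀ e ∈ D, y * e = e * y) →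
    ∃ e ∈ D, e ≠ 1 ∧ e * e = 1 ∧ ∃ k ∈ K, k * y * k⁻¹ = e * y
  field_o1 : ∀ y ∈ T, y * y = 1 → o2 y ≠ 1 → ∀ g ∈ T, g * y * g⁻¹ * y⁻¹ ∈ Q → o1 g = 1

namespace Frame

variable {x : G} {K T D Q : Subgroup G} {d : ℕ} {r c : G} {o1 : G → ℤˣ} {o2 : G → A}

theorem D_le (F : Frame x K T D Q d r c o1 o2) : D ≤ T := fun g hg => ((F.mem_D g).1 hg).1

theorem D_le_K (F : Frame x K T D Q d r c o1 o2) : D ≤ K := fun g hg => ((F.mem_D g).1 hg).2

theorem x_T (F : Frame x K T D Q d r c o1 o2) : x ∈ T := F.Q_le F.x_mem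

theorem r_T (F : Frame x K T D Q d r c o1 o2) : r ∈ T := F.D_le F.r_mem

theorem c_T (F : Frame x K T D Q d r c o1 o2) : c ∈ T := F.D_le F.c_mem

theorem x_inv (F : Frame x K T D Q d r c o1 o2) : x⁻¹ = x := inv_eq_of_mul_eq_one_right F.xx

theorem c_inv (F : Frame x K T D Q d r c o1 o2) : c⁻¹ = c := inv_eq_of_mul_eq_one_right F.cc

theorem D_norm (F : Frame x K T D Q d r c o1 o2) {t e : G} (ht : t ∈ T) (he : e ∈ D) :
    t * e * t⁻¹ ∈ D :=
  (F.mem_D _).2 ⟨T.mul_mem (T.mul_mem ht (F.D_le he)) (T.inv_mem ht),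
    F.K_norm t (F.T_comm t ht) e (F.D_le_K he)⟩

/-- an element of `D` moved by `t ∈ T` inside its `Q`-coset is fixed -/
theorem comm_of_mem (F : Frame x K T D Q d r c o1 o2) {t e : G} (ht : t ∈ T) (he : e ∈ D)
    (h : t * e * t⁻¹ * e⁻¹ ∈ Q) : t * e = e * t := by
  have h1 := F.QD _ (D.mul_mem (F.D_norm ht he) (D.inv_mem he)) h
  calc t * e = t * e * t⁻¹ * e⁻¹ * (e * t) := by group
    _ = e * t := by rw [h1, one_mul]

theorem QD_comm (F : Frame x K T D Q d r c o1 o2) {q e : G} (hq : q ∈ Q) (he : e ∈ D) :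
    q * e = e * q := by
  refine F.comm_of_mem (F.Q_le hq) he ?_
  have h1 := Q.mul_mem hq (F.Q_norm e (F.D_le he) q⁻¹ (Q.inv_mem hq))
  have e1 : q * (e * q⁻¹ * e⁻¹) = q * e * q⁻¹ * e⁻¹ := by group
  rwa [e1] at h1

/-- uniqueness of the decomposition `q e` -/
theorem QD_unique (F : Frame x K T D Q d r c o1 o2) {q q' e e' : G} (hq : q ∈ Q) (hq' : q' ∈ Q)
    (he : e ∈ D) (he' : e' ∈ D) (h : q * e = q' * e') : q = q' ∧ e = e' := by
  have h1 : q'⁻¹ * q = e' * e⁻¹ := by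
    calc q'⁻¹ * q = q'⁻¹ * (q * e) * e⁻¹ := by group
      _ = e' * e⁻¹ := by rw [h]; group
  have h2 := F.QD _ (D.mul_mem he' (D.inv_mem he)) (h1 ▸ Q.mul_mem (Q.inv_mem hq') hq)
  refine ⟨?_, (mul_inv_eq_one.1 h2).symm⟩
  rw [← h1] at h2
  exact (inv_mul_eq_one.1 h2).symm

theorem o1_one (F : Frame x K T D Q d r c o1 o2) : o1 1 = 1 := F.o1_Q 1 Q.one_mem

theorem o2_one (F : Frame x K T D Q d r c o1 o2) : o2 1 = 1 := F.o2_Q 1 Q.one_mem

theorem o1_D (F : Frame x K T D Q d r c o1 o2) {e : G} (he : e ∈ D) : o1 e = 1 :=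
  F.o1_K e (F.D_le_K he)

theorem o2_D (F : Frame x K T D Q d r c o1 o2) {e : G} (he : e ∈ D) : o2 e = 1 :=
  F.o2_K e (F.D_le_K he)

theorem o1_mul' (F : Frame x K T D Q d r c o1 o2) {a b : G} (ha : a ∈ T) (hb : b ∈ T) :
    o1 (a * b) = o1 a * o1 b := F.o1_mul a b (F.T_comm a ha) (F.T_comm b hb)

theorem o2_mul' (F : Frame x K T D Q d r c o1 o2) {a b : G} (ha : a ∈ T) (hb : b ∈ T) :
    o2 (a * b) = o2 a * o2 b := F.o2_mul a b (F.T_comm a ha) (F.T_comm b hb)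

theorem o1_inv (F : Frame x K T D Q d r c o1 o2) {a : G} (ha : a ∈ T) : o1 a⁻¹ = (o1 a)⁻¹ := by
  have h := F.o1_mul' (T.inv_mem ha) ha
  rw [inv_mul_cancel, F.o1_one] at h
  exact eq_inv_of_mul_eq_one_left h.symm

theorem o2_inv (F : Frame x K T D Q d r c o1 o2) {a : G} (ha : a ∈ T) : o2 a⁻¹ = (o2 a)⁻¹ := by
  have h := F.o2_mul' (T.inv_mem ha) ha
  rw [inv_mul_cancel, F.o2_one] at h
  exact eq_inv_of_mul_eq_one_left h.symm

theorem units_sq (u : ℤˣ) : u * u = 1 := by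
  rcases Int.units_eq_one_or u with h | h <;> rw [h] <;> rfl

theorem o1_sq (F : Frame x K T D Q d r c o1 o2) {a : G} (ha : a ∈ T) : o1 (a * a) = 1 := by
  rw [F.o1_mul' ha ha, units_sq]

/-- the image in the outer automorphism group of an involution -/
theorem o2_invol (F : Frame x K T D Q d r c o1 o2) {a : G} (ha : a ∈ T) (haa : a * a = 1) :
    o2 a * o2 a = 1 := by rw [← F.o2_mul' ha ha, haa, F.o2_one]

/-! ### the dihedral group `D` -/

theorem crk (F : Frame x K T D Q d r c o1 o2) (k : ℤ) : c * r ^ k * c⁻¹ = r ^ (-k) := by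
  have h : c * r ^ k * c⁻¹ = (c * r * c⁻¹) ^ k := (conj_zpow).symm
  rw [h, F.crc, inv_zpow, zpow_neg]

theorem c_rk (F : Frame x K T D Q d r c o1 o2) (k : ℤ) : c * r ^ k = r ^ (-k) * c := by
  rw [← F.crk k, inv_mul_cancel_right]

/-- reflections are involutions -/
theorem refl_sq (F : Frame x K T D Q d r c o1 o2) (k : ℤ) : r ^ k * c * (r ^ k * c) = 1 := by
  calc r ^ k * c * (r ^ k * c) = r ^ k * (c * r ^ k) * c := by group
    _ = r ^ k * (r ^ (-k) * c) * c := by rw [F.c_rk]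
    _ = (r ^ k * r ^ (-k)) * (c * c) := by group
    _ = 1 := by rw [F.cc, ← zpow_add, add_neg_cancel, zpow_zero, one_mul]

theorem refl_ne (F : Frame x K T D Q d r c o1 o2) (k l : ℤ) : r ^ k * c ≠ r ^ l := by
  intro h
  apply F.c_not (-k + l)
  rw [zpow_add, ← h, ← mul_assoc, ← zpow_add, neg_add_cancel, zpow_zero, one_mul]

/-- `r ^ k = 1` iff `2^(d-1)` divides `k` -/
theorem rk_one (F : Frame x K T D Q d r c o1 o2) (k : ℤ) : r ^ k = 1 ↔ (2 : ℤ) ^ (d - 1) ∣ k := by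
  rw [← orderOf_dvd_iff_zpow_eq_one, F.or_eq]
  norm_num

/-- every element of `T` maps `c` to a reflection (`d ≥ 3`) -/
theorem conj_c (F : Frame x K T D Q d r c o1 o2) (hd : 3 ≤ d) {t : G} (ht : t ∈ T) :
    ∃ k : ℤ, t * c * t⁻¹ = r ^ k * c := by
  -- `t r t⁻¹` is a rotation
  obtain ⟨l, hl⟩ := F.D_form _ (F.D_norm ht F.r_mem)
  have hl' : t * r * t⁻¹ = r ^ l := by
    rcases hl with h | h
    · exact h
    · exfalso
      have h1 : t * r ^ (2 : ℤ) * t⁻¹ = 1 := by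
        have e2 : t * r ^ (2 : ℤ) * t⁻¹ = (t * r * t⁻¹) * (t * r * t⁻¹) := by
          rw [zpow_two]; group
        rw [e2, h, F.refl_sq]
      have h2 : r ^ (2 : ℤ) = 1 := by
        have : r ^ (2 : ℤ) = t⁻¹ * (t * r ^ (2 : ℤ) * t⁻¹) * t := by group
        rw [this, h1]; group
      rw [F.rk_one] at h2
      have h3 : (2 : ℤ) ^ 2 ∣ 2 ^ (d - 1) := pow_dvd_pow 2 (by omega)
      have h4 := h3.trans h2
      norm_num at h4
  obtain ⟨k, hk⟩ := F.D_form _ (F.D_norm ht F.c_mem)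
  rcases hk with h | h
  · exfalso
    -- the map is injective, so `c` is a rotation
    have hinj : ∀ m : ℤ, t * r ^ m * t⁻¹ = r ^ (l * m) := by
      intro m
      rw [← conj_zpow, hl', zpow_mul]
    have hln : ∀ m : ℤ, r ^ (l * m) = 1 → r ^ m = 1 := by
      intro m hm
      rw [← hinj] at hm
      have : r ^ m = t⁻¹ * (t * r ^ m * t⁻¹) * t := by group
      rw [this, hm]; group
    -- `l` is odd
    have hodd : Odd l := by
      by_contra heven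
      rw [Int.not_odd_iff_even] at heven
      obtain ⟨j, hj⟩ := heven
      have h5 : r ^ (l * 2 ^ (d - 2)) = 1 := by
        rw [F.rk_one, hj]
        refine ⟨j, ?_⟩
        have : d - 1 = (d - 2) + 1 := by omega
        rw [this, pow_succ]; ring
      have h6 := hln _ h5
      rw [F.rk_one] at h6
      have h7 : (2 : ℤ) ^ (d - 1) ≤ 2 ^ (d - 2) := Int.le_of_dvd (by positivity) h6
      have h8 : d - 1 = (d - 2) + 1 := by omega
      rw [h8, pow_succ] at h7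
      have h9 : (0 : ℤ) < 2 ^ (d - 2) := by positivity
      omega
    have hcop : IsCoprime l ((2 : ℤ) ^ (d - 1)) := by
      apply IsCoprime.pow_right
      obtain ⟨j, hj⟩ := hodd
      exact ⟨1, -j, by rw [hj]; ring⟩
    obtain ⟨a, b, hab⟩ := hcop
    have h10 : t * r ^ (a * k) * t⁻¹ = r ^ k := by
      rw [hinj]
      have : l * (a * k) = k + (2 : ℤ) ^ (d - 1) * (-(b * k)) := by
        linear_combination k * hab
      rw [this, zpow_add, (F.rk_one _).2 (Dvd.intro _ rfl), mul_one]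
    rw [← h] at h10
    have h11 : r ^ (a * k) = c := by
      have := congrArg (fun g => t⁻¹ * g * t) h10
      simp only [mul_assoc, inv_mul_cancel_left, inv_mul_cancel, mul_one] at this
      exact this
    exact F.c_not _ h11.symm
  · exact ⟨k, h⟩

/-- the central involution of `D`, `d ≥ 2` -/
theorem z_sq (F : Frame x K T D Q d r c o1 o2) : r ^ 2 ^ (d - 2) * r ^ 2 ^ (d - 2) = 1 := by
  rw [← pow_add, ← orderOf_dvd_iff_pow_eq_one, F.or_eq]
  have h : d - 1 = (d - 2) + 1 := by have := F.d_ge; omega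
  rw [h, pow_succ, mul_two]

theorem z_ne (F : Frame x K T D Q d r c o1 o2) : r ^ 2 ^ (d - 2) ≠ 1 := by
  intro h
  rw [← orderOf_dvd_iff_pow_eq_one, F.or_eq] at h
  have h1 : 2 ^ (d - 1) ≤ 2 ^ (d - 2) := Nat.le_of_dvd (by positivity) h
  have h2 : d - 1 = (d - 2) + 1 := by have := F.d_ge; omega
  rw [h2, pow_succ] at h1
  have h9 : 0 < 2 ^ (d - 2) := by positivity
  omega

end Frame

end Cfsg.Agent.GH.L2One
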